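import Mathlib
import Cfsg.Prelude.Def_PLocal

/-!
# Failure of factorization for `p = 2`, stated inside the ambient group

`R` normalizes the elementary abelian 2-group `Ω`. A family `F` of subgroups of `R` over `C = C_R(Ω)` with
`E / C ≅ SL₂(2)`, acting on pairwise independent four-groups `[Ω, E]`, commuting modulo `C`, permuted by `R`, and
containing enough of every best offender. The theorem producing such a family is elsewhere; here we record the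
elementary consequences.
-/

set_option autoImplicit false

namespace Cfsg.Agent.Lib.Amalgam.FFLocal

open Cfsg

/-- `SL₂(2)`. -/
abbrev SL22 := Matrix.SpecialLinearGroup (Fin 2) (ZMod 2)

theorem sl_cases : ∀ a : SL22, a ^ 3 = 1 ∨ a ^ 2 = 1 := by decide
theorem sl_mul : ∀ a b : SL22, a ^ 2 = 1 → a ≠ 1 → b ^ 2 = 1 → b ≠ 1 → (a * b) ^ 3 = 1 := by decide
theorem sl_cube : ∀ x y : SL22, x ^ 3 = 1 → x ≠ 1 → y ^ 3 = 1 → y = 1 ∨ y * x⁻¹ = 1 ∨ y * x = 1 := by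
  decide
theorem sl_exists : ∃ x : SL22, x ^ 3 = 1 ∧ x ≠ 1 := by decide
theorem sl_comm : ∀ x y : SL22, x ^ 3 = 1 → y ^ 3 = 1 → x * y = y * x := by decide
theorem sl_inv : ∀ b x : SL22, b ^ 2 = 1 → b ≠ 1 → x ^ 3 = 1 → b * x * b⁻¹ * x = 1 := by decide
theorem sl_exists_inv : ∀ b : SL22, b ^ 2 = 1 → b ≠ 1 → ∃ x : SL22, x ^ 3 = 1 ∧ x ≠ 1 ∧ b * x * b⁻¹ * x = 1 := by
  decide

variable {G : Type*} [Group G]

/-- The conclusion of the FF structure theorem inside `G`. -/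
structure IsFF (Ω R : Subgroup G) (F : Set (Subgroup G)) : Prop where
  norm : R ≤ Subgroup.normalizer (Ω : Set G)
  le : ∀ E ∈ F, E ≤ R
  ge : ∀ E ∈ F, R ⊓ Subgroup.centralizer (Ω : Set G) ≤ E
  conj : ∀ r ∈ R, ∀ E ∈ F, E.map (MulAut.conj r).toMonoidHom ∈ F
  s3 : ∀ E ∈ F, ∃ ψ : E →* SL22, Function.Surjective ψ ∧
    ∀ e : E, ψ e = 1 ↔ (e : G) ∈ Subgroup.centralizer (Ω : Set G)
  card_com : ∀ E ∈ F, Nat.card (⁅Ω, E⁆ : Subgroup G) = 4
  split : ∀ E ∈ F, ⁅Ω, E⁆ ⊔ (Ω ⊓ Subgroup.centralizer (E : Set G)) = Ω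
  comm : ∀ E ∈ F, ∀ E' ∈ F, E ≠ E' → ∀ e ∈ E, ∀ e' ∈ E',
    e * e' * e⁻¹ * e'⁻¹ ∈ Subgroup.centralizer (Ω : Set G)
  indep : ∀ E ∈ F, ∀ E' ∈ F, E ≠ E' → ⁅Ω, E⁆ ⊓ ⁅Ω, E'⁆ = ⊥
  gen : ∀ A : Subgroup G, A ≤ R → IsBestOffenderOn 2 Ω A →
    A ≤ Subgroup.closure ({b | b ∈ A ∧ ∃ E ∈ F, b ∈ E} ∪ (R ⊓ Subgroup.centralizer (Ω : Set G) : Subgroup G))

namespace IsFF

variable {Ω R : Subgroup G} {F : Set (Subgroup G)} (hF : IsFF Ω R F)
include hF

/-- `Z = C(Ω)`; `Z` is normalized by `R`. -/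
theorem conj_mem_Z {r z : G} (hr : r ∈ R) (hz : z ∈ Subgroup.centralizer (Ω : Set G)) :
    r * z * r⁻¹ ∈ Subgroup.centralizer (Ω : Set G) := by
  rw [Subgroup.mem_centralizer_iff] at hz ⊢
  intro v hv
  have h1 : r⁻¹ * v * r⁻¹⁻¹ ∈ Ω :=
    (Subgroup.mem_normalizer_iff.mp (hF.norm (inv_mem hr)) v).mp hv
  have h2 := hz _ h1
  calc v * (r * z * r⁻¹) = r * ((r⁻¹ * v * r⁻¹⁻¹) * z) * r⁻¹ := by group
    _ = r * (z * (r⁻¹ * v * r⁻¹⁻¹)) * r⁻¹ := by rw [h2]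
    _ = r * z * r⁻¹ * v := by group

variable {E : Subgroup G} (hE : E ∈ F)
include hE

theorem sq_or_cube {e : G} (he : e ∈ E) :
    e ^ 3 ∈ Subgroup.centralizer (Ω : Set G) ∨ e ^ 2 ∈ Subgroup.centralizer (Ω : Set G) := by
  obtain ⟨ψ, -, hψ⟩ := hF.s3 E hE
  rcases sl_cases (ψ ⟨e, he⟩) with h | h
  · left
    rw [← map_pow, hψ] at h
    exact h
  · right
    rw [← map_pow, hψ] at h
    exact h

theorem cube_mul {e f : G} (he : e ∈ E) (hf : f ∈ E) (he2 : e ^ 2 ∈ Subgroup.centralizer (Ω : Set G))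
    (he1 : e ∉ Subgroup.centralizer (Ω : Set G)) (hf2 : f ^ 2 ∈ Subgroup.centralizer (Ω : Set G))
    (hf1 : f ∉ Subgroup.centralizer (Ω : Set G)) :
    (e * f) ^ 3 ∈ Subgroup.centralizer (Ω : Set G) := by
  obtain ⟨ψ, -, hψ⟩ := hF.s3 E hE
  have h := sl_mul (ψ ⟨e, he⟩) (ψ ⟨f, hf⟩)
    (by rw [← map_pow, hψ]; exact he2) (by rw [Ne, hψ]; exact he1)
    (by rw [← map_pow, hψ]; exact hf2) (by rw [Ne, hψ]; exact hf1)
  rw [← map_mul, ← map_pow, hψ] at h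
  exact h

theorem cube_cases {x y : G} (hx : x ∈ E) (hy : y ∈ E) (hx3 : x ^ 3 ∈ Subgroup.centralizer (Ω : Set G))
    (hx1 : x ∉ Subgroup.centralizer (Ω : Set G)) (hy3 : y ^ 3 ∈ Subgroup.centralizer (Ω : Set G)) :
    y ∈ Subgroup.centralizer (Ω : Set G) ∨ y * x⁻¹ ∈ Subgroup.centralizer (Ω : Set G) ∨
      y * x ∈ Subgroup.centralizer (Ω : Set G) := by
  obtain ⟨ψ, -, hψ⟩ := hF.s3 E hE
  have h := sl_cube (ψ ⟨x, hx⟩) (ψ ⟨y, hy⟩)
    (by rw [← map_pow, hψ]; exact hx3) (by rw [Ne, hψ]; exact hx1) (by rw [← map_pow, hψ]; exact hy3)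
  rcases h with h | h | h
  · left; rw [hψ] at h; exact h
  · right; left
    rw [← map_inv, ← map_mul, hψ] at h
    exact h
  · right; right
    rw [← map_mul, hψ] at h
    exact h

theorem exists_cube : ∃ x ∈ E, x ^ 3 ∈ Subgroup.centralizer (Ω : Set G) ∧
    x ∉ Subgroup.centralizer (Ω : Set G) := by
  obtain ⟨ψ, hs, hψ⟩ := hF.s3 E hE
  obtain ⟨x, hx3, hx1⟩ := sl_exists
  obtain ⟨e, rfl⟩ := hs x
  refine ⟨e, e.2, ?_, ?_⟩
  · rw [← map_pow, hψ] at hx3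
    exact hx3
  · rw [Ne, hψ] at hx1
    exact hx1

theorem cube_comm {x y : G} (hx : x ∈ E) (hy : y ∈ E) (hx3 : x ^ 3 ∈ Subgroup.centralizer (Ω : Set G))
    (hy3 : y ^ 3 ∈ Subgroup.centralizer (Ω : Set G)) :
    x * y * x⁻¹ * y⁻¹ ∈ Subgroup.centralizer (Ω : Set G) := by
  obtain ⟨ψ, -, hψ⟩ := hF.s3 E hE
  have h := sl_comm (ψ ⟨x, hx⟩) (ψ ⟨y, hy⟩)
    (by rw [← map_pow, hψ]; exact hx3) (by rw [← map_pow, hψ]; exact hy3)
  have h2 : ψ (⟨x, hx⟩ * ⟨y, hy⟩ * (⟨x, hx⟩)⁻¹ * (⟨y, hy⟩)⁻¹) = 1 := by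
    rw [map_mul, map_mul, map_mul, map_inv, map_inv, h]
    group
  rw [hψ] at h2
  exact h2

theorem inv_of_sq {b x : G} (hb : b ∈ E) (hx : x ∈ E) (hb2 : b ^ 2 ∈ Subgroup.centralizer (Ω : Set G))
    (hb1 : b ∉ Subgroup.centralizer (Ω : Set G)) (hx3 : x ^ 3 ∈ Subgroup.centralizer (Ω : Set G)) :
    b * x * b⁻¹ * x ∈ Subgroup.centralizer (Ω : Set G) := by
  obtain ⟨ψ, -, hψ⟩ := hF.s3 E hE
  have h := sl_inv (ψ ⟨b, hb⟩) (ψ ⟨x, hx⟩)
    (by rw [← map_pow, hψ]; exact hb2) (by rw [Ne, hψ]; exact hb1) (by rw [← map_pow, hψ]; exact hx3)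
  rw [← map_inv, ← map_mul, ← map_mul, ← map_mul, hψ] at h
  exact h

omit hE in
/-- `⟨F⟩ ≤ R`. -/
theorem sSup_le_R : sSup F ≤ R := sSup_le hF.le

/-- Every member of `F` is normalized by `⟨F⟩`. -/
theorem sSup_le_normalizer : sSup F ≤ Subgroup.normalizer (E : Set G) := by
  refine sSup_le fun E' hE' => ?_
  by_cases hEE : E' = E
  · rw [hEE]
    exact Subgroup.le_normalizer
  have key : ∀ e' ∈ E', ∀ e ∈ E, e' * e * e'⁻¹ ∈ E := by
    intro e' he' e he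
    have h1 := hF.comm E' hE' E hE hEE e' he' e he
    have h2 : e' * e * e'⁻¹ * e⁻¹ ∈ R ⊓ Subgroup.centralizer (Ω : Set G) := by
      refine Subgroup.mem_inf.mpr ⟨?_, h1⟩
      have h3 := hF.le E' hE' he'
      have h4 := hF.le E hE he
      exact mul_mem (mul_mem (mul_mem h3 h4) (inv_mem h3)) (inv_mem h4)
    have h3 := hF.ge E hE h2
    have h4 : e' * e * e'⁻¹ = (e' * e * e'⁻¹ * e⁻¹) * e := by group
    rw [h4]
    exact mul_mem h3 he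
  intro e' he'
  rw [Subgroup.mem_normalizer_iff]
  intro e
  refine ⟨key e' he' e, fun h => ?_⟩
  have := key e'⁻¹ (inv_mem he') _ h
  simpa [mul_assoc] using this

omit hE in
/-- `⟨F⟩` is normalized by `R`. -/
theorem conj_mem_sSup {r h : G} (hr : r ∈ R) (hh : h ∈ sSup F) : r * h * r⁻¹ ∈ sSup F := by
  have hle : sSup F ≤ (sSup F).comap (MulAut.conj r).toMonoidHom := by
    refine sSup_le fun E hE e he => ?_
    rw [Subgroup.mem_comap]
    exact (le_sSup (hF.conj r hr E hE)) (Subgroup.mem_map_of_mem _ he)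
  exact hle hh

end IsFF

/-! ### Commuting modulo a subgroup -/

section Mod

variable {R Z : Subgroup G}

theorem closure_mod_comm (hZ : ∀ r ∈ R, ∀ z ∈ Z, r * z * r⁻¹ ∈ Z) {S : Set G}
    (hSR : S ⊆ R) (hc : ∀ s ∈ S, ∀ t ∈ S, s * t * s⁻¹ * t⁻¹ ∈ Z) :
    ∀ a ∈ Subgroup.closure S, ∀ b ∈ Subgroup.closure S, a * b * a⁻¹ * b⁻¹ ∈ Z := by
  have hcl : Subgroup.closure S ≤ R := (Subgroup.closure_le R).mpr hSR
  have step1 : ∀ s ∈ S, ∀ b ∈ Subgroup.closure S, s * b * s⁻¹ * b⁻¹ ∈ Z := by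
    intro s hs b hb
    induction hb using Subgroup.closure_induction with
    | mem y hy => exact hc s hs y hy
    | one => simp [one_mem]
    | mul x y hx _ h1 h2 =>
      have e : s * (x * y) * s⁻¹ * (x * y)⁻¹ =
          (s * x * s⁻¹ * x⁻¹) * (x * (s * y * s⁻¹ * y⁻¹) * x⁻¹) := by group
      rw [e]
      exact mul_mem h1 (hZ x (hcl hx) _ h2)
    | inv x hx h1 =>
      have e : s * x⁻¹ * s⁻¹ * x⁻¹⁻¹ = x⁻¹ * (s * x * s⁻¹ * x⁻¹)⁻¹ * x⁻¹⁻¹ := by group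
      rw [e]
      exact hZ x⁻¹ (inv_mem (hcl hx)) _ (inv_mem h1)
  intro a ha b hb
  induction ha using Subgroup.closure_induction with
  | mem y hy => exact step1 y hy b hb
  | one => simp [one_mem]
  | mul x y hx _ h1 h2 =>
    have e : (x * y) * b * (x * y)⁻¹ * b⁻¹ =
        (x * (y * b * y⁻¹ * b⁻¹) * x⁻¹) * (x * b * x⁻¹ * b⁻¹) := by group
    rw [e]
    exact mul_mem (hZ x (hcl hx) _ h2) h1
  | inv x hx h1 =>
    have e : x⁻¹ * b * x⁻¹⁻¹ * b⁻¹ = x⁻¹ * (x * b * x⁻¹ * b⁻¹)⁻¹ * x⁻¹⁻¹ := by group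
    rw [e]
    exact hZ x⁻¹ (inv_mem (hcl hx)) _ (inv_mem h1)

/-- If `a`, `b` commute modulo `Z` and their cubes lie in `Z`, so does the cube of `a b`. -/
theorem cube_mul_mod (hZ : ∀ r ∈ R, ∀ z ∈ Z, r * z * r⁻¹ ∈ Z) {a b : G} (ha : a ∈ R) (hb : b ∈ R)
    (hab : a * b * a⁻¹ * b⁻¹ ∈ Z) (ha3 : a ^ 3 ∈ Z) (hb3 : b ^ 3 ∈ Z) : (a * b) ^ 3 ∈ Z := by
  have hn : (Z.subgroupOf R).Normal := by
    constructor
    intro n hn c
    rw [Subgroup.mem_subgroupOf] at hn ⊢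
    exact hZ c c.2 n hn
  set π := QuotientGroup.mk' (Z.subgroupOf R) with hπ
  have hmem : ∀ x : R, π x = 1 ↔ (x : G) ∈ Z := by
    intro x
    rw [hπ, QuotientGroup.mk'_apply, QuotientGroup.eq_one_iff, Subgroup.mem_subgroupOf]
  set a' : R := ⟨a, ha⟩
  set b' : R := ⟨b, hb⟩
  have h1 : π (a' * b' * a'⁻¹ * b'⁻¹) = 1 := (hmem _).mpr hab
  have hcomm : Commute (π a') (π b') := by
    rw [map_mul, map_mul, map_mul, map_inv, map_inv] at h1
    have h2 : π a' * π b' = π b' * π a' := by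
      have h3 : π a' * π b' * (π a')⁻¹ = π b' := by
        rwa [mul_inv_eq_one] at h1
      rw [mul_inv_eq_iff_eq_mul] at h3
      exact h3
    exact h2
  have h2 : π (a' * b') ^ 3 = 1 := by
    rw [map_mul, hcomm.mul_pow, ← map_pow, ← map_pow, (hmem _).mpr ha3, (hmem _).mpr hb3, one_mul]
  rw [← map_pow, hmem] at h2
  exact h2

theorem closure_mod_cube (hZ : ∀ r ∈ R, ∀ z ∈ Z, r * z * r⁻¹ ∈ Z) {S : Set G}
    (hSR : S ⊆ R) (hc : ∀ s ∈ S, ∀ t ∈ S, s * t * s⁻¹ * t⁻¹ ∈ Z) (h3 : ∀ s ∈ S, s ^ 3 ∈ Z) :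
    ∀ a ∈ Subgroup.closure S, a ^ 3 ∈ Z := by
  have hcl : Subgroup.closure S ≤ R := (Subgroup.closure_le R).mpr hSR
  have hcomm := closure_mod_comm hZ hSR hc
  intro a ha
  induction ha using Subgroup.closure_induction with
  | mem y hy => exact h3 y hy
  | one => simp [one_mem]
  | mul x y hx hy h1 h2 => exact cube_mul_mod hZ (hcl hx) (hcl hy) (hcomm x hx y hy) h1 h2
  | inv x hx h1 =>
    rw [inv_pow]
    exact inv_mem h1

end Mod

/-! ### The normal subgroup `N₃` -/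

section N3

variable {Ω R : Subgroup G} {F : Set (Subgroup G)}

/-- Generators of `N₃`: elements of members of `F` whose cube centralizes `Ω`, and `C_R(Ω)`. -/
def gens3 (Ω R : Subgroup G) (F : Set (Subgroup G)) : Set G :=
  {e | ∃ E ∈ F, e ∈ E ∧ e ^ 3 ∈ Subgroup.centralizer (Ω : Set G)} ∪
    ((R ⊓ Subgroup.centralizer (Ω : Set G) : Subgroup G) : Set G)

/-- The subgroup `N₃`, with `N₃ / C_R(Ω)` an abelian group of exponent 3. -/
def n3 (Ω R : Subgroup G) (F : Set (Subgroup G)) : Subgroup G := Subgroup.closure (gens3 Ω R F)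

theorem cL_le_n3 : R ⊓ Subgroup.centralizer (Ω : Set G) ≤ n3 Ω R F := fun _ h =>
  Subgroup.subset_closure (Or.inr h)

theorem mem_n3_of_cube {E : Subgroup G} (hE : E ∈ F) {e : G} (he : e ∈ E)
    (h3 : e ^ 3 ∈ Subgroup.centralizer (Ω : Set G)) : e ∈ n3 Ω R F :=
  Subgroup.subset_closure (Or.inl ⟨E, hE, he, h3⟩)

variable (hF : IsFF Ω R F)
include hF

theorem gens3_le : gens3 Ω R F ⊆ R := by
  rintro e (⟨E, hE, he, -⟩ | he)
  · exact hF.le E hE he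
  · exact (Subgroup.mem_inf.mp he).1

theorem n3_le : n3 Ω R F ≤ R := (Subgroup.closure_le R).mpr (gens3_le hF)

theorem gens3_comm : ∀ s ∈ gens3 Ω R F, ∀ t ∈ gens3 Ω R F,
    s * t * s⁻¹ * t⁻¹ ∈ Subgroup.centralizer (Ω : Set G) := by
  have hZ := fun r hr z hz => hF.conj_mem_Z (r := r) (z := z) hr hz
  have hle := gens3_le hF
  intro s hs t ht
  rcases hs with ⟨E, hE, he, hs3⟩ | hs
  · rcases ht with ⟨E', hE', he', ht3⟩ | ht
    · by_cases hEE : E = E'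
      · subst hEE
        exact hF.cube_comm hE he he' hs3 ht3
      · exact hF.comm E hE E' hE' hEE s he t he'
    · have ht2 := (Subgroup.mem_inf.mp ht).2
      have e : s * t * s⁻¹ * t⁻¹ = (s * t * s⁻¹) * t⁻¹ := rfl
      rw [e]
      exact mul_mem (hZ s (hF.le E hE he) t ht2) (inv_mem ht2)
  · have hs2 := (Subgroup.mem_inf.mp hs).2
    have htR : t ∈ R := hle ht
    have e : s * t * s⁻¹ * t⁻¹ = s * (t * s⁻¹ * t⁻¹) := by group
    rw [e]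
    exact mul_mem hs2 (hZ t htR _ (inv_mem hs2))

theorem n3_comm {a b : G} (ha : a ∈ n3 Ω R F) (hb : b ∈ n3 Ω R F) :
    a * b * a⁻¹ * b⁻¹ ∈ Subgroup.centralizer (Ω : Set G) :=
  closure_mod_comm (fun r hr z hz => hF.conj_mem_Z (r := r) (z := z) hr hz) (gens3_le hF)
    (gens3_comm hF) a ha b hb

theorem n3_cube {a : G} (ha : a ∈ n3 Ω R F) : a ^ 3 ∈ Subgroup.centralizer (Ω : Set G) := by
  refine closure_mod_cube (fun r hr z hz => hF.conj_mem_Z (r := r) (z := z) hr hz) (gens3_le hF)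
    (gens3_comm hF) ?_ a ha
  rintro s (⟨E, hE, he, hs3⟩ | hs)
  · exact hs3
  · exact pow_mem (Subgroup.mem_inf.mp hs).2 3

theorem conj_mem_n3 {r a : G} (hr : r ∈ R) (ha : a ∈ n3 Ω R F) : r * a * r⁻¹ ∈ n3 Ω R F := by
  have hle : n3 Ω R F ≤ (n3 Ω R F).comap (MulAut.conj r).toMonoidHom := by
    refine (Subgroup.closure_le _).mpr ?_
    rintro s (⟨E, hE, he, hs3⟩ | hs)
    · rw [SetLike.mem_coe, Subgroup.mem_comap]
      refine mem_n3_of_cube (hF.conj r hr E hE) (Subgroup.mem_map_of_mem _ he) ?_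
      simp only [MulEquiv.coe_toMonoidHom, MulAut.conj_apply]
      rw [conj_pow]
      exact hF.conj_mem_Z hr hs3
    · rw [SetLike.mem_coe, Subgroup.mem_comap]
      obtain ⟨h1, h2⟩ := Subgroup.mem_inf.mp hs
      refine cL_le_n3 (Subgroup.mem_inf.mpr ⟨?_, hF.conj_mem_Z hr h2⟩)
      exact mul_mem (mul_mem hr h1) (inv_mem hr)
  exact hle ha

/-- `[h, b] ∈ N₃` for `h ∈ ⟨F⟩` and `b` an involution modulo `C` in a member of `F`. -/
theorem comm_mem_n3 {E : Subgroup G} (hE : E ∈ F) {h b : G} (hh : h ∈ sSup F) (hb : b ∈ E)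
    (hb2 : b ^ 2 ∈ Subgroup.centralizer (Ω : Set G)) (hb1 : b ∉ Subgroup.centralizer (Ω : Set G)) :
    h * b * h⁻¹ * b⁻¹ ∈ n3 Ω R F := by
  have hhN := hF.sSup_le_normalizer hE hh
  have hhR := hF.sSup_le_R hh
  have he : h * b * h⁻¹ ∈ E := (Subgroup.mem_normalizer_iff.mp hhN b).mp hb
  have he2 : (h * b * h⁻¹) ^ 2 ∈ Subgroup.centralizer (Ω : Set G) := by
    rw [conj_pow]
    exact hF.conj_mem_Z hhR hb2
  have he1 : h * b * h⁻¹ ∉ Subgroup.centralizer (Ω : Set G) := by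
    intro hc
    apply hb1
    have := hF.conj_mem_Z (inv_mem hhR) hc
    simpa [mul_assoc] using this
  have hbi2 : b⁻¹ ^ 2 ∈ Subgroup.centralizer (Ω : Set G) := by
    rw [inv_pow]
    exact inv_mem hb2
  have hbi1 : b⁻¹ ∉ Subgroup.centralizer (Ω : Set G) := fun hc => hb1 (by simpa using inv_mem hc)
  have h3 := hF.cube_mul hE he (inv_mem hb) he2 he1 hbi2 hbi1
  exact mem_n3_of_cube hE (mul_mem he (inv_mem hb)) h3

end N3

end Cfsg.Agent.Lib.Amalgam.FFLocal
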