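import Mathlib
import Cfsg.Prelude.Def_JComponents
import Cfsg.Agent.Lib.PGroup.ThompsonG
import Cfsg.Agent.Lib.Basic.PCore
import Cfsg.Agent.Lib.Basic.MaxEA
import Cfsg.Agent.Lib.Amalgam.Vertex
import Cfsg.Agent.Lib.Amalgam.PElement

/-!
# Structure of `J(T)`-components (`Def_JComponents`)

`K` a `J(T)`-component, `Y = O₂(K)`, `Ω = Ω₁(Z(Y))`, `W = [Ω, K]`, `J = J(T)`.
The elements of `K` outside `Y` act without nontrivial fixed points on the four-group `W`,
`C_W(J)` has order 2, `S₀ = YJ` is a Sylow 2-subgroup of `KJ` and every member of `𝒜(T)` outside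
`C(W)` yields, on replacing a hyperplane, a member of `𝒜(T)` inside `C(W)` containing `W`.
-/

set_option autoImplicit false

namespace Cfsg.Agent.Lib.Amalgam.JComp

open Cfsg Cfsg.Agent.Lib.PGroup.ThompsonG
open Cfsg.Agent.Lib.Amalgam.Vertex (conj_mem_pCoreOf pCoreOf_le)
open Cfsg.Agent.Lib.Amalgam.PElement (omegaOne_le conj_mem_omegaOne)

variable {G : Type*} [Group G]

/-! ### Four-groups -/

section Four

variable {W : Subgroup G}

theorem comm_of_sq {a b : G} (h2 : ∀ w ∈ W, w * w = 1) (ha : a ∈ W) (hb : b ∈ W) : a * b = b * a := by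
  have h1 := h2 _ (mul_mem ha hb)
  have h3 := h2 _ ha
  have h4 := h2 _ hb
  have h5 : a⁻¹ = a := inv_eq_of_mul_eq_one_left h3
  have h6 : b⁻¹ = b := inv_eq_of_mul_eq_one_left h4
  have h7 : a * b = (a * b)⁻¹ := (inv_eq_of_mul_eq_one_left h1).symm
  rw [h7, mul_inv_rev, h5, h6]

variable [Finite G]

theorem four_cases (h4 : Nat.card W = 4) (h2 : ∀ w ∈ W, w * w = 1) {a b : G} (ha : a ∈ W)
    (hb : b ∈ W) (ha1 : a ≠ 1) (hb1 : b ≠ 1) (hab : a ≠ b) :
    ∀ v ∈ W, v = 1 ∨ v = a ∨ v = b ∨ v = a * b := by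
  classical
  haveI : Fintype G := Fintype.ofFinite G
  intro v hv
  have hsub : ({1, a, b, a * b} : Finset G) ⊆ (W : Set G).toFinite.toFinset := by
    intro y hy
    simp only [Finset.mem_insert, Finset.mem_singleton] at hy
    simp only [Set.Finite.mem_toFinset, SetLike.mem_coe]
    rcases hy with rfl | rfl | rfl | rfl
    · exact one_mem _
    · exact ha
    · exact hb
    · exact mul_mem ha hb
  have h5 : a⁻¹ = a := inv_eq_of_mul_eq_one_left (h2 a ha)
  have hc1 : a * b ≠ 1 := by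
    intro h
    apply hab
    have : a = b⁻¹ := eq_inv_of_mul_eq_one_left h
    rw [this, inv_eq_of_mul_eq_one_left (h2 b hb)]
  have hc2 : a * b ≠ a := by
    intro h
    exact hb1 (by simpa using h)
  have hc3 : a * b ≠ b := by
    intro h
    exact ha1 (by simpa using h)
  have hcard : ({1, a, b, a * b} : Finset G).card = 4 := by
    rw [Finset.card_insert_of_notMem, Finset.card_insert_of_notMem, Finset.card_insert_of_notMem,
      Finset.card_singleton]
    · simp only [Finset.mem_singleton]; exact hc3.symm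
    · simp only [Finset.mem_insert, Finset.mem_singleton, not_or]; exact ⟨hab, hc2.symm⟩
    · simp only [Finset.mem_insert, Finset.mem_singleton, not_or]
      exact ⟨ha1.symm, hb1.symm, hc1.symm⟩
  have hcard2 : ((W : Set G).toFinite.toFinset).card = 4 := by
    rw [← Set.ncard_eq_toFinset_card, ← Nat.card_coe_set_eq]
    exact h4
  have heq := Finset.eq_of_subset_of_card_le hsub (by rw [hcard, hcard2])
  have : v ∈ (W : Set G).toFinite.toFinset := by simpa using hv
  rw [← heq] at this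
  simpa using this

theorem exists_third (h4 : Nat.card W = 4) (a : G) : ∃ b ∈ W, b ≠ 1 ∧ b ≠ a := by
  classical
  by_contra hcon
  push Not at hcon
  have hsub : (W : Set G) ⊆ (({1, a} : Finset G) : Set G) := by
    intro b hb
    by_cases h1 : b = 1
    · simp [h1]
    · simp [hcon b hb h1]
  have h5 : Nat.card W ≤ ({1, a} : Finset G).card := by
    have := Set.ncard_le_ncard hsub (Finset.finite_toSet _)
    rw [Set.ncard_coe_finset] at this
    exact (Nat.card_coe_set_eq (W : Set G)).symm ▸ this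
  have h6 : ({1, a} : Finset G).card ≤ 2 := Finset.card_le_two
  omega

theorem exists_ne_one (h4 : Nat.card W = 4) : ∃ b ∈ W, b ≠ 1 := by
  obtain ⟨b, hb, h1, -⟩ := exists_third h4 (1 : G)
  exact ⟨b, hb, h1⟩

/-- If `g` normalizes `W` (a four-group) and fixes `a ≠ 1`, then `g` either fixes `b` or sends it
to `ab`. -/
theorem conj_cases (h4 : Nat.card W = 4) (h2 : ∀ w ∈ W, w * w = 1) {a b g : G} (ha : a ∈ W)
    (hb : b ∈ W) (ha1 : a ≠ 1) (hb1 : b ≠ 1) (hab : a ≠ b) (hgW : ∀ w ∈ W, g * w * g⁻¹ ∈ W)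
    (hga : g * a * g⁻¹ = a) : g * b * g⁻¹ = b ∨ g * b * g⁻¹ = a * b := by
  rcases four_cases h4 h2 ha hb ha1 hb1 hab _ (hgW b hb) with h | h | h | h
  · exfalso
    apply hb1
    have : g * b = g := by
      have := h
      rw [mul_inv_eq_one] at this
      exact this
    simpa using this
  · exfalso
    apply hab
    have : g * b * g⁻¹ = g * a * g⁻¹ := by rw [h, hga]
    have h' : g * b = g * a := by simpa using this
    exact (mul_left_cancel h').symm
  · exact Or.inl h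
  · exact Or.inr h

end Four


/-! ### Generalities -/

section Gen

/-- `[K, J]` is normalized by `J`. -/
theorem conj_mem_commutator_right {K J : Subgroup G} {j x : G} (hj : j ∈ J) (hx : x ∈ ⁅K, J⁆) :
    j * x * j⁻¹ ∈ ⁅K, J⁆ := by
  have hle : ⁅K, J⁆ ≤ (⁅K, J⁆).comap (MulAut.conj j).toMonoidHom := by
    rw [Subgroup.commutator_le]
    intro k hk j' hj'
    rw [Subgroup.mem_comap, commutatorElement_def]
    have h1 : (MulAut.conj j).toMonoidHom (k * j' * k⁻¹ * j'⁻¹) =
        (k * j * k⁻¹ * j⁻¹)⁻¹ * (k * (j * j') * k⁻¹ * (j * j')⁻¹) := by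
      simp only [MulEquiv.coe_toMonoidHom, MulAut.conj_apply]
      group
    rw [h1]
    have e1 := Subgroup.commutator_mem_commutator hk hj
    have e2 := Subgroup.commutator_mem_commutator hk (mul_mem hj hj')
    rw [commutatorElement_def] at e1 e2
    exact mul_mem (inv_mem e1) e2
  exact hle hx

/-- Elements of `K ⊔ J` are products if `J` normalizes `K`. -/
theorem exists_mul_of_mem_sup {K J : Subgroup G} (hJK : ∀ j ∈ J, ∀ k ∈ K, j * k * j⁻¹ ∈ K) {x : G}
    (hx : x ∈ K ⊔ J) : ∃ k ∈ K, ∃ j ∈ J, x = k * j := by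
  rw [Subgroup.sup_eq_closure] at hx
  induction hx using Subgroup.closure_induction with
  | mem y hy =>
    rcases hy with hy | hy
    · exact ⟨y, hy, 1, one_mem _, by simp⟩
    · exact ⟨1, one_mem _, y, hy, by simp⟩
  | one => exact ⟨1, one_mem _, 1, one_mem _, by simp⟩
  | mul y z _ _ hy hz =>
    obtain ⟨k, hk, j, hj, rfl⟩ := hy
    obtain ⟨k', hk', j', hj', rfl⟩ := hz
    refine ⟨k * (j * k' * j⁻¹), mul_mem hk (hJK j hj k' hk'), j * j', mul_mem hj hj', by group⟩
  | inv y _ hy =>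
    obtain ⟨k, hk, j, hj, rfl⟩ := hy
    refine ⟨j⁻¹ * k⁻¹ * j⁻¹⁻¹, hJK _ (inv_mem hj) _ (inv_mem hk), j⁻¹, inv_mem hj, by group⟩

/-- Conjugation by a normalizing element, as an automorphism of `K`. -/
def conjOfNormalizer (K : Subgroup G) {g : G} (hg : g ∈ Subgroup.normalizer (K : Set G)) : MulAut K where
  toFun k := ⟨g * k * g⁻¹, (Subgroup.mem_normalizer_iff.mp hg k).mp k.2⟩
  invFun k := ⟨g⁻¹ * k * g, by
    have h : g * (g⁻¹ * (k : G) * g) * g⁻¹ = k := by group
    exact (Subgroup.mem_normalizer_iff.mp hg _).mpr (by rw [h]; exact k.2)⟩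
  left_inv k := Subtype.ext (by simp [mul_assoc])
  right_inv k := Subtype.ext (by simp [mul_assoc])
  map_mul' a b := Subtype.ext (by simp [mul_assoc])

theorem conj_mem_pCoreOf_of_normalizer {K : Subgroup G} {p : ℕ} [Fact p.Prime] [Finite G] {g z : G}
    (hg : g ∈ Subgroup.normalizer (K : Set G)) (hz : z ∈ pCoreOf p K) :
    g * z * g⁻¹ ∈ pCoreOf p K := by
  obtain ⟨y, hy, rfl⟩ := hz
  have h := Subgroup.characteristic_iff_map_le.mp (Cfsg.Agent.Lib.Basic.PCore.pCore_char p K)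
    (conjOfNormalizer K hg)
  exact ⟨_, h ⟨y, hy, rfl⟩, rfl⟩

/-- Membership in `Ω₁(Z(X))` for the prime 2. -/
theorem mem_omegaCenterOf_iff {X : Subgroup G} {v : G} :
    v ∈ omegaCenterOf X ↔ v ∈ X ∧ (∀ u ∈ X, u * v = v * u) ∧ v ^ 2 = 1 := by
  constructor
  · intro hv
    unfold omegaCenterOf omegaOne at hv
    induction hv using Subgroup.closure_induction with
    | mem y hy =>
      obtain ⟨⟨h1, h2⟩, h3⟩ := hy
      exact ⟨h1, fun u hu => (Subgroup.mem_centralizer_iff.mp h2 u hu), h3⟩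
    | one => exact ⟨one_mem _, by simp, by simp⟩
    | mul a b _ _ ha hb =>
      obtain ⟨ha1, ha2, ha3⟩ := ha
      obtain ⟨hb1, hb2, hb3⟩ := hb
      refine ⟨mul_mem ha1 hb1, fun u hu => ?_, ?_⟩
      · rw [← mul_assoc, ha2 u hu, mul_assoc, hb2 u hu, mul_assoc]
      · have hc : Commute a b := (ha2 b hb1).symm
        rw [hc.mul_pow, ha3, hb3, one_mul]
    | inv a _ ha =>
      obtain ⟨ha1, ha2, ha3⟩ := ha
      refine ⟨inv_mem ha1, fun u hu => ?_, by rw [inv_pow, ha3, inv_one]⟩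
      have := ha2 u hu
      rw [eq_inv_mul_iff_mul_eq, ← mul_assoc, ← this, mul_assoc, mul_inv_cancel, mul_one]
  · rintro ⟨h1, h2, h3⟩
    apply Subgroup.subset_closure
    exact ⟨⟨h1, Subgroup.mem_centralizer_iff.mpr h2⟩, h3⟩

theorem conj_mem_omegaCenterOf {X : Subgroup G} {g v : G}
    (hg : g ∈ Subgroup.normalizer (X : Set G)) (hv : v ∈ omegaCenterOf X) :
    g * v * g⁻¹ ∈ omegaCenterOf X := by
  rw [mem_omegaCenterOf_iff] at hv ⊢
  obtain ⟨h1, h2, h3⟩ := hv
  refine ⟨(Subgroup.mem_normalizer_iff.mp hg _).mp h1, fun u hu => ?_, ?_⟩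
  · have hu' : g⁻¹ * u * g ∈ X := by
      rw [Subgroup.mem_normalizer_iff] at hg
      apply (hg _).mpr
      have : g * (g⁻¹ * u * g) * g⁻¹ = u := by group
      rwa [this]
    have h4 := h2 _ hu'
    calc u * (g * v * g⁻¹) = g * ((g⁻¹ * u * g) * v) * g⁻¹ := by group
      _ = g * (v * (g⁻¹ * u * g)) * g⁻¹ := by rw [h4]
      _ = g * v * g⁻¹ * u := by group
  · rw [← MulAut.conj_apply, ← map_pow, h3, map_one]

theorem conj_mem_wOf [Finite G] {K : Subgroup G} {g z : G} (hg : g ∈ Subgroup.normalizer (K : Set G))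
    (hz : z ∈ wOf K) : g * z * g⁻¹ ∈ wOf K := by
  have hle : wOf K ≤ (wOf K).comap (MulAut.conj g).toMonoidHom := by
    unfold wOf
    rw [Subgroup.commutator_le]
    intro a ha k hk
    rw [Subgroup.mem_comap, map_commutatorElement]
    apply Subgroup.commutator_mem_commutator
    · exact conj_mem_omegaCenterOf
        (by
          rw [Subgroup.mem_normalizer_iff]
          intro y
          constructor
          · exact conj_mem_pCoreOf_of_normalizer hg
          · intro hy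
            have := conj_mem_pCoreOf_of_normalizer (inv_mem hg) hy
            simpa [mul_assoc] using this) ha
    · exact (Subgroup.mem_normalizer_iff.mp hg k).mp hk
  exact hle hz

theorem le_normalizer_self (K : Subgroup G) : K ≤ Subgroup.normalizer (K : Set G) :=
  Subgroup.le_normalizer

theorem normalizer_pCoreOf {K : Subgroup G} {p : ℕ} [Fact p.Prime] [Finite G] {g : G}
    (hg : g ∈ Subgroup.normalizer (K : Set G)) :
    g ∈ Subgroup.normalizer (pCoreOf p K : Set G) := by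
  rw [Subgroup.mem_normalizer_iff]
  intro y
  constructor
  · exact conj_mem_pCoreOf_of_normalizer hg
  · intro hy
    have := conj_mem_pCoreOf_of_normalizer (inv_mem hg) hy
    simpa [mul_assoc] using this

end Gen


/-! ### The structure of a `J(T)`-component -/

section JC

variable [Finite G] {T K : Subgroup G}

theorem core_isP : IsPGroup 2 (pCoreOf 2 K) :=
  (Cfsg.Agent.Lib.Basic.PCore.pCore_isPGroup (G := K) 2).map _

theorem J_comm (hK : IsJComponent T K) : ⁅K, thompsonSubgroupOf 2 T⁆ = K := hK.2.1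

theorem J_norm (hK : IsJComponent T K) {j k : G} (hj : j ∈ thompsonSubgroupOf 2 T) (hk : k ∈ K) :
    j * k * j⁻¹ ∈ K := by
  have hc := J_comm hK
  rw [← hc] at hk ⊢
  exact conj_mem_commutator_right hj hk

theorem J_le_N (hK : IsJComponent T K) : thompsonSubgroupOf 2 T ≤ Subgroup.normalizer (K : Set G) := by
  intro j hj
  rw [Subgroup.mem_normalizer_iff]
  intro k
  refine ⟨J_norm hK hj, fun hk => ?_⟩
  have := J_norm hK (inv_mem hj) hk
  simpa [mul_assoc] using this

theorem sup_le_N (hK : IsJComponent T K) :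
    K ⊔ thompsonSubgroupOf 2 T ≤ Subgroup.normalizer (K : Set G) :=
  sup_le Subgroup.le_normalizer (J_le_N hK)

theorem card_w (hK : IsJComponent T K) : Nat.card (wOf K) = 4 := hK.2.2.2.2.1

theorem sq_w (hK : IsJComponent T K) : ∀ w ∈ wOf K, w * w = 1 := hK.2.2.2.2.2

theorem w_comm (hK : IsJComponent T K) {a b : G} (ha : a ∈ wOf K) (hb : b ∈ wOf K) : a * b = b * a :=
  comm_of_sq (sq_w hK) ha hb

theorem index3 (hK : IsJComponent T K) : (pCoreOf 2 K).relIndex K = 3 := hK.2.2.1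

theorem core_le : pCoreOf 2 K ≤ K := pCoreOf_le

/-- A subgroup containing `O₂(K)` and an element of `K` outside it contains `K`. -/
theorem le_of_core_le (hK : IsJComponent T K) {H : Subgroup G} (hY : pCoreOf 2 K ≤ H) {x : G}
    (hx : x ∈ K) (hxY : x ∉ pCoreOf 2 K) (hxH : x ∈ H) : K ≤ H := by
  have hle : pCoreOf 2 K ≤ H ⊓ K := le_inf hY core_le
  have hmul := Subgroup.relIndex_mul_relIndex (pCoreOf 2 K) (H ⊓ K) K hle inf_le_right
  rw [index3 hK] at hmul
  have h3 : Nat.Prime 3 := by norm_num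
  rcases (Nat.prime_mul_iff.mp (hmul ▸ h3)) with ⟨_, h⟩ | ⟨_, h⟩
  · rw [Subgroup.relIndex_eq_one] at h
    exact h.trans inf_le_left
  · rw [Subgroup.relIndex_eq_one] at h
    exact absurd (h ⟨hxH, hx⟩) hxY

theorem exists_odd (hK : IsJComponent T K) : ∃ x ∈ K, Odd (orderOf x) ∧ x ∉ pCoreOf 2 K := by
  by_contra hcon
  push Not at hcon
  have hle : K ≤ pCoreOf 2 K := by
    calc K = Subgroup.closure {g : G | g ∈ K ∧ Odd (orderOf g)} := hK.1.symm
      _ ≤ pCoreOf 2 K := by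
        rw [Subgroup.closure_le]
        rintro x ⟨hx, hodd⟩
        exact hcon x hx hodd
  have h3 := index3 hK
  rw [Subgroup.relIndex_eq_one.mpr hle] at h3
  omega

theorem omega_comm {w y : G} (hw : w ∈ omegaCenterOf (pCoreOf 2 K)) (hy : y ∈ pCoreOf 2 K) :
    y * w = w * y :=
  (mem_omegaCenterOf_iff.mp hw).2.1 y hy

theorem omega_le : omegaCenterOf (pCoreOf 2 K) ≤ pCoreOf 2 K := fun _ h =>
  (mem_omegaCenterOf_iff.mp h).1

theorem w_le_omega : wOf K ≤ omegaCenterOf (pCoreOf 2 K) := by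
  unfold wOf
  rw [Subgroup.commutator_le]
  intro a ha k hk
  rw [commutatorElement_def]
  have h1 : a * k * a⁻¹ * k⁻¹ = a * (k * a⁻¹ * k⁻¹) := by group
  rw [h1]
  refine mul_mem ha (conj_mem_omegaCenterOf ?_ (inv_mem ha))
  exact normalizer_pCoreOf (Subgroup.le_normalizer hk)

theorem w_le_core : wOf K ≤ pCoreOf 2 K := w_le_omega.trans omega_le

theorem core_comm_w {y w : G} (hy : y ∈ pCoreOf 2 K) (hw : w ∈ wOf K) : y * w = w * y :=
  omega_comm (w_le_omega hw) hy

theorem conj_w (hK : IsJComponent T K) {k w : G} (hk : k ∈ K ⊔ thompsonSubgroupOf 2 T) (hw : w ∈ wOf K) :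
    k * w * k⁻¹ ∈ wOf K :=
  conj_mem_wOf (sup_le_N hK hk) hw

/-- An element of odd order of `K` outside `O₂(K)` has no fixed point on `W`. -/
theorem odd_fpf (hK : IsJComponent T K) {x : G} (hxK : x ∈ K) (hodd : Odd (orderOf x))
    (hxY : x ∉ pCoreOf 2 K) {w : G} (hw : w ∈ wOf K) (hfix : x * w * x⁻¹ = w) : w = 1 := by
  by_contra hw1
  have hNx : ∀ v ∈ wOf K, x * v * x⁻¹ ∈ wOf K := fun v hv =>
    conj_w hK (Subgroup.mem_sup_left hxK) hv
  obtain ⟨u, hu, hu1, huw⟩ := exists_third (card_w hK) w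
  obtain ⟨m, hm⟩ := hodd
  -- `x` fixes `u`
  have hxu : x * u * x⁻¹ = u := by
    rcases conj_cases (card_w hK) (sq_w hK) hw hu hw1 hu1 huw.symm hNx hfix with h | h
    · exact h
    · exfalso
      have h2 : Commute (x ^ 2) u := by
        have : x ^ 2 * u * (x ^ 2)⁻¹ = u := by
          calc x ^ 2 * u * (x ^ 2)⁻¹ = x * (x * u * x⁻¹) * x⁻¹ := by rw [sq]; group
            _ = x * (w * u) * x⁻¹ := by rw [h]
            _ = (x * w * x⁻¹) * (x * u * x⁻¹) := by group
            _ = u := by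
              rw [hfix, h, ← mul_assoc, sq_w hK w hw, one_mul]
        exact mul_inv_eq_iff_eq_mul.mp this
      have h3 : Commute ((x ^ 2) ^ (m + 1)) u := h2.pow_left _
      have h4 : (x ^ 2) ^ (m + 1) = x := by
        rw [← pow_mul]
        have : 2 * (m + 1) = orderOf x + 1 := by omega
        rw [this, pow_succ, pow_orderOf_eq_one, one_mul]
      rw [h4] at h3
      have h5 : x * u * x⁻¹ = u := mul_inv_eq_iff_eq_mul.mpr h3
      rw [h5] at h
      apply hw1
      have : u * 1 = w * u := by simpa using h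
      have h6 : 1 * u = w * u := by simpa using this
      exact (mul_right_cancel h6).symm
  -- `x` centralizes `W`
  have hxW : ∀ v ∈ wOf K, x * v * x⁻¹ = v := by
    intro v hv
    rcases four_cases (card_w hK) (sq_w hK) hw hu hw1 hu1 huw.symm v hv with rfl | rfl | rfl | rfl
    · simp
    · exact hfix
    · exact hxu
    · calc x * (w * u) * x⁻¹ = (x * w * x⁻¹) * (x * u * x⁻¹) := by group
        _ = w * u := by rw [hfix, hxu]
  -- `x` centralizes `Ω`
  have hxO : ∀ a ∈ omegaCenterOf (pCoreOf 2 K), x * a * x⁻¹ = a := by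
    intro a ha
    set c := a⁻¹ * (x * a * x⁻¹) with hc
    have hcW : c ∈ wOf K := by
      have := Subgroup.commutator_mem_commutator (inv_mem ha) hxK
      rw [commutatorElement_def] at this
      have e : c = a⁻¹ * x * a⁻¹⁻¹ * x⁻¹ := by rw [hc]; group
      rw [e]
      exact this
    have hxa : x * a * x⁻¹ = a * c := by rw [hc]; group
    have hxc : x * c = c * x := mul_inv_eq_iff_eq_mul.mp (hxW c hcW)
    have hpow : ∀ n : ℕ, x ^ n * a * (x ^ n)⁻¹ = a * c ^ n := by
      intro n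
      induction n with
      | zero => simp
      | succ n ih =>
        have hcomm : Commute x (c ^ n) := (show Commute x c from hxc).pow_right n
        calc x ^ (n + 1) * a * (x ^ (n + 1))⁻¹ = x * (x ^ n * a * (x ^ n)⁻¹) * x⁻¹ := by
              rw [pow_succ' x n]; group
          _ = x * (a * c ^ n) * x⁻¹ := by rw [ih]
          _ = (x * a * x⁻¹) * (x * c ^ n * x⁻¹) := by group
          _ = a * c * c ^ n := by
              rw [hxa, hcomm.eq]
              group
          _ = a * c ^ (n + 1) := by rw [pow_succ']; group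
    have h1 := hpow (orderOf x)
    rw [pow_orderOf_eq_one] at h1
    simp only [one_mul, inv_one, mul_one] at h1
    have h2 : c ^ orderOf x = 1 := by
      have : a * 1 = a * c ^ orderOf x := by simpa using h1
      exact (mul_left_cancel this).symm
    have h3 : c ^ orderOf x = c := by
      rw [hm, pow_succ, pow_mul]
      have : c ^ 2 = 1 := by rw [sq]; exact sq_w hK c hcW
      rw [this, one_pow, one_mul]
    have h4 : c = 1 := h3.symm.trans h2
    rw [hxa, h4, mul_one]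
  -- hence `K` centralizes `Ω`
  have hKO : K ≤ Subgroup.centralizer (omegaCenterOf (pCoreOf 2 K) : Set G) := by
    refine le_of_core_le hK ?_ hxK hxY ?_
    · intro y hy
      rw [Subgroup.mem_centralizer_iff]
      intro a ha
      exact (omega_comm ha hy).symm
    · rw [Subgroup.mem_centralizer_iff]
      intro a ha
      exact (mul_inv_eq_iff_eq_mul.mp (hxO a ha)).symm
  have hW1 : wOf K = ⊥ := by
    unfold wOf
    rw [eq_bot_iff, Subgroup.commutator_le]
    intro a ha k hk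
    rw [Subgroup.mem_bot, commutatorElement_eq_one_iff_commute]
    exact (Subgroup.mem_centralizer_iff.mp (hKO hk) a ha)
  have h4 := card_w hK
  rw [hW1] at h4
  simp at h4

/-- An element of `K` outside `O₂(K)` has no fixed point on `W`. -/
theorem fpf (hK : IsJComponent T K) {k : G} (hk : k ∈ K) (hkY : k ∉ pCoreOf 2 K) {w : G}
    (hw : w ∈ wOf K) (hfix : k * w * k⁻¹ = w) : w = 1 := by
  obtain ⟨x, hxK, hodd, hxY⟩ := exists_odd hK
  have hle : K ≤ Subgroup.centralizer ({w} : Set G) := by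
    refine le_of_core_le hK ?_ hk hkY ?_
    · intro y hy
      rw [Subgroup.mem_centralizer_iff]
      rintro _ rfl
      exact (core_comm_w hy hw).symm
    · rw [Subgroup.mem_centralizer_iff]
      rintro _ rfl
      exact (mul_inv_eq_iff_eq_mul.mp hfix).symm
  refine odd_fpf hK hxK hodd hxY hw ?_
  rw [mul_inv_eq_iff_eq_mul]
  exact (Subgroup.mem_centralizer_iff.mp (hle hxK) w rfl).symm

/-- `J` does not centralize `W`. -/
theorem exists_move (hK : IsJComponent T K) :
    ∃ j ∈ thompsonSubgroupOf 2 T, ∃ w ∈ wOf K, j * w * j⁻¹ ≠ w := by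
  by_contra hcon
  push Not at hcon
  obtain ⟨x, hxK, hodd, hxY⟩ := exists_odd hK
  obtain ⟨w, hw, hw1⟩ := exists_ne_one (card_w hK)
  apply hw1
  refine odd_fpf hK hxK hodd hxY hw ?_
  have hle : ⁅K, thompsonSubgroupOf 2 T⁆ ≤ Subgroup.centralizer (wOf K : Set G) := by
    rw [Subgroup.commutator_le]
    intro k hk j hj
    rw [Subgroup.mem_centralizer_iff]
    intro v hv
    have h1 : k⁻¹ * v * k⁻¹⁻¹ ∈ wOf K := conj_w hK (Subgroup.mem_sup_left (inv_mem hk)) hv
    have h2 := hcon j hj _ h1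
    have h3 := hcon j⁻¹ (inv_mem hj) v hv
    rw [commutatorElement_def]
    have h2' : j * (k⁻¹ * v * k⁻¹⁻¹) = (k⁻¹ * v * k⁻¹⁻¹) * j := mul_inv_eq_iff_eq_mul.mp h2
    have h3' : j⁻¹ * v = v * j⁻¹ := mul_inv_eq_iff_eq_mul.mp (by simpa using h3)
    calc v * (k * j * k⁻¹ * j⁻¹) = k * ((k⁻¹ * v * k⁻¹⁻¹) * j) * k⁻¹ * j⁻¹ := by group
      _ = k * (j * (k⁻¹ * v * k⁻¹⁻¹)) * k⁻¹ * j⁻¹ := by rw [h2']
      _ = k * j * k⁻¹ * (v * j⁻¹) := by group
      _ = k * j * k⁻¹ * (j⁻¹ * v) := by rw [h3']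
      _ = k * j * k⁻¹ * j⁻¹ * v := by group
  rw [J_comm hK] at hle
  rw [mul_inv_eq_iff_eq_mul]
  exact (Subgroup.mem_centralizer_iff.mp (hle hxK) w hw).symm

theorem thompson_isP (hT : IsPGroup 2 T) : IsPGroup 2 (thompsonSubgroupOf 2 T) :=
  IsPGroup.to_le hT (thompsonSubgroupOf_le_self T)

/-- `J` fixes a nonidentity element of `W`. -/
theorem exists_z (hT : IsPGroup 2 T) (hK : IsJComponent T K) :
    ∃ z ∈ wOf K, z ≠ 1 ∧ ∀ j ∈ thompsonSubgroupOf 2 T, j * z * j⁻¹ = z := by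
  classical
  by_contra hcon
  push Not at hcon
  letI : MulAction (thompsonSubgroupOf 2 T) (wOf K) :=
    { smul := fun j w => ⟨(j : G) * w * (j : G)⁻¹,
        conj_w hK (Subgroup.mem_sup_right j.2) w.2⟩
      one_smul := fun w => Subtype.ext (by
        show ((1 : thompsonSubgroupOf 2 T) : G) * w * ((1 : thompsonSubgroupOf 2 T) : G)⁻¹ = w
        simp)
      mul_smul := fun a b w => Subtype.ext (by
        show ((a * b : thompsonSubgroupOf 2 T) : G) * w * ((a * b : thompsonSubgroupOf 2 T) : G)⁻¹ =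
          (a : G) * ((b : G) * w * (b : G)⁻¹) * (a : G)⁻¹
        simp only [Subgroup.coe_mul]
        group) }
  have hsm : ∀ (j : thompsonSubgroupOf 2 T) (w : wOf K), ((j • w : wOf K) : G) = j * w * (j : G)⁻¹ :=
    fun _ _ => rfl
  have hmod := (thompson_isP hT).card_modEq_card_fixedPoints (wOf K)
  rw [card_w hK] at hmod
  have hfix : MulAction.fixedPoints (thompsonSubgroupOf 2 T) (wOf K) = {1} := by
    ext w
    simp only [MulAction.mem_fixedPoints, Set.mem_singleton_iff]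
    constructor
    · intro h
      by_contra hw1
      have hw1' : (w : G) ≠ 1 := fun h' => hw1 (Subtype.ext h')
      obtain ⟨j, hj, hj'⟩ := hcon w w.2 hw1'
      apply hj'
      have := congrArg Subtype.val (h ⟨j, hj⟩)
      rw [hsm] at this
      exact this
    · rintro rfl j
      apply Subtype.ext
      rw [hsm]
      simp
  rw [hfix, Nat.card_coe_set_eq, Set.ncard_singleton] at hmod
  exact absurd hmod (by decide)

/-- If `g` fixes two different nonidentity elements of `W`, it centralizes `W`. -/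
theorem fix_all (hK : IsJComponent T K) {a b g : G} (ha : a ∈ wOf K) (hb : b ∈ wOf K) (ha1 : a ≠ 1)
    (hb1 : b ≠ 1) (hab : a ≠ b) (hga : g * a * g⁻¹ = a) (hgb : g * b * g⁻¹ = b) :
    ∀ v ∈ wOf K, g * v * g⁻¹ = v := by
  intro v hv
  rcases four_cases (card_w hK) (sq_w hK) ha hb ha1 hb1 hab v hv with rfl | rfl | rfl | rfl
  · simp
  · exact hga
  · exact hgb
  · calc g * (a * b) * g⁻¹ = (g * a * g⁻¹) * (g * b * g⁻¹) := by group
      _ = a * b := by rw [hga, hgb]

/-- The `J`-fixed point of `W` is unique. -/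
theorem z_unique (hK : IsJComponent T K) {z z' : G} (hz : z ∈ wOf K) (hz' : z' ∈ wOf K) (hz1 : z ≠ 1)
    (hz1' : z' ≠ 1) (hf : ∀ j ∈ thompsonSubgroupOf 2 T, j * z * j⁻¹ = z)
    (hf' : ∀ j ∈ thompsonSubgroupOf 2 T, j * z' * j⁻¹ = z') : z = z' := by
  by_contra hne
  obtain ⟨j, hj, w, hw, h⟩ := exists_move hK
  exact h (fix_all hK hz hz' hz1 hz1' hne (hf j hj) (hf' j hj) w hw)

/-- A `2`-element of `K` lies in `O₂(K)`. -/
theorem mem_core_of_two_element (hK : IsJComponent T K) {k : G} (hk : k ∈ K)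
    (h2 : ∃ n : ℕ, k ^ 2 ^ n = 1) : k ∈ pCoreOf 2 K := by
  by_contra hkY
  have hP : IsPGroup 2 (Subgroup.zpowers k) := by
    obtain ⟨n, hn⟩ := h2
    have hfact : orderOf k ∣ 2 ^ n := orderOf_dvd_of_pow_eq_one hn
    rw [IsPGroup.iff_card]
    obtain ⟨m, -, hm⟩ := (Nat.dvd_prime_pow Nat.prime_two).mp hfact
    exact ⟨m, by rw [Nat.card_zpowers]; exact hm⟩
  have hN : Subgroup.zpowers k ≤ Subgroup.normalizer (pCoreOf 2 K : Set G) := by
    rw [Subgroup.zpowers_le]
    exact normalizer_pCoreOf (Subgroup.le_normalizer hk)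
  have hsup := IsPGroup.to_sup_of_normal_left' (core_isP (K := K)) hP hN
  have hle : K ≤ pCoreOf 2 K ⊔ Subgroup.zpowers k :=
    le_of_core_le hK le_sup_left hk hkY (Subgroup.mem_sup_right (Subgroup.mem_zpowers k))
  have hKP : IsPGroup 2 K := IsPGroup.to_le hsup hle
  have hdvd : (pCoreOf 2 K).relIndex K ∣ Nat.card K := Subgroup.relIndex_dvd_card _ _
  rw [index3 hK] at hdvd
  obtain ⟨m, hm⟩ := IsPGroup.iff_card.mp hKP
  rw [hm] at hdvd
  have := (Nat.prime_dvd_prime_iff_eq (by norm_num) Nat.prime_two).mp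
    (Nat.Prime.dvd_of_dvd_pow (by norm_num) hdvd)
  omega

/-! ### The Sylow subgroup `S₀ = O₂(K) J` of `KJ` -/

/-- `S₀ = O₂(K) J`. -/
def sZero (T K : Subgroup G) : Subgroup G := pCoreOf 2 K ⊔ thompsonSubgroupOf 2 T

omit [Finite G] in
theorem core_le_sZero : pCoreOf 2 K ≤ sZero T K := le_sup_left

omit [Finite G] in
theorem J_le_sZero : thompsonSubgroupOf 2 T ≤ sZero T K := le_sup_right

theorem sZero_le_sup : sZero T K ≤ K ⊔ thompsonSubgroupOf 2 T :=
  sup_le (core_le.trans le_sup_left) le_sup_right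

theorem sZero_isP (hT : IsPGroup 2 T) (hK : IsJComponent T K) : IsPGroup 2 (sZero T K) :=
  IsPGroup.to_sup_of_normal_left' core_isP (thompson_isP hT) fun _ hj =>
    normalizer_pCoreOf (J_le_N hK hj)

theorem sZero_sylow (hT : IsPGroup 2 T) (hK : IsJComponent T K) :
    IsSylowTwoIn (sZero T K) (K ⊔ thompsonSubgroupOf 2 T) := by
  refine ⟨sZero_le_sup, sZero_isP hT hK, ?_⟩
  set X := K ⊔ thompsonSubgroupOf 2 T with hX
  have hS' : IsPGroup 2 ((sZero T K).subgroupOf X) :=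
    (sZero_isP hT hK).comap_of_injective X.subtype (Subtype.val_injective)
      |>.of_equiv (MulEquiv.refl _)
  obtain ⟨P, hP⟩ := hS'.exists_le_sylow
  have hle : (P : Subgroup X) ≤ (sZero T K).subgroupOf X := by
    intro p hp
    rw [Subgroup.mem_subgroupOf]
    obtain ⟨k, hk, j, hj, hpkj⟩ := exists_mul_of_mem_sup (fun j hj k hk => J_norm hK hj hk) p.2
    have hjX : j ∈ X := Subgroup.mem_sup_right hj
    have hjP : (⟨j, hjX⟩ : X) ∈ (P : Subgroup X) :=
      hP (by rw [Subgroup.mem_subgroupOf]; exact J_le_sZero hj)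
    have hkX : k ∈ X := Subgroup.mem_sup_left hk
    have hkP : (⟨k, hkX⟩ : X) ∈ (P : Subgroup X) := by
      have h := mul_mem hp (inv_mem hjP)
      convert h using 1
      apply Subtype.ext
      simp [hpkj]
    have hk2 : ∃ n : ℕ, k ^ 2 ^ n = 1 := by
      obtain ⟨n, hn⟩ := P.2 ⟨_, hkP⟩
      refine ⟨n, ?_⟩
      have := congrArg (fun z : (P : Subgroup X) => ((z : X) : G)) hn
      simpa using this
    rw [hpkj]
    exact mul_mem (core_le_sZero (mem_core_of_two_element hK hk hk2)) (J_le_sZero hj)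
  have heq : (sZero T K).subgroupOf X = (P : Subgroup X) := le_antisymm hP hle
  have hnd : ¬ 2 ∣ (P : Subgroup X).index := P.not_dvd_index
  have : (sZero T K).relIndex X = (P : Subgroup X).index := by
    unfold Subgroup.relIndex
    rw [heq]
  rw [this]
  exact Nat.not_even_iff_odd.mp (fun h => hnd h.two_dvd)

theorem thompson_sZero (hT : IsPGroup 2 T) (hK : IsJComponent T K) :
    thompsonSubgroupOf 2 (sZero T K) = thompsonSubgroupOf 2 T :=
  hK.2.2.2.1 _ (sZero_sylow hT hK) J_le_sZero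

/-- Two subgroups with the same Thompson subgroup have the same largest elementary abelian
subgroups. -/
theorem gMaxEA_eq_of_thompson_eq {p : ℕ} {X X' : Subgroup G}
    (h : thompsonSubgroupOf p X = thompsonSubgroupOf p X') : gMaxEA p X = gMaxEA p X' := by
  have key : ∀ {X X' : Subgroup G}, thompsonSubgroupOf p X = thompsonSubgroupOf p X' →
      gMaxEA p X ⊆ gMaxEA p X' := by
    intro X X' h A hA
    obtain ⟨A', hA'⟩ := exists_mem_gMaxEA (p := p) X'
    have h1 : A ≤ X' := by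
      have := le_thompsonSubgroupOf hA
      rw [h] at this
      exact this.trans (thompsonSubgroupOf_le_self X')
    have h2 : A' ≤ X := by
      have := le_thompsonSubgroupOf hA'
      rw [← h] at this
      exact this.trans (thompsonSubgroupOf_le_self X)
    refine ⟨h1, hA.2.1, fun B hB hBe => ?_⟩
    exact (hA'.2.2 B hB hBe).trans (hA.2.2 A' h2 hA'.2.1)
  exact Set.Subset.antisymm (key h) (key h.symm)

theorem gMaxEA_sZero (hT : IsPGroup 2 T) (hK : IsJComponent T K) :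
    gMaxEA 2 (sZero T K) = gMaxEA 2 T :=
  gMaxEA_eq_of_thompson_eq (thompson_sZero hT hK)

/-- `S₀` normalizes `J`. -/
theorem sZero_le_normalizer (hT : IsPGroup 2 T) (hK : IsJComponent T K) :
    sZero T K ≤ Subgroup.normalizer (thompsonSubgroupOf 2 T : Set G) := by
  have h := normalizer_le_normalizer_thompson (p := 2) (sZero T K)
  rw [thompson_sZero hT hK] at h
  exact Subgroup.le_normalizer.trans h

theorem A_le_J {A : Subgroup G} (hA : A ∈ gMaxEA 2 T) : A ≤ thompsonSubgroupOf 2 T :=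
  le_thompsonSubgroupOf hA

/-- General: a commuting element of exponent `p` of `X` lies in each largest elementary abelian
subgroup. -/
theorem mem_of_centralize {p : ℕ} {X A : Subgroup G} (hA : A ∈ gMaxEA p X) {y : G} (hy : y ∈ X)
    (hyp : y ^ p = 1) (hc : ∀ a ∈ A, a * y = y * a) : y ∈ A := by
  have hcen : y ∈ Subgroup.centralizer (A : Set G) := Subgroup.mem_centralizer_iff.mpr hc
  have hB := Cfsg.Agent.Lib.Basic.MaxEA.isElementaryAbelian_adjoin hA.2.1 hyp hcen
  have hle : A ≤ Subgroup.closure ((A : Set G) ∪ {y}) := fun a ha => Subgroup.subset_closure (Or.inl ha)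
  have hcl : Subgroup.closure ((A : Set G) ∪ {y}) ≤ X := by
    rw [Subgroup.closure_le]
    rintro a (ha | rfl)
    · exact hA.1 ha
    · exact hy
  have heq := Subgroup.eq_of_le_of_card_ge hle (hA.2.2 _ hcl hB)
  rw [heq]
  exact Subgroup.subset_closure (Or.inr rfl)

theorem comm_of_mem_ea {p : ℕ} {A : Subgroup G} (hA : IsElementaryAbelian p A) {a b : G} (ha : a ∈ A)
    (hb : b ∈ A) : a * b = b * a := ea_comm hA ha hb

/-- An element of `KJ` centralizing `W` lies in `S₀`. -/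
theorem mem_sZero_of_centralize (hT : IsPGroup 2 T) (hK : IsJComponent T K) {r : G}
    (hr : r ∈ K ⊔ thompsonSubgroupOf 2 T) (hc : ∀ w ∈ wOf K, r * w * r⁻¹ = w) : r ∈ sZero T K := by
  obtain ⟨k, hk, j, hj, rfl⟩ := exists_mul_of_mem_sup (fun j hj k hk => J_norm hK hj hk) hr
  obtain ⟨z, hz, hz1, hzf⟩ := exists_z hT hK
  have hkY : k ∈ pCoreOf 2 K := by
    by_contra hkY
    apply hz1
    refine fpf hK hk hkY hz ?_
    have h1 := hc z hz
    have h2 := hzf j hj
    calc k * z * k⁻¹ = k * (j * z * j⁻¹) * k⁻¹ := by rw [h2]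
      _ = k * j * z * (k * j)⁻¹ := by group
      _ = z := h1
  exact mul_mem (core_le_sZero hkY) (J_le_sZero hj)

/-! ### Members of `𝒜(T)` centralizing `W` -/

/-- Members of `𝒜(T)` inside `C(W)`. -/
def centralA (T K : Subgroup G) : Set (Subgroup G) :=
  {B | B ∈ gMaxEA 2 T ∧ B ≤ Subgroup.centralizer (wOf K : Set G)}

/-- The subgroup `J_R` generated by the members of `𝒜(T)` inside `C(W)`. -/
def jR (T K : Subgroup G) : Subgroup G := sSup (centralA T K)

omit [Finite G] in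
theorem le_jR {B : Subgroup G} (hB : B ∈ centralA T K) : B ≤ jR T K := le_sSup hB

omit [Finite G] in
theorem jR_le_J : jR T K ≤ thompsonSubgroupOf 2 T :=
  sSup_le fun _ hB => le_thompsonSubgroupOf hB.1

omit [Finite G] in
theorem jR_le_centralizer : jR T K ≤ Subgroup.centralizer (wOf K : Set G) :=
  sSup_le fun _ hB => hB.2

theorem mem_of_centralize_sZero (hT : IsPGroup 2 T) (hK : IsJComponent T K) {A : Subgroup G}
    (hA : A ∈ gMaxEA 2 T) {y : G} (hy : y ∈ sZero T K) (hy2 : y ^ 2 = 1)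
    (hc : ∀ a ∈ A, a * y = y * a) : y ∈ A := by
  rw [← gMaxEA_sZero hT hK] at hA
  exact mem_of_centralize hA hy hy2 hc

/-- Each member of `𝒜(T)` contains the `J`-fixed points of `W`. -/
theorem z_mem_A (hT : IsPGroup 2 T) (hK : IsJComponent T K) {A : Subgroup G}
    (hA : A ∈ gMaxEA 2 T) {z : G} (hz : z ∈ wOf K)
    (hf : ∀ j ∈ thompsonSubgroupOf 2 T, j * z * j⁻¹ = z) : z ∈ A := by
  refine mem_of_centralize_sZero hT hK hA (core_le_sZero (w_le_core hz)) ?_ ?_
  · rw [sq]; exact sq_w hK z hz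
  · intro a ha
    exact mul_inv_eq_iff_eq_mul.mp (hf a (le_thompsonSubgroupOf hA ha))

/-- Each member of `𝒜(T)` inside `C(W)` contains `W`. -/
theorem w_le_of_centralA (hT : IsPGroup 2 T) (hK : IsJComponent T K) {B : Subgroup G}
    (hB : B ∈ centralA T K) : wOf K ≤ B := by
  intro w hw
  refine mem_of_centralize_sZero hT hK hB.1 (core_le_sZero (w_le_core hw)) ?_ ?_
  · rw [sq]; exact sq_w hK w hw
  · intro a ha
    exact Subgroup.mem_centralizer_iff.mp (hB.2 ha) w hw |>.symm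

/-- `𝒜_R` is closed under conjugation by `KJ`. -/
theorem conj_mem_centralA (hT : IsPGroup 2 T) (hK : IsJComponent T K) {B : Subgroup G}
    (hB : B ∈ centralA T K) {g : G} (hg : g ∈ K ⊔ thompsonSubgroupOf 2 T) :
    B.map (MulAut.conj g).toMonoidHom ∈ centralA T K := by
  have hNW : ∀ {t : G}, t ∈ K ⊔ thompsonSubgroupOf 2 T → ∀ v ∈ wOf K, t * v * t⁻¹ ∈ wOf K :=
    fun ht v hv => conj_w hK ht hv
  have hc : B.map (MulAut.conj g).toMonoidHom ≤ Subgroup.centralizer (wOf K : Set G) := by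
    rintro _ ⟨b, hb, rfl⟩
    rw [Subgroup.mem_centralizer_iff]
    intro v hv
    have hv' := hNW (inv_mem hg) v hv
    have h1 := Subgroup.mem_centralizer_iff.mp (hB.2 hb) _ hv'
    simp only [MulEquiv.coe_toMonoidHom, MulAut.conj_apply]
    calc v * (g * b * g⁻¹) = g * ((g⁻¹ * v * g⁻¹⁻¹) * b) * g⁻¹ := by group
      _ = g * (b * (g⁻¹ * v * g⁻¹⁻¹)) * g⁻¹ := by rw [h1]
      _ = g * b * g⁻¹ * v := by group
  have hS : B.map (MulAut.conj g).toMonoidHom ≤ sZero T K := by
    intro y hy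
    obtain ⟨b, hb, rfl⟩ := id hy
    refine mem_sZero_of_centralize hT hK ?_ ?_
    · simp only [MulEquiv.coe_toMonoidHom, MulAut.conj_apply]
      exact mul_mem (mul_mem hg (Subgroup.mem_sup_right (le_thompsonSubgroupOf hB.1 hb))) (inv_mem hg)
    · intro w hw
      rw [mul_inv_eq_iff_eq_mul]
      exact (Subgroup.mem_centralizer_iff.mp (hc hy) w hw).symm
  have hB' : B ∈ gMaxEA 2 (sZero T K) := by
    rw [gMaxEA_sZero hT hK]; exact hB.1
  refine ⟨?_, hc⟩
  rw [← gMaxEA_sZero hT hK]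
  refine ⟨hS, ea_map _ hB.1.2.1, fun C hC hCe => ?_⟩
  rw [card_map_conj]
  exact hB'.2.2 C hC hCe

theorem conj_jR (hT : IsPGroup 2 T) (hK : IsJComponent T K) {g : G}
    (hg : g ∈ K ⊔ thompsonSubgroupOf 2 T) : g ∈ Subgroup.normalizer (jR T K : Set G) := by
  have key : ∀ {t : G}, t ∈ K ⊔ thompsonSubgroupOf 2 T → ∀ b ∈ jR T K, t * b * t⁻¹ ∈ jR T K := by
    intro t ht b hb
    have hle : jR T K ≤ (jR T K).comap (MulAut.conj t).toMonoidHom := by
      refine sSup_le fun B hB => ?_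
      rw [← Subgroup.map_le_iff_le_comap]
      exact le_jR (conj_mem_centralA hT hK hB ht)
    exact hle hb
  rw [Subgroup.mem_normalizer_iff]
  intro b
  refine ⟨key hg b, fun hb => ?_⟩
  have := key (inv_mem hg) _ hb
  simpa [mul_assoc] using this

/-- Replacement: a member of `𝒜(T)` not centralizing `W` yields a member of `𝒜(T)` centralizing `W`
all of whose elements are of the form `w α`, `w ∈ W`, `α ∈ A ∩ C(W)`. -/
theorem replacement (hT : IsPGroup 2 T) (hK : IsJComponent T K) {A : Subgroup G}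
    (hA : A ∈ gMaxEA 2 T) {a₁ u : G} (ha₁ : a₁ ∈ A) (hu : u ∈ wOf K) (hmove : a₁ * u * a₁⁻¹ ≠ u) :
    ∃ B ∈ centralA T K, ∀ b ∈ B, ∃ w ∈ wOf K, ∃ α ∈ A,
      α ∈ Subgroup.centralizer (wOf K : Set G) ∧ b = w * α := by
  classical
  obtain ⟨z, hz, hz1, hzf⟩ := exists_z hT hK
  have hJA : ∀ a ∈ A, a ∈ thompsonSubgroupOf 2 T := fun a ha => le_thompsonSubgroupOf hA ha
  have hu1 : u ≠ 1 := by
    rintro rfl
    simp at hmove
  have huz : u ≠ z := by
    rintro rfl
    exact hmove (hzf _ (hJA _ ha₁))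
  have hzu : z ≠ u := huz.symm
  have hNj : ∀ {j : G}, j ∈ thompsonSubgroupOf 2 T → ∀ v ∈ wOf K, j * v * j⁻¹ ∈ wOf K :=
    fun hj v hv => conj_w hK (Subgroup.mem_sup_right hj) hv
  have hcases : ∀ {j : G}, j ∈ thompsonSubgroupOf 2 T → j * u * j⁻¹ = u ∨ j * u * j⁻¹ = z * u :=
    fun hj => conj_cases (card_w hK) (sq_w hK) hz hu hz1 hu1 hzu (hNj hj) (hzf _ hj)
  have ha₁u : a₁ * u * a₁⁻¹ = z * u := (hcases (hJA _ ha₁)).resolve_left hmove
  set A₀ := A ⊓ Subgroup.centralizer (wOf K : Set G) with hA₀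
  have hcen_of_fix : ∀ {g : G}, g * z * g⁻¹ = z → g * u * g⁻¹ = u →
      g ∈ Subgroup.centralizer (wOf K : Set G) := by
    intro g h1 h2
    rw [Subgroup.mem_centralizer_iff]
    intro v hv
    exact (mul_inv_eq_iff_eq_mul.mp (fix_all hK hz hu hz1 hu1 hzu h1 h2 v hv)).symm
  -- elements of `A` outside `C(W)` differ from `a₁` by an element of `A₀`
  have hind : ∀ a ∈ A, a ∉ Subgroup.centralizer (wOf K : Set G) → a₁⁻¹ * a ∈ A₀ := by
    intro a ha hac
    have hau : a * u * a⁻¹ = z * u := by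
      refine (hcases (hJA _ ha)).resolve_left fun h => hac (hcen_of_fix (hzf _ (hJA _ ha)) h)
    refine Subgroup.mem_inf.mpr ⟨mul_mem (inv_mem ha₁) ha, ?_⟩
    apply hcen_of_fix
    · have h1 := hzf _ (hJA _ ha)
      have h2 := hzf _ (inv_mem (hJA _ ha₁))
      calc a₁⁻¹ * a * z * (a₁⁻¹ * a)⁻¹ = a₁⁻¹ * (a * z * a⁻¹) * a₁⁻¹⁻¹ := by group
        _ = z := by rw [h1, h2]
    · calc a₁⁻¹ * a * u * (a₁⁻¹ * a)⁻¹ = a₁⁻¹ * (a * u * a⁻¹) * a₁ := by group
        _ = a₁⁻¹ * (a₁ * u * a₁⁻¹) * a₁ := by rw [hau, ha₁u]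
        _ = u := by group
  have hcomm : ∀ w ∈ wOf K, ∀ α ∈ A₀, α * w = w * α := fun w hw α hα =>
    (Subgroup.mem_centralizer_iff.mp hα.2 w hw).symm
  -- elements of `W ⊔ A₀`
  have hmem : ∀ b ∈ wOf K ⊔ A₀, ∃ w ∈ wOf K, ∃ α ∈ A₀, b = w * α := by
    intro b hb
    rw [Subgroup.sup_eq_closure] at hb
    induction hb using Subgroup.closure_induction with
    | mem y hy =>
      rcases hy with hy | hy
      · exact ⟨y, hy, 1, one_mem _, by simp⟩
      · exact ⟨1, one_mem _, y, hy, by simp⟩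
    | one => exact ⟨1, one_mem _, 1, one_mem _, by simp⟩
    | mul y y' _ _ hy hy' =>
      obtain ⟨w, hw, α, hα, rfl⟩ := hy
      obtain ⟨w', hw', α', hα', rfl⟩ := hy'
      refine ⟨w * w', mul_mem hw hw', α * α', mul_mem hα hα', ?_⟩
      calc w * α * (w' * α') = w * (α * w') * α' := by group
        _ = w * (w' * α) * α' := by rw [hcomm w' hw' α hα]
        _ = w * w' * (α * α') := by group
    | inv y _ hy =>
      obtain ⟨w, hw, α, hα, rfl⟩ := hy
      refine ⟨w⁻¹, inv_mem hw, α⁻¹, inv_mem hα, ?_⟩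
      have := hcomm w⁻¹ (inv_mem hw) α hα
      rw [mul_inv_rev]
      have h2 : α⁻¹ * w⁻¹ = w⁻¹ * α⁻¹ := by
        calc α⁻¹ * w⁻¹ = α⁻¹ * (w⁻¹ * α) * α⁻¹ := by group
          _ = α⁻¹ * (α * w⁻¹) * α⁻¹ := by rw [this]
          _ = w⁻¹ * α⁻¹ := by group
      exact h2
  have hea : IsElementaryAbelian 2 (wOf K ⊔ A₀) := by
    have hA₀comm : ∀ {α α' : G}, α ∈ A₀ → α' ∈ A₀ → α * α' = α' * α := fun h h' =>
      ea_comm hA.2.1 h.1 h'.1
    refine ⟨⟨⟨?_⟩⟩, ?_⟩
    · rintro ⟨b, hb⟩ ⟨b', hb'⟩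
      obtain ⟨w, hw, α, hα, rfl⟩ := hmem b hb
      obtain ⟨w', hw', α', hα', rfl⟩ := hmem b' hb'
      apply Subtype.ext
      show w * α * (w' * α') = w' * α' * (w * α)
      calc w * α * (w' * α') = w * (α * w') * α' := by group
        _ = w * (w' * α) * α' := by rw [hcomm w' hw' α hα]
        _ = w' * w * (α * α') := by rw [← mul_assoc w w' α, w_comm hK hw hw']; group
        _ = w' * w * (α' * α) := by rw [hA₀comm hα hα']
        _ = w' * (w * α') * α := by group
        _ = w' * (α' * w) * α := by rw [hcomm w hw α' hα']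
        _ = w' * α' * (w * α) := by group
    · intro b hb
      obtain ⟨w, hw, α, hα, rfl⟩ := hmem b hb
      have h1 : w * w = 1 := sq_w hK w hw
      have h2 : α ^ 2 = 1 := hA.2.1.2 α hα.1
      rw [sq] at h2 ⊢
      calc w * α * (w * α) = w * (α * w) * α := by group
        _ = w * (w * α) * α := by rw [hcomm w hw α hα]
        _ = (w * w) * (α * α) := by group
        _ = 1 := by rw [h1, h2, one_mul]
  have hBS : wOf K ⊔ A₀ ≤ sZero T K :=
    sup_le (w_le_core.trans core_le_sZero) (fun α hα => J_le_sZero (hJA α hα.1))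
  have hA' : A ∈ gMaxEA 2 (sZero T K) := by rw [gMaxEA_sZero hT hK]; exact hA
  -- the order comparison
  have huA : u ∉ A := by
    intro huA
    exact hmove (mul_inv_eq_iff_eq_mul.mpr (ea_comm hA.2.1 ha₁ huA))
  have hcard : Nat.card A ≤ Nat.card (wOf K ⊔ A₀ : Subgroup G) := by
    let f : A → (wOf K ⊔ A₀ : Subgroup G) := fun a =>
      if h : (a : G) ∈ Subgroup.centralizer (wOf K : Set G) then
        ⟨a, Subgroup.mem_sup_right ⟨a.2, h⟩⟩
      else ⟨u * (a₁⁻¹ * a), mul_mem (Subgroup.mem_sup_left hu)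
        (Subgroup.mem_sup_right (hind a a.2 h))⟩
    refine Nat.card_le_card_of_injective f ?_
    intro a a' haa
    have hval := congrArg Subtype.val haa
    by_cases h : (a : G) ∈ Subgroup.centralizer (wOf K : Set G) <;>
      by_cases h' : (a' : G) ∈ Subgroup.centralizer (wOf K : Set G)
    · simp only [f, dif_pos h, dif_pos h'] at hval
      exact Subtype.ext hval
    · exfalso
      simp only [f, dif_pos h, dif_neg h'] at hval
      apply huA
      have hu' : u = (a : G) * (a₁⁻¹ * a')⁻¹ := by rw [hval]; group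
      rw [hu']
      exact mul_mem a.2 (inv_mem (mul_mem (inv_mem ha₁) a'.2))
    · exfalso
      simp only [f, dif_neg h, dif_pos h'] at hval
      apply huA
      have hu' : u = (a' : G) * (a₁⁻¹ * a)⁻¹ := by rw [← hval]; group
      rw [hu']
      exact mul_mem a'.2 (inv_mem (mul_mem (inv_mem ha₁) a.2))
    · simp only [f, dif_neg h, dif_neg h'] at hval
      exact Subtype.ext (mul_left_cancel (mul_left_cancel hval))
  refine ⟨wOf K ⊔ A₀, ⟨?_, ?_⟩, ?_⟩
  · rw [← gMaxEA_sZero hT hK]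
    refine ⟨hBS, hea, fun C hC hCe => (hA'.2.2 C hC hCe).trans hcard⟩
  · refine sup_le ?_ inf_le_right
    intro w hw
    rw [Subgroup.mem_centralizer_iff]
    intro v hv
    exact w_comm hK hv hw
  · intro b hb
    obtain ⟨w, hw, α, hα, rfl⟩ := hmem b hb
    exact ⟨w, hw, α, hα.1, hα.2, rfl⟩

/-- Elements of `N` acting trivially on `V` modulo `W`. -/
def relStab (N V W : Subgroup G) (hW : ∀ g ∈ N, ∀ w ∈ W, g * w * g⁻¹ ∈ W) : Subgroup G where
  carrier := {g | g ∈ N ∧ ∀ v ∈ V, g * v * g⁻¹ * v⁻¹ ∈ W}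
  mul_mem' := by
    rintro a b ⟨ha, ha'⟩ ⟨hb, hb'⟩
    refine ⟨mul_mem ha hb, fun v hv => ?_⟩
    have h1 := hW a ha _ (hb' v hv)
    have h2 := ha' v hv
    have : a * b * v * (a * b)⁻¹ * v⁻¹ =
        (a * (b * v * b⁻¹ * v⁻¹) * a⁻¹) * (a * v * a⁻¹ * v⁻¹) := by group
    rw [this]
    exact mul_mem h1 h2
  one_mem' := ⟨one_mem _, fun v _ => by simp [one_mem]⟩
  inv_mem' := by
    rintro a ⟨ha, ha'⟩
    refine ⟨inv_mem ha, fun v hv => ?_⟩
    have h1 := hW a⁻¹ (inv_mem ha) _ (inv_mem (ha' v hv))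
    have : a⁻¹ * v * a⁻¹⁻¹ * v⁻¹ = a⁻¹ * (a * v * a⁻¹ * v⁻¹)⁻¹ * a⁻¹⁻¹ := by group
    rw [this]
    exact h1

/-- `V₂ = Ω₁(Z(J_R))`. -/
def vTwo (T K : Subgroup G) : Subgroup G := omegaCenterOf (jR T K)

theorem centralA_nonempty (hT : IsPGroup 2 T) (hK : IsJComponent T K) : (centralA T K).Nonempty := by
  obtain ⟨j, hj, u, hu, hmove⟩ := exists_move hK
  by_cases h : thompsonSubgroupOf 2 T ≤ Subgroup.centralizer (wOf K : Set G)
  · exfalso
    apply hmove
    rw [mul_inv_eq_iff_eq_mul]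
    exact (Subgroup.mem_centralizer_iff.mp (h hj) u hu).symm
  · rw [thompsonSubgroupOf_le_iff] at h
    push Not at h
    obtain ⟨A, hA, hA'⟩ := h
    obtain ⟨a, ha, hac⟩ := SetLike.not_le_iff_exists.mp hA'
    rw [Subgroup.mem_centralizer_iff] at hac
    push Not at hac
    obtain ⟨u', hu', hne⟩ := hac
    obtain ⟨B, hB, -⟩ := replacement hT hK hA ha hu' (by
      intro h2
      exact hne (mul_inv_eq_iff_eq_mul.mp h2).symm)
    exact ⟨B, hB⟩

theorem w_le_jR (hT : IsPGroup 2 T) (hK : IsJComponent T K) : wOf K ≤ jR T K := by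
  obtain ⟨B, hB⟩ := centralA_nonempty hT hK
  exact (w_le_of_centralA hT hK hB).trans (le_jR hB)

theorem w_le_vTwo (hT : IsPGroup 2 T) (hK : IsJComponent T K) : wOf K ≤ vTwo T K := by
  intro w hw
  unfold vTwo
  rw [mem_omegaCenterOf_iff]
  refine ⟨w_le_jR hT hK hw, fun u hu => ?_, by rw [sq]; exact sq_w hK w hw⟩
  exact (Subgroup.mem_centralizer_iff.mp (jR_le_centralizer hu) w hw).symm

theorem vTwo_le_J : vTwo T K ≤ thompsonSubgroupOf 2 T := by
  intro v hv
  exact jR_le_J (mem_omegaCenterOf_iff.mp hv).1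

theorem conj_vTwo (hT : IsPGroup 2 T) (hK : IsJComponent T K) {g v : G}
    (hg : g ∈ K ⊔ thompsonSubgroupOf 2 T) (hv : v ∈ vTwo T K) : g * v * g⁻¹ ∈ vTwo T K :=
  conj_mem_omegaCenterOf (conj_jR hT hK hg) hv

theorem vTwo_comm {a b : G} (ha : a ∈ vTwo T K) (hb : b ∈ vTwo T K) : a * b = b * a :=
  (mem_omegaCenterOf_iff.mp hb).2.1 a (mem_omegaCenterOf_iff.mp ha).1 |>.symm ▸ rfl

theorem vTwo_sq {a : G} (ha : a ∈ vTwo T K) : a ^ 2 = 1 := (mem_omegaCenterOf_iff.mp ha).2.2

/-- Each member of `𝒜(T)` acts trivially on `V₂` modulo `W`. -/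
theorem comm_A_vTwo (hT : IsPGroup 2 T) (hK : IsJComponent T K) {A : Subgroup G}
    (hA : A ∈ gMaxEA 2 T) {a v : G} (ha : a ∈ A) (hv : v ∈ vTwo T K) :
    a * v * a⁻¹ * v⁻¹ ∈ wOf K := by
  by_cases h : A ≤ Subgroup.centralizer (wOf K : Set G)
  · have hB : A ∈ centralA T K := ⟨hA, h⟩
    have h1 := (mem_omegaCenterOf_iff.mp hv).2.1 a (le_jR hB ha)
    have : a * v * a⁻¹ * v⁻¹ = 1 := by rw [h1]; group
    rw [this]
    exact one_mem _
  · obtain ⟨a₁, ha₁, hac⟩ := SetLike.not_le_iff_exists.mp h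
    rw [Subgroup.mem_centralizer_iff] at hac
    push Not at hac
    obtain ⟨u', hu', hne⟩ := hac
    obtain ⟨B, hB, hBf⟩ := replacement hT hK hA ha₁ hu' (by
      intro h2
      exact hne (mul_inv_eq_iff_eq_mul.mp h2).symm)
    have hvS : v ∈ sZero T K := J_le_sZero (vTwo_le_J hv)
    have hvB : v ∈ B := mem_of_centralize_sZero hT hK hB.1 hvS (vTwo_sq hv) (fun b hb =>
      (mem_omegaCenterOf_iff.mp hv).2.1 b (le_jR hB hb))
    obtain ⟨w, hw, α, hα, -, rfl⟩ := hBf v hvB
    have hcomm : a * α = α * a := ea_comm hA.2.1 ha hα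
    have h1 : a * w * a⁻¹ ∈ wOf K :=
      conj_w hK (Subgroup.mem_sup_right (le_thompsonSubgroupOf hA ha)) hw
    have : a * (w * α) * a⁻¹ * (w * α)⁻¹ = (a * w * a⁻¹) * w⁻¹ := by
      calc a * (w * α) * a⁻¹ * (w * α)⁻¹ = a * w * (α * a⁻¹) * α⁻¹ * w⁻¹ := by group
        _ = a * w * (a⁻¹ * α) * α⁻¹ * w⁻¹ := by
            have : α * a⁻¹ = a⁻¹ * α := by
              calc α * a⁻¹ = a⁻¹ * (a * α) * a⁻¹ := by group
                _ = a⁻¹ * (α * a) * a⁻¹ := by rw [hcomm]
                _ = a⁻¹ * α := by group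
            rw [this]
        _ = (a * w * a⁻¹) * w⁻¹ := by group
    rw [this]
    exact mul_mem h1 (inv_mem hw)

/-- The group `K` acts trivially on `V₂` modulo `W`, and so does `J`. -/
theorem comm_K_vTwo (hT : IsPGroup 2 T) (hK : IsJComponent T K) :
    (∀ j ∈ thompsonSubgroupOf 2 T, ∀ v ∈ vTwo T K, j * v * j⁻¹ * v⁻¹ ∈ wOf K) ∧
    ∀ k ∈ K, ∀ v ∈ vTwo T K, k * v * k⁻¹ * v⁻¹ ∈ wOf K := by
  let D := relStab (K ⊔ thompsonSubgroupOf 2 T) (vTwo T K) (wOf K) (fun g hg w hw => conj_w hK hg hw)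
  have hJD : thompsonSubgroupOf 2 T ≤ D := by
    rw [thompsonSubgroupOf_le_iff]
    intro A hA a ha
    exact ⟨Subgroup.mem_sup_right (le_thompsonSubgroupOf hA ha), fun v hv =>
      comm_A_vTwo hT hK hA ha hv⟩
  have hKD : K ≤ D := by
    have hle : ⁅K, thompsonSubgroupOf 2 T⁆ ≤ D := by
      rw [Subgroup.commutator_le]
      intro k hk j hj
      rw [commutatorElement_def]
      refine mul_mem ?_ (inv_mem (hJD hj))
      have hkN : k ∈ K ⊔ thompsonSubgroupOf 2 T := Subgroup.mem_sup_left hk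
      have hjN : j ∈ K ⊔ thompsonSubgroupOf 2 T := Subgroup.mem_sup_right hj
      refine ⟨mul_mem (mul_mem hkN hjN) (inv_mem hkN), fun v hv => ?_⟩
      have hv' : k⁻¹ * v * k⁻¹⁻¹ ∈ vTwo T K := conj_vTwo hT hK (inv_mem hkN) hv
      have h1 := (hJD hj).2 _ hv'
      have h2 := conj_w hK hkN h1
      have : k * j * k⁻¹ * v * (k * j * k⁻¹)⁻¹ * v⁻¹ =
          k * (j * (k⁻¹ * v * k⁻¹⁻¹) * j⁻¹ * (k⁻¹ * v * k⁻¹⁻¹)⁻¹) * k⁻¹ := by group
      rw [this]
      exact h2
    rwa [J_comm hK] at hle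
  exact ⟨fun j hj v hv => (hJD hj).2 v hv, fun k hk v hv => (hKD hk).2 v hv⟩

/-- A central involution of `J` lies in `V₂`. -/
theorem mem_vTwo_of_central (hT : IsPGroup 2 T) (hK : IsJComponent T K) {v : G}
    (hv : v ∈ thompsonSubgroupOf 2 T) (hc : ∀ u ∈ thompsonSubgroupOf 2 T, u * v = v * u)
    (hv2 : v ^ 2 = 1) : v ∈ vTwo T K := by
  unfold vTwo
  rw [mem_omegaCenterOf_iff]
  refine ⟨?_, fun u hu => hc u (jR_le_J hu), hv2⟩
  obtain ⟨B, hB⟩ := centralA_nonempty hT hK
  refine le_jR hB (mem_of_centralize_sZero hT hK hB.1 (J_le_sZero hv) hv2 fun b hb => ?_)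
  exact hc b (le_thompsonSubgroupOf hB.1 hb)

/-- Splitting of a central involution of `J` as the product of an element of `W` and a central
element of `KJ`. -/
theorem split (hT : IsPGroup 2 T) (hK : IsJComponent T K) {v : G}
    (hv : v ∈ thompsonSubgroupOf 2 T) (hc : ∀ u ∈ thompsonSubgroupOf 2 T, u * v = v * u)
    (hv2 : v ^ 2 = 1) :
    ∃ w ∈ wOf K, ∃ c ∈ vTwo T K, (∀ g ∈ K ⊔ thompsonSubgroupOf 2 T, g * c = c * g) ∧ v = w * c := by
  classical
  obtain ⟨x, hxK, hodd, hxY⟩ := exists_odd hK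
  obtain ⟨z, hz, hz1, hzf⟩ := exists_z hT hK
  obtain ⟨hJ, hKc⟩ := comm_K_vTwo hT hK
  have hvV := mem_vTwo_of_central hT hK hv hc hv2
  have hxN : ∀ a ∈ wOf K, x * a * x⁻¹ ∈ wOf K := fun a ha => conj_w hK (Subgroup.mem_sup_left hxK) ha
  -- find `w` with `[x, w] = [x, v]`
  let f : wOf K → wOf K := fun a => ⟨x * a * x⁻¹ * (a : G)⁻¹, mul_mem (hxN _ a.2) (inv_mem a.2)⟩
  have hinj : Function.Injective f := by
    intro a b hab
    have h1 : x * (a : G) * x⁻¹ * (a : G)⁻¹ = x * b * x⁻¹ * (b : G)⁻¹ := congrArg Subtype.val hab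
    have hfix : x * ((b : G)⁻¹ * a) * x⁻¹ = (b : G)⁻¹ * a := by
      have h7 : x * (a : G) * x⁻¹ = x * b * x⁻¹ * ((b : G)⁻¹ * a) := by
        have := h1
        rw [mul_inv_eq_iff_eq_mul] at this
        rw [this]
        group
      calc x * ((b : G)⁻¹ * a) * x⁻¹ = (x * b * x⁻¹)⁻¹ * (x * a * x⁻¹) := by group
        _ = (b : G)⁻¹ * a := by rw [h7]; group
    have h8 := odd_fpf hK hxK hodd hxY (mul_mem (inv_mem b.2) a.2) hfix
    apply Subtype.ext
    have : (a : G) = b := by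
      have h9 := h8
      rw [inv_mul_eq_one] at h9
      exact h9.symm
    exact this
  have hsurj := Finite.injective_iff_surjective.mp hinj
  obtain ⟨⟨w, hw⟩, hfw⟩ := hsurj ⟨_, hKc x hxK v hvV⟩
  have hfw' : x * w * x⁻¹ * w⁻¹ = x * v * x⁻¹ * v⁻¹ := congrArg Subtype.val hfw
  set c := w⁻¹ * v with hcdef
  have hcV : c ∈ vTwo T K := mul_mem (inv_mem (w_le_vTwo hT hK hw)) hvV
  have hxc : x * c * x⁻¹ = c := by
    have h1 : x * v * x⁻¹ = x * w * x⁻¹ * w⁻¹ * v := by
      rw [hfw']; group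
    calc x * c * x⁻¹ = (x * w * x⁻¹)⁻¹ * (x * v * x⁻¹) := by rw [hcdef]; group
      _ = w⁻¹ * v := by rw [h1]; group
  -- `O₂(K)` centralizes `c`
  have hYc1 : ∀ q ∈ pCoreOf 2 K, q * c * q⁻¹ * c⁻¹ = 1 ∨ q * c * q⁻¹ * c⁻¹ = z := by
    intro q hq
    have hqK : q ∈ K := core_le hq
    have hqN : q ∈ Subgroup.normalizer (thompsonSubgroupOf 2 T : Set G) :=
      sZero_le_normalizer hT hK (core_le_sZero hq)
    set t := q * v * q⁻¹ * v⁻¹ with ht
    have htW : t ∈ wOf K := hKc q hqK v hvV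
    have hwq : q * w = w * q := core_comm_w hq hw
    have hval : q * c * q⁻¹ * c⁻¹ = t := by
      have h1 : q * w⁻¹ = w⁻¹ * q := by
        calc q * w⁻¹ = w⁻¹ * (w * q) * w⁻¹ := by group
          _ = w⁻¹ * (q * w) * w⁻¹ := by rw [hwq]
          _ = w⁻¹ * q := by group
      have h2 : t * w = w * t := w_comm hK htW hw
      calc q * c * q⁻¹ * c⁻¹ = (q * w⁻¹) * v * q⁻¹ * v⁻¹ * w := by rw [hcdef]; group
        _ = w⁻¹ * (q * v * q⁻¹ * v⁻¹) * w := by rw [h1]; group
        _ = w⁻¹ * (t * w) := by rw [ht]; group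
        _ = t := by rw [h2]; group
    rw [hval]
    by_cases ht1 : t = 1
    · exact Or.inl ht1
    · right
      refine z_unique hK htW hz ht1 hz1 (fun j hj => ?_) hzf
      -- `t` is fixed by `J`
      have hj' : q⁻¹ * j * q ∈ thompsonSubgroupOf 2 T := by
        have := (Subgroup.mem_normalizer_iff.mp (inv_mem hqN) j).mp hj
        simpa using this
      have h1 := hc _ hj'
      have h2 := hc j hj
      have h3 : j * (q * v * q⁻¹) = (q * v * q⁻¹) * j := by
        calc j * (q * v * q⁻¹) = q * ((q⁻¹ * j * q) * v) * q⁻¹ := by group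
          _ = q * (v * (q⁻¹ * j * q)) * q⁻¹ := by rw [h1]
          _ = (q * v * q⁻¹) * j := by group
      have h4 : j * v⁻¹ = v⁻¹ * j := by
        calc j * v⁻¹ = v⁻¹ * (v * j) * v⁻¹ := by group
          _ = v⁻¹ * (j * v) * v⁻¹ := by rw [h2]
          _ = v⁻¹ * j := by group
      calc j * t * j⁻¹ = (j * (q * v * q⁻¹)) * v⁻¹ * j⁻¹ := by rw [ht]; group
        _ = (q * v * q⁻¹) * (j * v⁻¹) * j⁻¹ := by rw [h3]; group
        _ = t := by rw [h4, ht]; group
  have hYc : ∀ q ∈ pCoreOf 2 K, q * c = c * q := by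
    intro q hq
    have hq1 : x * q * x⁻¹ ∈ pCoreOf 2 K :=
      conj_mem_pCoreOf hxK hq
    have hrel : (x * q * x⁻¹) * c * (x * q * x⁻¹)⁻¹ * c⁻¹ = x * (q * c * q⁻¹ * c⁻¹) * x⁻¹ := by
      have hx' : x⁻¹ * c * x = c := by
        calc x⁻¹ * c * x = x⁻¹ * (x * c * x⁻¹) * x := by rw [hxc]
          _ = c := by group
      calc (x * q * x⁻¹) * c * (x * q * x⁻¹)⁻¹ * c⁻¹
          = x * (q * (x⁻¹ * c * x) * q⁻¹ * (x⁻¹ * c * x)⁻¹) * x⁻¹ := by group
        _ = x * (q * c * q⁻¹ * c⁻¹) * x⁻¹ := by rw [hx']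
    have hres : q * c * q⁻¹ * c⁻¹ = 1 := by
      rcases hYc1 q hq with h | h
      · exact h
      · exfalso
        rcases hYc1 _ hq1 with h' | h'
        · rw [hrel, h] at h'
          apply hz1
          have : x * z = x := by
            rw [mul_inv_eq_one] at h'
            exact h'
          simpa using this
        · rw [hrel, h] at h'
          exact hz1 (odd_fpf hK hxK hodd hxY hz h')
    have := hres
    rw [mul_inv_eq_one, mul_inv_eq_iff_eq_mul] at this
    exact this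
  have hKcen : K ≤ Subgroup.centralizer ({c} : Set G) := by
    refine le_of_core_le hK ?_ hxK hxY ?_
    · intro q hq
      rw [Subgroup.mem_centralizer_iff]
      rintro _ rfl
      exact (hYc q hq).symm
    · rw [Subgroup.mem_centralizer_iff]
      rintro _ rfl
      exact (mul_inv_eq_iff_eq_mul.mp hxc).symm
  have hKc' : ∀ k ∈ K, k * c = c * k := fun k hk =>
    (Subgroup.mem_centralizer_iff.mp (hKcen hk) c rfl).symm
  -- `J` centralizes `c`
  have hJc : ∀ j ∈ thompsonSubgroupOf 2 T, j * c = c * j := by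
    intro j hj
    set t := j * c * j⁻¹ * c⁻¹ with ht
    have htW : t ∈ wOf K := hJ j hj c hcV
    have h1 : x * (j * c * j⁻¹) * x⁻¹ = j * c * j⁻¹ := by
      have hk : j⁻¹ * x * j ∈ K := by
        have := J_norm hK (inv_mem hj) hxK
        simpa using this
      have h2 := hKc' _ hk
      calc x * (j * c * j⁻¹) * x⁻¹ = j * ((j⁻¹ * x * j) * c) * j⁻¹ * x⁻¹ := by group
        _ = j * (c * (j⁻¹ * x * j)) * j⁻¹ * x⁻¹ := by rw [h2]
        _ = j * c * j⁻¹ := by group
    have h3 : x * t * x⁻¹ = t := by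
      have h4 : x * c⁻¹ * x⁻¹ = c⁻¹ := by
        have := congrArg (·⁻¹) hxc
        simpa [mul_assoc] using this
      calc x * t * x⁻¹ = (x * (j * c * j⁻¹) * x⁻¹) * (x * c⁻¹ * x⁻¹) := by rw [ht]; group
        _ = t := by rw [h1, h4]
    have h5 : t = 1 := odd_fpf hK hxK hodd hxY htW h3
    rw [ht, mul_inv_eq_one, mul_inv_eq_iff_eq_mul] at h5
    exact h5
  refine ⟨w, hw, c, hcV, ?_, by rw [hcdef]; group⟩
  have hle : K ⊔ thompsonSubgroupOf 2 T ≤ Subgroup.centralizer ({c} : Set G) := by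
    refine sup_le hKcen ?_
    intro j hj
    rw [Subgroup.mem_centralizer_iff]
    rintro _ rfl
    exact (hJc j hj).symm
  intro g hg
  exact (Subgroup.mem_centralizer_iff.mp (hle hg) c rfl).symm

/-- `Z₀ ∩ W` has order 2. -/
theorem card_omegaCenter_inf_w (hT : IsPGroup 2 T) (hK : IsJComponent T K) :
    Nat.card ↥(omegaCenterOf (thompsonSubgroupOf 2 T) ⊓ wOf K) = 2 := by
  classical
  obtain ⟨z, hz, hz1, hzf⟩ := exists_z hT hK
  have hset : ((omegaCenterOf (thompsonSubgroupOf 2 T) ⊓ wOf K : Subgroup G) : Set G) = {1, z} := by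
    ext y
    simp only [SetLike.mem_coe, Subgroup.mem_inf, Set.mem_insert_iff, Set.mem_singleton_iff]
    constructor
    · rintro ⟨h1, h2⟩
      by_cases hy : y = 1
      · exact Or.inl hy
      · right
        refine z_unique hK h2 hz hy hz1 (fun j hj => ?_) hzf
        rw [mul_inv_eq_iff_eq_mul]
        exact (mem_omegaCenterOf_iff.mp h1).2.1 j hj
    · rintro (rfl | rfl)
      · exact ⟨one_mem _, one_mem _⟩
      · refine ⟨?_, hz⟩
        rw [mem_omegaCenterOf_iff]
        obtain ⟨A, hA⟩ := exists_mem_gMaxEA (p := 2) T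
        refine ⟨le_thompsonSubgroupOf hA (z_mem_A hT hK hA hz hzf), fun u hu => ?_, by
          rw [sq]; exact sq_w hK _ hz⟩
        exact mul_inv_eq_iff_eq_mul.mp (hzf u hu)
  have : Nat.card ↥(omegaCenterOf (thompsonSubgroupOf 2 T) ⊓ wOf K) =
      Set.ncard (({1, z} : Set G)) := by
    rw [← hset]
    exact (Nat.card_coe_set_eq _)
  rw [this, Set.ncard_pair hz1.symm]

/-- `Z₀ = (Z₀ ∩ Z(KJ)) (Z₀ ∩ W)`. -/
theorem omegaCenter_split (hT : IsPGroup 2 T) (hK : IsJComponent T K) :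
    (omegaCenterOf (thompsonSubgroupOf 2 T) ⊓ ((K ⊔ thompsonSubgroupOf 2 T) ⊓
        Subgroup.centralizer ((K ⊔ thompsonSubgroupOf 2 T) : Set G))) ⊔
      (omegaCenterOf (thompsonSubgroupOf 2 T) ⊓ wOf K) = omegaCenterOf (thompsonSubgroupOf 2 T) := by
  apply le_antisymm (sup_le inf_le_left inf_le_left)
  conv_lhs => unfold omegaCenterOf
  unfold omegaOne
  rw [Subgroup.closure_le]
  rintro v ⟨⟨hv, hvc⟩, hv2⟩
  have hc : ∀ u ∈ thompsonSubgroupOf 2 T, u * v = v * u := fun u hu =>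
    Subgroup.mem_centralizer_iff.mp hvc u hu
  obtain ⟨w, hw, c, hcV, hcen, rfl⟩ := split hT hK hv hc hv2
  have hcJ : c ∈ thompsonSubgroupOf 2 T := vTwo_le_J hcV
  have hcZ : c ∈ omegaCenterOf (thompsonSubgroupOf 2 T) := by
    rw [mem_omegaCenterOf_iff]
    exact ⟨hcJ, fun u hu => hcen u (Subgroup.mem_sup_right hu), vTwo_sq hcV⟩
  have hvZ : w * c ∈ omegaCenterOf (thompsonSubgroupOf 2 T) :=
    mem_omegaCenterOf_iff.mpr ⟨hv, hc, hv2⟩
  have hwZ : w ∈ omegaCenterOf (thompsonSubgroupOf 2 T) := by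
    have := mul_mem hvZ (inv_mem hcZ)
    simpa using this
  have h1 : c ∈ (omegaCenterOf (thompsonSubgroupOf 2 T) ⊓ ((K ⊔ thompsonSubgroupOf 2 T) ⊓
        Subgroup.centralizer ((K ⊔ thompsonSubgroupOf 2 T) : Set G))) :=
    ⟨hcZ, Subgroup.mem_sup_right hcJ, Subgroup.mem_centralizer_iff.mpr (by
      rintro g (hg | hg)
      · exact hcen g (Subgroup.mem_sup_left hg)
      · exact hcen g (Subgroup.mem_sup_right hg))⟩
  have h2 : w ∈ omegaCenterOf (thompsonSubgroupOf 2 T) ⊓ wOf K := ⟨hwZ, hw⟩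
  show w * c ∈ _
  rw [vTwo_comm (w_le_vTwo hT hK hw) hcV]
  exact mul_mem (Subgroup.mem_sup_left h1) (Subgroup.mem_sup_right h2)

end JC

end Cfsg.Agent.Lib.Amalgam.JComp
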