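import Mathlib
import Cfsg.Prelude.Def_JComponents
import Cfsg.Agent.Lib.Amalgam.JComp
import Cfsg.Agent.S2941
import Cfsg.Agent.S0606
import Cfsg.Agent.Lib.Amalgam.FFLocal

/-!
# `J(T)`-components inside members of `ℒ(T)`: the 2-local set-up

`L ∈ ℒ(T)`, `P = O₂(L)`, `Ω = Ω₁(Z(P))`, `C = C_L(Ω)`. Under the ZN hypothesis `C` normalizes `T`, every 2-element of
`C` lies in `P`, and `L / C` has trivial `O₂`.
-/

set_option autoImplicit false

namespace Cfsg.Agent.Lib.Amalgam.JLocal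

open Cfsg Cfsg.Agent.Lib.PGroup.ThompsonG Cfsg.Agent.Lib.Amalgam.JComp
open scoped Pointwise commutatorElement
open Cfsg.Agent.Lib.Amalgam.Vertex (conj_mem_pCoreOf pCoreOf_le le_normalizer_pCoreOf)
open Cfsg.Agent.Lib.Amalgam.FFLocal

variable {G : Type*} [Group G] [Finite G]

/-! ### Sylow 2-subgroups inside a subgroup -/

section SylowIn

variable {T L : Subgroup G}

omit [Finite G] in
theorem isP_subgroupOf (h : IsPGroup 2 T) (L : Subgroup G) : IsPGroup 2 (T.subgroupOf L) :=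
  IsPGroup.comap_subtype h

/-- `T` as a Sylow subgroup of `L`. -/
noncomputable def sylowIn (h : IsSylowTwoIn T L) : Sylow 2 L :=
  IsPGroup.toSylow (P := T.subgroupOf L) (isP_subgroupOf h.2.1 L) (by
    have h2 := h.2.2
    rw [Subgroup.relIndex, Nat.odd_iff] at h2
    omega)

theorem mem_sylowIn (h : IsSylowTwoIn T L) {x : L} : x ∈ sylowIn h ↔ (x : G) ∈ T := by
  unfold sylowIn
  exact (IsPGroup.mem_toSylow _ _).trans Subgroup.mem_subgroupOf

/-- A 2-subgroup of `L` lies in a conjugate of `T`. -/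
theorem exists_conj_le (h : IsSylowTwoIn T L) {Q : Subgroup G} (hQL : Q ≤ L) (hQ : IsPGroup 2 Q) :
    ∃ l ∈ L, ∀ q ∈ Q, l⁻¹ * q * l ∈ T := by
  obtain ⟨S, hS⟩ := (isP_subgroupOf hQ L).exists_le_sylow
  obtain ⟨l, hl⟩ := MulAction.exists_smul_eq L (sylowIn h) S
  refine ⟨l, l.2, fun q hq => ?_⟩
  have h1 : (⟨q, hQL hq⟩ : L) ∈ S := hS (Subgroup.mem_subgroupOf.mpr hq)
  rw [← hl] at h1
  have h2 : l⁻¹ * (⟨q, hQL hq⟩ : L) * l ∈ sylowIn h := by
    have h1' : (⟨q, hQL hq⟩ : L) ∈ MulAut.conj l • ((sylowIn h : Sylow 2 L) : Subgroup L) := h1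
    rw [Subgroup.mem_pointwise_smul_iff_inv_smul_mem] at h1'
    have h4 : l⁻¹ * (⟨q, hQL hq⟩ : L) * l ∈ ((sylowIn h : Sylow 2 L) : Subgroup L) := by
      simpa [MulAut.smul_def, MulAut.conj_apply] using h1'
    exact h4
  have h3 := (mem_sylowIn h).mp h2
  simpa using h3

/-- A 2-element of `L` lies in a conjugate of `T`. -/
theorem exists_conj_mem (h : IsSylowTwoIn T L) {u : G} (hu : u ∈ L) (hu2 : ∃ n : ℕ, u ^ 2 ^ n = 1) :
    ∃ l ∈ L, l⁻¹ * u * l ∈ T := by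
  have hP : IsPGroup 2 (Subgroup.zpowers u) := by
    obtain ⟨n, hn⟩ := hu2
    rw [IsPGroup.iff_card]
    obtain ⟨m, -, hm⟩ := (Nat.dvd_prime_pow Nat.prime_two).mp (orderOf_dvd_of_pow_eq_one hn)
    exact ⟨m, by rw [Nat.card_zpowers]; exact hm⟩
  obtain ⟨l, hl, h1⟩ := exists_conj_le h (Subgroup.zpowers_le.mpr hu) hP
  exact ⟨l, hl, h1 u (Subgroup.mem_zpowers u)⟩

/-- A 2-subgroup of `L` containing `T` equals `T`. -/
theorem eq_of_le (h : IsSylowTwoIn T L) {Q : Subgroup G} (hTQ : T ≤ Q) (hQL : Q ≤ L)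
    (hQ : IsPGroup 2 Q) : Q = T := by
  have hmul := Subgroup.relIndex_mul_relIndex T Q L hTQ hQL
  have hodd := h.2.2
  rw [← hmul] at hodd
  have h1 : Odd (T.relIndex Q) := (Nat.odd_mul.mp hodd).1
  have hd : T.relIndex Q ∣ Nat.card Q := Subgroup.relIndex_dvd_card _ _
  obtain ⟨n, hn⟩ := IsPGroup.iff_card.mp hQ
  rw [hn] at hd
  obtain ⟨m, -, hm⟩ := (Nat.dvd_prime_pow Nat.prime_two).mp hd
  rw [hm] at h1
  have hm0 : m = 0 := by
    by_contra hm0
    have := (Nat.even_pow.mpr ⟨even_two, hm0⟩)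
    exact (Nat.not_even_iff_odd.mpr h1) this
  rw [hm0, pow_zero] at hm
  have hle : Q ≤ T := Subgroup.relIndex_eq_one.mp hm
  exact le_antisymm hle hTQ

/-- An element of `L` normalizing `T` whose order is a power of 2 lies in `T`. -/
theorem mem_of_normalizes (h : IsSylowTwoIn T L) {u : G} (hu : u ∈ L) (hu2 : ∃ n : ℕ, u ^ 2 ^ n = 1)
    (hN : u ∈ Subgroup.normalizer (T : Set G)) : u ∈ T := by
  have hP : IsPGroup 2 (Subgroup.zpowers u) := by
    obtain ⟨n, hn⟩ := hu2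
    rw [IsPGroup.iff_card]
    obtain ⟨m, -, hm⟩ := (Nat.dvd_prime_pow Nat.prime_two).mp (orderOf_dvd_of_pow_eq_one hn)
    exact ⟨m, by rw [Nat.card_zpowers]; exact hm⟩
  have hsup : IsPGroup 2 ((T ⊔ Subgroup.zpowers u : Subgroup G)) :=
    IsPGroup.to_sup_of_normal_left' h.2.1 hP (Subgroup.zpowers_le.mpr hN)
  have := eq_of_le h le_sup_left (sup_le h.1 (Subgroup.zpowers_le.mpr hu)) hsup
  rw [← this]
  exact Subgroup.mem_sup_right (Subgroup.mem_zpowers u)

/-- `O₂(L) ≤ T`. -/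
theorem pCoreOf_le_of_sylow (h : IsSylowTwoIn T L) : pCoreOf 2 L ≤ T := by
  have h1 := Cfsg.Agent.Lib.Amalgam.Vertex.pCoreOf_le_map_sylow (sylowIn h)
  intro x hx
  obtain ⟨y, hy, rfl⟩ := h1 hx
  exact (mem_sylowIn h).mp hy

omit [Finite G] in
/-- A 2-subgroup of `L` normalized by `L` lies in `O₂(L)`. -/
theorem le_pCoreOf {L Q : Subgroup G} (hQL : Q ≤ L) (hQ : IsPGroup 2 Q)
    (hN : ∀ l ∈ L, ∀ q ∈ Q, l * q * l⁻¹ ∈ Q) : Q ≤ pCoreOf 2 L := by
  have hn : (Q.subgroupOf L).Normal := by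
    constructor
    intro n hn c
    rw [Subgroup.mem_subgroupOf] at hn ⊢
    exact hN c c.2 n hn
  have hle := Cfsg.Agent.Lib.Basic.PCore.le_pCore hn (isP_subgroupOf hQ L)
  intro q hq
  exact ⟨⟨q, hQL hq⟩, hle (Subgroup.mem_subgroupOf.mpr hq), rfl⟩

end SylowIn

/-! ### The set-up attached to `L` -/

section LLevel

/-- The ZN hypothesis on the centralizer of `Ω₁(Z(S))`. -/
def ZNHyp (G : Type*) [Group G] : Prop :=
  ∀ S : Sylow 2 G, Subgroup.centralizer (omegaCenterOf (S : Subgroup G) : Set G) ≤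
    Subgroup.normalizer ((S : Subgroup G) : Set G)

/-- `Ω₁(Z(O₂(L)))`. -/
noncomputable abbrev omL (L : Subgroup G) : Subgroup G := omegaCenterOf (pCoreOf 2 L)

/-- `C_L(Ω₁(Z(O₂(L))))`. -/
noncomputable abbrev cL (L : Subgroup G) : Subgroup G := L ⊓ Subgroup.centralizer (omL L : Set G)

/-- The hypotheses on `L` and its Sylow subgroup `T`. -/
structure LSetup (T L : Subgroup G) : Prop where
  syl : IsSylowTwoIn T L
  cent : Subgroup.centralizer (pCoreOf 2 L : Set G) ≤ pCoreOf 2 L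
  hZ : ZNHyp G

variable {T L : Subgroup G}

theorem conj_mem_core {l p : G} (hl : l ∈ L) (hp : p ∈ pCoreOf 2 L) : l * p * l⁻¹ ∈ pCoreOf 2 L :=
  conj_mem_pCoreOf hl hp

theorem conj_mem_om {l v : G} (hl : l ∈ L) (hv : v ∈ omL L) : l * v * l⁻¹ ∈ omL L :=
  conj_mem_omegaCenterOf (le_normalizer_pCoreOf hl) hv

omit [Finite G] in
theorem om_le_core : omL L ≤ pCoreOf 2 L := fun _ h => (mem_omegaCenterOf_iff.mp h).1

omit [Finite G] in
theorem om_comm {u v : G} (hu : u ∈ pCoreOf 2 L) (hv : v ∈ omL L) : u * v = v * u :=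
  (mem_omegaCenterOf_iff.mp hv).2.1 u hu

omit [Finite G] in
theorem om_sq {v : G} (hv : v ∈ omL L) : v ^ 2 = 1 := (mem_omegaCenterOf_iff.mp hv).2.2

theorem core_le_cL : pCoreOf 2 L ≤ cL L := fun _ hu =>
  ⟨pCoreOf_le hu, Subgroup.mem_centralizer_iff.mpr fun _ hv => (om_comm hu hv).symm⟩

theorem cL_le : cL L ≤ L := inf_le_left

omit [Finite G] in
theorem cL_comm {c v : G} (hc : c ∈ cL L) (hv : v ∈ omL L) : v * c = c * v :=
  Subgroup.mem_centralizer_iff.mp hc.2 v hv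

/-- `C` is normal in `L`. -/
theorem conj_mem_cL {l c : G} (hl : l ∈ L) (hc : c ∈ cL L) : l * c * l⁻¹ ∈ cL L := by
  refine Subgroup.mem_inf.mpr ⟨mul_mem (mul_mem hl (cL_le hc)) (inv_mem hl),
    Subgroup.mem_centralizer_iff.mpr fun v hv => ?_⟩
  have h1 : l⁻¹ * v * l⁻¹⁻¹ ∈ omL L := conj_mem_om (inv_mem hl) hv
  have h2 := cL_comm hc h1
  calc v * (l * c * l⁻¹) = l * ((l⁻¹ * v * l⁻¹⁻¹) * c) * l⁻¹ := by group
    _ = l * (c * (l⁻¹ * v * l⁻¹⁻¹)) * l⁻¹ := by rw [h2]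
    _ = l * c * l⁻¹ * v := by group

/-- `Ω₁(Z(S)) ≤ Ω₁(Z(O₂(L)))` for a Sylow subgroup `S ≥ T` of `G`. -/
theorem omegaS_le (h : LSetup T L) {S : Subgroup G} (hTS : T ≤ S) : omegaCenterOf S ≤ omL L := by
  intro z hz
  obtain ⟨hzS, hzc, hz2⟩ := mem_omegaCenterOf_iff.mp hz
  have hPT := pCoreOf_le_of_sylow h.syl
  have hzP : z ∈ pCoreOf 2 L := h.cent (Subgroup.mem_centralizer_iff.mpr fun u hu =>
    hzc u (hTS (hPT hu)))
  exact mem_omegaCenterOf_iff.mpr ⟨hzP, fun u hu => hzc u (hTS (hPT hu)), hz2⟩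

/-- `C` normalizes `T`. -/
theorem LSetup.cL_norm (h : LSetup T L) {c : G} (hc : c ∈ cL L) :
    c ∈ Subgroup.normalizer (T : Set G) := by
  obtain ⟨S, hS⟩ := h.syl.2.1.exists_le_sylow
  have hcS : c ∈ Subgroup.normalizer ((S : Subgroup G) : Set G) := by
    apply h.hZ S
    rw [Subgroup.mem_centralizer_iff]
    intro z hz
    exact cL_comm hc (omegaS_le h hS hz)
  have hT' : (S : Subgroup G) ⊓ L = T :=
    eq_of_le h.syl (le_inf hS h.syl.1) inf_le_right (IsPGroup.to_inf_left S.2)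
  rw [Subgroup.mem_normalizer_iff]
  intro t
  have hcL : c ∈ L := cL_le hc
  constructor
  · intro ht
    have ht' : t ∈ (S : Subgroup G) ⊓ L := hT' ▸ ht
    obtain ⟨h1, h2⟩ := Subgroup.mem_inf.mp ht'
    rw [← hT']
    exact Subgroup.mem_inf.mpr ⟨(Subgroup.mem_normalizer_iff.mp hcS t).mp h1,
      mul_mem (mul_mem hcL h2) (inv_mem hcL)⟩
  · intro ht
    have ht' : c * t * c⁻¹ ∈ (S : Subgroup G) ⊓ L := hT' ▸ ht
    obtain ⟨h1, h2⟩ := Subgroup.mem_inf.mp ht'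
    rw [← hT']
    refine Subgroup.mem_inf.mpr ⟨(Subgroup.mem_normalizer_iff.mp hcS t).mpr h1, ?_⟩
    have : t = c⁻¹ * (c * t * c⁻¹) * c := by group
    rw [this]
    exact mul_mem (mul_mem (inv_mem hcL) h2) hcL

/-- If `D ≤ L` is normal and normalizes `T`, then every 2-element of `D` lies in `O₂(L)`. -/
theorem LSetup.mem_core_of_normalizes (h : LSetup T L) {D : Subgroup G} (hDL : D ≤ L)
    (hDn : ∀ l ∈ L, ∀ d ∈ D, l * d * l⁻¹ ∈ D) (hDT : D ≤ Subgroup.normalizer (T : Set G)) {u : G}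
    (hu : u ∈ D) (hu2 : ∃ n : ℕ, u ^ 2 ^ n = 1) : u ∈ pCoreOf 2 L := by
  have hle : D ⊓ T ≤ pCoreOf 2 L := by
    refine le_pCoreOf (inf_le_right.trans h.syl.1) (IsPGroup.to_inf_right h.syl.2.1) ?_
    intro l hl d hdd
    obtain ⟨hd, hdT⟩ := Subgroup.mem_inf.mp hdd
    have hd1 : l * d * l⁻¹ ∈ D := hDn l hl d hd
    refine Subgroup.mem_inf.mpr ⟨hd1, mem_of_normalizes h.syl (hDL hd1) ?_ (hDT hd1)⟩
    obtain ⟨a, ha⟩ := (IsPGroup.iff_orderOf.mp h.syl.2.1) ⟨d, hdT⟩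
    rw [Subgroup.orderOf_mk] at ha
    refine ⟨a, ?_⟩
    rw [conj_pow, ← ha, pow_orderOf_eq_one]
    simp
  exact hle (Subgroup.mem_inf.mpr ⟨hu, mem_of_normalizes h.syl (hDL hu) hu2 (hDT hu)⟩)

/-- Every 2-element of `C` lies in `O₂(L)`. -/
theorem LSetup.mem_core_of_two_element (h : LSetup T L) {c : G} (hc : c ∈ cL L)
    (h2 : ∃ n : ℕ, c ^ 2 ^ n = 1) : c ∈ pCoreOf 2 L :=
  h.mem_core_of_normalizes cL_le (fun _ hl _ hd => conj_mem_cL hl hd) (fun _ hd => h.cL_norm hd) hc h2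

/-- `[C, u] ≤ O₂(L)` for a 2-element `u` of `L`. -/
theorem LSetup.comm_mem_core (h : LSetup T L) {c u : G} (hc : c ∈ cL L) (hu : u ∈ L)
    (hu2 : ∃ n : ℕ, u ^ 2 ^ n = 1) : c * u * c⁻¹ * u⁻¹ ∈ pCoreOf 2 L := by
  obtain ⟨l, hl, hluT⟩ := exists_conj_mem h.syl hu hu2
  set t := l⁻¹ * u * l with ht
  set c' := l⁻¹ * c * l⁻¹⁻¹ with hc'
  have hc'C : c' ∈ cL L := conj_mem_cL (inv_mem hl) hc
  have h1 : c' * t * c'⁻¹ ∈ T := (Subgroup.mem_normalizer_iff.mp (h.cL_norm hc'C) t).mp hluT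
  have h2 : c' * t * c'⁻¹ * t⁻¹ ∈ T := mul_mem h1 (inv_mem hluT)
  have htL : t ∈ L := h.syl.1 hluT
  have h3 : c' * t * c'⁻¹ * t⁻¹ ∈ cL L := by
    have e : c' * t * c'⁻¹ * t⁻¹ = c' * (t * c'⁻¹ * t⁻¹) := by group
    rw [e]
    exact mul_mem hc'C (conj_mem_cL htL (inv_mem hc'C))
  have h4 : c' * t * c'⁻¹ * t⁻¹ ∈ pCoreOf 2 L := by
    refine h.mem_core_of_two_element h3 ?_
    obtain ⟨a, ha⟩ := (IsPGroup.iff_orderOf.mp h.syl.2.1) ⟨_, h2⟩
    rw [Subgroup.orderOf_mk] at ha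
    exact ⟨a, by rw [← ha, pow_orderOf_eq_one]⟩
  have h5 := conj_mem_core hl h4
  have e : l * (c' * t * c'⁻¹ * t⁻¹) * l⁻¹ = c * u * c⁻¹ * u⁻¹ := by
    rw [ht, hc']; group
  rwa [e] at h5

/-- A normal subgroup `D` of `L` over `C` with `D / C` a 2-group equals `C`. -/
theorem LSetup.le_cL_of_two (h : LSetup T L) {D : Subgroup G} (hDL : D ≤ L) (hCD : cL L ≤ D)
    (hDn : ∀ l ∈ L, ∀ d ∈ D, l * d * l⁻¹ ∈ D) (hD2 : ∀ d ∈ D, ∃ n : ℕ, d ^ 2 ^ n ∈ cL L) :
    D ≤ cL L := by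
  classical
  have hCn : ((cL L).subgroupOf L).Normal := by
    constructor
    intro n hn c
    rw [Subgroup.mem_subgroupOf] at hn ⊢
    exact conj_mem_cL c.2 hn
  set π := QuotientGroup.mk' ((cL L).subgroupOf L) with hπ
  have hsurj : Function.Surjective π := QuotientGroup.mk'_surjective _
  have hTp : IsPGroup 2 ((T.subgroupOf L).map π) := (isP_subgroupOf h.syl.2.1 L).map π
  have hTi : ¬ 2 ∣ ((T.subgroupOf L).map π).index := by
    have h1 : ((T.subgroupOf L).map π).index ∣ (T.subgroupOf L).index := by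
      rw [Subgroup.index_map, (MonoidHom.range_eq_top.mpr hsurj), Subgroup.index_top, mul_one]
      exact Subgroup.index_dvd_of_le le_sup_left
    have h2 := h.syl.2.2
    rw [Subgroup.relIndex, Nat.odd_iff] at h2
    intro h3
    have := h3.trans h1
    omega
  have hDnorm : (D.subgroupOf L).Normal := by
    constructor
    intro n hn c
    rw [Subgroup.mem_subgroupOf] at hn ⊢
    exact hDn c c.2 n hn
  have hDhat : ((D.subgroupOf L).map π).Normal := hDnorm.map π hsurj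
  have hDp : IsPGroup 2 ((D.subgroupOf L).map π) := by
    rintro ⟨_, d, hd, rfl⟩
    obtain ⟨n, hn⟩ := hD2 d (Subgroup.mem_subgroupOf.mp hd)
    refine ⟨n, Subtype.ext ?_⟩
    show π d ^ 2 ^ n = 1
    rw [← map_pow, hπ, QuotientGroup.mk'_apply, QuotientGroup.eq_one_iff, Subgroup.mem_subgroupOf]
    simpa using hn
  have hle : (D.subgroupOf L).map π ≤ (T.subgroupOf L).map π := by
    have h1 := Cfsg.Agent.Lib.Basic.PCore.le_pCore hDhat hDp
    have h2 := Cfsg.Agent.Lib.Basic.PCore.pCore_le_sylow (hTp.toSylow hTi)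
    exact h1.trans (h2.trans (by simp))
  have hfact : ∀ d ∈ D, ∃ t ∈ T, ∃ c ∈ cL L, d = t * c := by
    intro d hd
    have hdL := hDL hd
    have h1 : π ⟨d, hdL⟩ ∈ (T.subgroupOf L).map π :=
      hle (Subgroup.mem_map_of_mem π (Subgroup.mem_subgroupOf.mpr hd))
    obtain ⟨t, ht, hte⟩ := h1
    rw [hπ, QuotientGroup.mk'_apply, QuotientGroup.mk'_apply, QuotientGroup.eq, Subgroup.mem_subgroupOf] at hte
    refine ⟨t, Subgroup.mem_subgroupOf.mp ht, _, hte, ?_⟩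
    simp
  have hDN : D ≤ Subgroup.normalizer (T : Set G) := by
    intro d hd
    obtain ⟨t, ht, c, hc, rfl⟩ := hfact d hd
    exact mul_mem (Subgroup.le_normalizer ht) (h.cL_norm hc)
  intro d hd
  obtain ⟨t, ht, c, hc, rfl⟩ := hfact d hd
  have htD : t ∈ D := by
    have : t = t * c * c⁻¹ := by group
    rw [this]
    exact mul_mem hd (hCD (inv_mem hc))
  have ht2 : ∃ n : ℕ, t ^ 2 ^ n = 1 := by
    obtain ⟨a, ha⟩ := (IsPGroup.iff_orderOf.mp h.syl.2.1) ⟨_, ht⟩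
    rw [Subgroup.orderOf_mk] at ha
    exact ⟨a, by rw [← ha, pow_orderOf_eq_one]⟩
  have htP := h.mem_core_of_normalizes hDL hDn hDN htD ht2
  exact mul_mem (core_le_cL htP) hc

end LLevel

/-! ### Members of `𝒜(X)` are best offenders -/

section Best

/-- Members of `𝒜(X)` are best offenders on any elementary abelian subgroup of `X` normalized by `X`. -/
theorem best_of_gMaxEA {p : ℕ} [Fact p.Prime] {X A V : Subgroup G} (hA : A ∈ gMaxEA p X) (hVX : V ≤ X)
    (hXV : X ≤ Subgroup.normalizer (V : Set G)) (hV : IsElementaryAbelian p V) :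
    IsBestOffenderOn p V A := by
  have hn : (V.subgroupOf X).Normal := by
    constructor
    intro n hn c
    rw [Subgroup.mem_subgroupOf] at hn ⊢
    exact (Subgroup.mem_normalizer_iff.mp (hXV c.2) n).mp hn
  have hV' : IsElementaryAbelian p (V.subgroupOf X) :=
    ea_of_map X.subtype_injective (by rwa [map_subgroupOf hVX])
  have h := Cfsg.Agent.S0606.result (V.subgroupOf X) hV' (A.subgroupOf X)
    (subgroupOf_mem_of_mem_gMaxEA hA)
  have hcard : ∀ D : Subgroup G, D ≤ X →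
      Nat.card ((V.subgroupOf X) ⊓ Subgroup.centralizer ((D.subgroupOf X : Subgroup X) : Set X) :
        Subgroup X) = Nat.card (V ⊓ Subgroup.centralizer (D : Set G) : Subgroup G) := by
    intro D hD
    have hmap : ((V.subgroupOf X) ⊓ Subgroup.centralizer ((D.subgroupOf X : Subgroup X) : Set X)).map
        X.subtype = V ⊓ Subgroup.centralizer (D : Set G) := by
      ext v
      constructor
      · rintro ⟨y, hy, rfl⟩
        obtain ⟨hy1, hy2⟩ := Subgroup.mem_inf.mp hy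
        refine Subgroup.mem_inf.mpr ⟨Subgroup.mem_subgroupOf.mp hy1, ?_⟩
        rw [Subgroup.mem_centralizer_iff] at hy2 ⊢
        intro d hd
        have := hy2 ⟨d, hD hd⟩ (Subgroup.mem_subgroupOf.mpr hd)
        exact congrArg Subtype.val this
      · intro hv
        obtain ⟨hv1, hv2⟩ := Subgroup.mem_inf.mp hv
        refine ⟨⟨v, hVX hv1⟩, Subgroup.mem_inf.mpr ⟨Subgroup.mem_subgroupOf.mpr hv1, ?_⟩, rfl⟩
        rw [Subgroup.mem_centralizer_iff] at hv2 ⊢
        intro d hd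
        apply Subtype.ext
        exact hv2 d.1 (Subgroup.mem_subgroupOf.mp hd)
    rw [← hmap, card_map_subtype]
  have hcard2 : ∀ D : Subgroup G, D ≤ X → Nat.card (D.subgroupOf X) = Nat.card D := by
    intro D hD
    rw [← card_map_subtype (D.subgroupOf X), map_subgroupOf hD]
  refine ⟨fun B hBA => ?_, ?_, fun a ha => ?_⟩
  · have hBX := hBA.trans hA.1
    have h1 := h.1 (B.subgroupOf X) (Subgroup.subgroupOf_mono X hBA)
    rwa [hcard B hBX, hcard A hA.1, hcard2 B hBX, hcard2 A hA.1] at h1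
  · rw [Subgroup.commutator_le]
    intro a ha b hb
    have : ⁅a, b⁆ = 1 := commutatorElement_eq_one_iff_mul_comm.mpr (ea_comm hA.2.1 ha hb)
    rw [this]
    exact one_mem _
  · rw [hA.2.1.2 a ha]
    exact one_mem _

end Best

/-! ### The quotient by `O₂(L)` -/

section Bar

variable {L : Subgroup G}

instance core_normal (L : Subgroup G) : ((pCoreOf 2 L).subgroupOf L).Normal := by
  constructor
  intro n hn c
  rw [Subgroup.mem_subgroupOf] at hn ⊢
  exact conj_mem_core c.2 hn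

/-- The quotient `L / O₂(L)`. -/
abbrev LBar (L : Subgroup G) := L ⧸ ((pCoreOf 2 L).subgroupOf L)

/-- The projection `L → L / O₂(L)`. -/
abbrev bar (L : Subgroup G) : L →* LBar L := QuotientGroup.mk' _

theorem bar_eq_one {x : L} : bar L x = 1 ↔ (x : G) ∈ pCoreOf 2 L := by
  rw [QuotientGroup.mk'_apply, QuotientGroup.eq_one_iff, Subgroup.mem_subgroupOf]

end Bar

/-! ### `J(T)`-components inside `L` -/

section KLevel

/-- The hypotheses for a `J(T)`-component `K` inside `L`, with a family `F` as in the structure theorem for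
failure of factorization. -/
structure KSetup (T L K : Subgroup G) (F : Set (Subgroup G)) : Prop where
  hL : LSetup T L
  hJ : ¬ thompsonSubgroupOf 2 T ≤ pCoreOf 2 L
  hK : IsJComponent T K
  hKL : K ≤ L
  hPK : pCoreOf 2 L ≤ Subgroup.normalizer (K : Set G)
  hF : IsFF (omL L) L F

variable {T L K : Subgroup G} {F : Set (Subgroup G)}

namespace KSetup

variable (h : KSetup T L K F)
include h

theorem J_le_T : thompsonSubgroupOf 2 T ≤ T := thompsonSubgroupOf_le_self T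

theorem J_le_L : thompsonSubgroupOf 2 T ≤ L := (J_le_T h).trans h.hL.syl.1

theorem isP_T : IsPGroup 2 T := h.hL.syl.2.1

theorem core_le_T : pCoreOf 2 L ≤ T := pCoreOf_le_of_sylow h.hL.syl

theorem om_ea : IsElementaryAbelian 2 (omL L) := by
  refine ⟨⟨⟨?_⟩⟩, fun a ha => om_sq ha⟩
  rintro ⟨a, ha⟩ ⟨b, hb⟩
  exact Subtype.ext (om_comm (om_le_core ha) hb)

theorem best {A : Subgroup G} (hA : A ∈ gMaxEA 2 T) : IsBestOffenderOn 2 (omL L) A :=
  best_of_gMaxEA hA ((om_le_core).trans (core_le_T h))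
    (fun t ht => (h.hF.norm (h.hL.syl.1 ht))) (om_ea h)

theorem A_le_L {A : Subgroup G} (hA : A ∈ gMaxEA 2 T) : A ≤ L := hA.1.trans h.hL.syl.1

/-- Elements of members of `𝒜(T)` are 2-elements with square 1. -/
theorem A_sq {A : Subgroup G} (hA : A ∈ gMaxEA 2 T) {a : G} (ha : a ∈ A) : a ^ 2 = 1 := hA.2.1.2 a ha

/-- Commutator with `J`: it suffices to check members of `F`. -/
theorem comm_J_mem (N : Subgroup G) (hN : ∀ l ∈ L, ∀ n ∈ N, l * n * l⁻¹ ∈ N) (hC : cL L ≤ N) {k : G}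
    (hk : k ∈ L)
    (hb : ∀ A ∈ gMaxEA 2 T, ∀ b ∈ A, ∀ E ∈ F, b ∈ E → k * b * k⁻¹ * b⁻¹ ∈ N) :
    ∀ j ∈ thompsonSubgroupOf 2 T, k * j * k⁻¹ * j⁻¹ ∈ N := by
  let D : Subgroup G :=
    { carrier := {j | j ∈ L ∧ k * j * k⁻¹ * j⁻¹ ∈ N}
      mul_mem' := by
        rintro a b ⟨ha, ha'⟩ ⟨hb, hb'⟩
        refine ⟨mul_mem ha hb, ?_⟩
        have e : k * (a * b) * k⁻¹ * (a * b)⁻¹ =
            (k * a * k⁻¹ * a⁻¹) * (a * (k * b * k⁻¹ * b⁻¹) * a⁻¹) := by group
        rw [e]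
        exact mul_mem ha' (hN a ha _ hb')
      one_mem' := ⟨one_mem _, by simp [one_mem]⟩
      inv_mem' := by
        rintro a ⟨ha, ha'⟩
        refine ⟨inv_mem ha, ?_⟩
        have e : k * a⁻¹ * k⁻¹ * a⁻¹⁻¹ = a⁻¹ * (k * a * k⁻¹ * a⁻¹)⁻¹ * a⁻¹⁻¹ := by group
        rw [e]
        exact hN a⁻¹ (inv_mem ha) _ (inv_mem ha') }
  have hle : thompsonSubgroupOf 2 T ≤ D := by
    rw [thompsonSubgroupOf_le_iff]
    intro A hA
    refine (h.hF.gen A (A_le_L h hA) (best h hA)).trans ((Subgroup.closure_le D).mpr ?_)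
    rintro x (⟨hxA, E, hE, hxE⟩ | hx)
    · exact ⟨A_le_L h hA hxA, hb A hA x hxA E hE hxE⟩
    · have hxC : x ∈ cL L := hx
      refine ⟨cL_le hxC, hC ?_⟩
      exact mul_mem (conj_mem_cL hk hxC) (inv_mem hxC)
  intro j hj
  exact (hle hj).2

/-- `F` is not empty. -/
theorem F_nonempty : F.Nonempty := by
  by_contra hne
  rw [Set.not_nonempty_iff_eq_empty] at hne
  apply h.hJ
  intro j hj
  have hjL := J_le_L h hj
  have hjT := J_le_T h hj
  have hle : thompsonSubgroupOf 2 T ≤ cL L := by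
    rw [thompsonSubgroupOf_le_iff]
    intro A hA
    refine (h.hF.gen A (A_le_L h hA) (best h hA)).trans ((Subgroup.closure_le _).mpr ?_)
    rintro x (⟨-, E, hE, -⟩ | hx)
    · rw [hne] at hE
      exact absurd hE (Set.notMem_empty _)
    · exact hx
  refine h.hL.mem_core_of_two_element (hle hj) ?_
  obtain ⟨a, ha⟩ := (IsPGroup.iff_orderOf.mp (isP_T h)) ⟨_, hjT⟩
  rw [Subgroup.orderOf_mk] at ha
  exact ⟨a, by rw [← ha, pow_orderOf_eq_one]⟩

/-- `C ≤ ⟨F⟩`. -/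
theorem cL_le_sSup : cL L ≤ sSup F := by
  obtain ⟨E, hE⟩ := F_nonempty h
  exact (h.hF.ge E hE).trans (le_sSup hE)

/-- `J ≤ ⟨F⟩`. -/
theorem J_le_sSup : thompsonSubgroupOf 2 T ≤ sSup F := by
  rw [thompsonSubgroupOf_le_iff]
  intro A hA
  refine (h.hF.gen A (A_le_L h hA) (best h hA)).trans ((Subgroup.closure_le _).mpr ?_)
  rintro x (⟨-, E, hE, hxE⟩ | hx)
  · exact le_sSup hE hxE
  · exact cL_le_sSup h hx

/-- `K ≤ ⟨F⟩`. -/
theorem K_le_sSup : K ≤ sSup F := by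
  rw [← J_comm h.hK, Subgroup.commutator_le]
  intro k hk j hj
  rw [commutatorElement_def]
  exact mul_mem (h.hF.conj_mem_sSup (h.hKL hk) (J_le_sSup h hj)) (inv_mem (J_le_sSup h hj))

/-- `K ≤ N₃`. -/
theorem K_le_n3 : K ≤ n3 (omL L) L F := by
  conv_lhs => rw [← J_comm h.hK]
  rw [Subgroup.commutator_le]
  intro k hk j hj
  rw [commutatorElement_def]
  refine comm_J_mem h (n3 (omL L) L F) (fun l hl n hn => conj_mem_n3 h.hF hl hn) cL_le_n3 (h.hKL hk) ?_ j hj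
  intro A hA b hb E hE hbE
  by_cases hbZ : b ∈ Subgroup.centralizer (omL L : Set G)
  · have hbC : b ∈ cL L := Subgroup.mem_inf.mpr ⟨A_le_L h hA hb, hbZ⟩
    refine cL_le_n3 ?_
    exact mul_mem (conj_mem_cL (h.hKL hk) hbC) (inv_mem hbC)
  · refine comm_mem_n3 h.hF hE (K_le_sSup h hk) hbE ?_ hbZ
    rw [A_sq h hA hb]
    exact one_mem _

end KSetup

/-- A 2-group normalizing `W` fixes a nonidentity element of `W`. -/
theorem exists_fixed (hK : IsJComponent T K) {Q : Subgroup G} (hQ : IsPGroup 2 Q)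
    (hQW : ∀ q ∈ Q, ∀ w ∈ wOf K, q * w * q⁻¹ ∈ wOf K) :
    ∃ z ∈ wOf K, z ≠ 1 ∧ ∀ q ∈ Q, q * z * q⁻¹ = z := by
  classical
  by_contra hcon
  push Not at hcon
  letI : MulAction Q (wOf K) :=
    { smul := fun j w => ⟨(j : G) * w * (j : G)⁻¹, hQW j j.2 w w.2⟩
      one_smul := fun w => Subtype.ext (by
        show ((1 : Q) : G) * w * ((1 : Q) : G)⁻¹ = w
        simp)
      mul_smul := fun a b w => Subtype.ext (by
        show ((a * b : Q) : G) * w * ((a * b : Q) : G)⁻¹ =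
          (a : G) * ((b : G) * w * (b : G)⁻¹) * (a : G)⁻¹
        simp only [Subgroup.coe_mul]
        group) }
  have hsm : ∀ (j : Q) (w : wOf K), ((j • w : wOf K) : G) = j * w * (j : G)⁻¹ :=
    fun _ _ => rfl
  have hmod := hQ.card_modEq_card_fixedPoints (wOf K)
  rw [card_w hK] at hmod
  have hfix : MulAction.fixedPoints Q (wOf K) = {1} := by
    ext w
    simp only [MulAction.mem_fixedPoints, Set.mem_singleton_iff]
    constructor
    · intro h
      by_contra hw1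
      have hw1' : (w : G) ≠ 1 := fun h' => hw1 (Subtype.ext h')
      obtain ⟨j, hj, hj'⟩ := hcon w w.2 hw1'
      apply hj'
      have := congrArg Subtype.val (h ⟨j, hj⟩)
      rw [hsm] at this
      exact this
    · rintro rfl j
      apply Subtype.ext
      rw [hsm]
      simp
  rw [hfix, Nat.card_coe_set_eq, Set.ncard_singleton] at hmod
  exact absurd hmod (by decide)

/-- A 2-group normalizing `K` and normalized by `K` centralizes `W`. -/
theorem centralizes_w (hK : IsJComponent T K) {Q : Subgroup G} (hQ : IsPGroup 2 Q)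
    (hQK : Q ≤ Subgroup.normalizer (K : Set G)) (hKQ : K ≤ Subgroup.normalizer (Q : Set G)) :
    ∀ q ∈ Q, ∀ w ∈ wOf K, q * w * q⁻¹ = w := by
  have hQW : ∀ q ∈ Q, ∀ w ∈ wOf K, q * w * q⁻¹ ∈ wOf K := fun q hq w hw =>
    conj_mem_wOf (hQK hq) hw
  obtain ⟨z, hz, hz1, hfix⟩ := exists_fixed hK hQ hQW
  obtain ⟨x, hxK, hodd, hxY⟩ := exists_odd hK
  have hz'W : x * z * x⁻¹ ∈ wOf K := conj_mem_wOf (Subgroup.le_normalizer hxK) hz
  have hz'1 : x * z * x⁻¹ ≠ 1 := by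
    intro h
    apply hz1
    have : z = x⁻¹ * (x * z * x⁻¹) * x := by group
    rw [this, h]
    group
  have hne : z ≠ x * z * x⁻¹ := fun h => hz1 (fpf hK hxK hxY hz h.symm)
  intro q hq w hw
  refine fix_all hK hz hz'W hz1 hz'1 hne (hfix q hq) ?_ w hw
  have hq' : x⁻¹ * q * x⁻¹⁻¹ ∈ Q :=
    (Subgroup.mem_normalizer_iff.mp (hKQ (inv_mem hxK)) q).mp hq
  have h := hfix _ hq'
  calc q * (x * z * x⁻¹) * q⁻¹ = x * ((x⁻¹ * q * x⁻¹⁻¹) * z * (x⁻¹ * q * x⁻¹⁻¹)⁻¹) * x⁻¹ := by group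
    _ = x * z * x⁻¹ := by rw [h]

/-- Elements of `K` modulo `O₂(K)`. -/
theorem K_cases (hK : IsJComponent T K) {x k : G} (hx : x ∈ K) (hxY : x ∉ pCoreOf 2 K) (hk : k ∈ K) :
    k ∈ pCoreOf 2 K ∨ k * x⁻¹ ∈ pCoreOf 2 K ∨ k * x ∈ pCoreOf 2 K := by
  have hcard : Nat.card (LBar K) = 3 := index3 hK
  haveI hp3 : Fact (Nat.Prime 3) := ⟨by norm_num⟩
  set a := bar K ⟨x, hx⟩ with ha
  have ha1 : a ≠ 1 := by
    rw [ha, Ne, bar_eq_one]
    exact hxY
  have ha3 : a ^ (3 : ℤ) = 1 := by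
    have := pow_card_eq_one' (x := a)
    rw [hcard] at this
    exact_mod_cast this
  obtain ⟨n, hn⟩ := mem_zpowers_of_prime_card hcard (g := a) (g' := bar K ⟨k, hk⟩) ha1
  have hn' : bar K ⟨k, hk⟩ = a ^ (n % 3) := by
    rw [← hn]
    exact zpow_eq_zpow_emod n ha3
  have h0 : 0 ≤ n % 3 := Int.emod_nonneg _ (by norm_num)
  have h3 : n % 3 < 3 := Int.emod_lt_of_pos _ (by norm_num)
  have hcases : n % 3 = 0 ∨ n % 3 = 1 ∨ n % 3 = 2 := by omega
  rcases hcases with h | h | h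
  · left
    rw [h, zpow_zero] at hn'
    exact bar_eq_one.mp hn'
  · right; left
    rw [h, zpow_one] at hn'
    have : bar K (⟨k, hk⟩ * (⟨x, hx⟩)⁻¹) = 1 := by
      rw [map_mul, map_inv, hn', ← ha, mul_inv_cancel]
    exact bar_eq_one.mp this
  · right; right
    rw [h] at hn'
    have : bar K (⟨k, hk⟩ * ⟨x, hx⟩) = 1 := by
      rw [map_mul, hn', ← ha]
      have e : a ^ (2 : ℤ) * a = a ^ (3 : ℤ) := by
        rw [← zpow_add_one]
        norm_num
      rw [e, ha3]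
    exact bar_eq_one.mp this

/-- The cube of an element of `K` lies in `O₂(K)`. -/
theorem K_cube (hK : IsJComponent T K) {x : G} (hx : x ∈ K) : x ^ 3 ∈ pCoreOf 2 K := by
  have hcard : Nat.card (LBar K) = 3 := index3 hK
  have : bar K ⟨x, hx⟩ ^ 3 = 1 := by
    have := pow_card_eq_one' (x := bar K ⟨x, hx⟩)
    rwa [hcard] at this
  rw [← map_pow, bar_eq_one] at this
  exact this

/-- Finite groups: conjugation into a subgroup means normalizing it. -/
theorem mem_normalizer_of_conj_le {K : Subgroup G} {g : G} (h : ∀ k ∈ K, g * k * g⁻¹ ∈ K) :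
    g ∈ Subgroup.normalizer (K : Set G) := by
  have hle : K.map (MulAut.conj g).toMonoidHom ≤ K := by
    rintro _ ⟨k, hk, rfl⟩
    exact h k hk
  have heq : K.map (MulAut.conj g).toMonoidHom = K :=
    Subgroup.eq_of_le_of_card_ge hle (by rw [card_map_conj])
  rw [Subgroup.mem_normalizer_iff]
  intro z
  refine ⟨h z, fun hz => ?_⟩
  rw [← heq] at hz
  obtain ⟨k, hk, hke⟩ := hz
  have : k = z := by
    simpa using hke
  exact this ▸ hk

namespace KSetup

variable (h : KSetup T L K F)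
include h

/-- `O₂(L)` centralizes `W`. -/
theorem core_comm_w {p w : G} (hp : p ∈ pCoreOf 2 L) (hw : w ∈ wOf K) : p * w * p⁻¹ = w := by
  have hP : IsPGroup 2 (pCoreOf 2 L) := IsPGroup.to_le (isP_T h) (core_le_T h)
  exact centralizes_w h.hK hP h.hPK (fun k hk => le_normalizer_pCoreOf (h.hKL hk)) p hp w hw

/-- `W ≤ Ω₁(Z(O₂(L)))`. -/
theorem w_le_om : wOf K ≤ omL L := by
  intro w hw
  have hc : ∀ u ∈ pCoreOf 2 L, u * w = w * u := fun u hu => by
    have := core_comm_w h hu hw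
    rwa [mul_inv_eq_iff_eq_mul] at this
  refine mem_omegaCenterOf_iff.mpr ⟨h.hL.cent (Subgroup.mem_centralizer_iff.mpr hc), hc, ?_⟩
  rw [pow_two]
  exact sq_w h.hK w hw

/-- `O₂(K)` centralizes `Ω`. -/
theorem Y_le_Z {y : G} (hy : y ∈ pCoreOf 2 K) : y ∈ Subgroup.centralizer (omL L : Set G) := by
  have hyK : y ∈ K := core_le hy
  have h3 := n3_cube h.hF (K_le_n3 h hyK)
  obtain ⟨a, ha⟩ := (IsPGroup.iff_orderOf.mp (core_isP (K := K))) ⟨y, hy⟩
  rw [Subgroup.orderOf_mk] at ha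
  have hcop : Nat.Coprime 3 (orderOf y) := by
    rw [ha]
    exact Nat.Coprime.pow_right a (by norm_num)
  obtain ⟨m, hm⟩ := exists_pow_eq_self_of_coprime hcop
  rw [← hm]
  exact pow_mem h3 m

/-- `O₂(K) ≤ O₂(L)`. -/
theorem Y_le_core : pCoreOf 2 K ≤ pCoreOf 2 L := by
  intro y hy
  have hyC : y ∈ cL L := Subgroup.mem_inf.mpr ⟨h.hKL (core_le hy), Y_le_Z h hy⟩
  refine h.hL.mem_core_of_two_element hyC ?_
  obtain ⟨a, ha⟩ := (IsPGroup.iff_orderOf.mp (core_isP (K := K))) ⟨y, hy⟩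
  rw [Subgroup.orderOf_mk] at ha
  exact ⟨a, by rw [← ha, pow_orderOf_eq_one]⟩

/-- Elements of `K` outside `O₂(K)` do not centralize `Ω`. -/
theorem not_Z {x : G} (hx : x ∈ K) (hxY : x ∉ pCoreOf 2 K) :
    x ∉ Subgroup.centralizer (omL L : Set G) := by
  intro hZ
  obtain ⟨w, hw, hw1⟩ := exists_ne_one (card_w h.hK)
  refine hw1 (fpf h.hK hx hxY hw ?_)
  have := Subgroup.mem_centralizer_iff.mp hZ w (w_le_om h hw)
  rw [mul_inv_eq_iff_eq_mul]
  exact this.symm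

/-- The factor attached to `K`. -/
theorem exists_factor {x : G} (hx : x ∈ K) (hxY : x ∉ pCoreOf 2 K) :
    ∃ A ∈ gMaxEA 2 T, ∃ b ∈ A, ∃ E ∈ F, b ∈ E ∧ b ∉ Subgroup.centralizer (omL L : Set G) ∧
      b * x * b⁻¹ * x ∈ pCoreOf 2 K ∧ x ∈ E := by
  have hxL := h.hKL hx
  have hZC : ∀ z ∈ L, z ∈ Subgroup.centralizer (omL L : Set G) → z ∈ cL L := fun z hz hz2 =>
    Subgroup.mem_inf.mpr ⟨hz, hz2⟩
  by_cases hall : ∀ A ∈ gMaxEA 2 T, ∀ b ∈ A, ∀ E ∈ F, b ∈ E → x * b * x⁻¹ * b⁻¹ ∈ cL L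
  · -- then `K` centralizes `Ω`
    exfalso
    have hxJ := comm_J_mem h (cL L) (fun l hl n hn => conj_mem_cL hl hn) le_rfl hxL hall
    let D : Subgroup G :=
      { carrier := {k | k ∈ L ∧ ∀ j ∈ thompsonSubgroupOf 2 T, k * j * k⁻¹ * j⁻¹ ∈ cL L}
        mul_mem' := by
          rintro a b ⟨ha, ha'⟩ ⟨hb, hb'⟩
          refine ⟨mul_mem ha hb, fun j hj => ?_⟩
          have e : (a * b) * j * (a * b)⁻¹ * j⁻¹ =
              (a * (b * j * b⁻¹ * j⁻¹) * a⁻¹) * (a * j * a⁻¹ * j⁻¹) := by group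
          rw [e]
          exact mul_mem (conj_mem_cL ha (hb' j hj)) (ha' j hj)
        one_mem' := ⟨one_mem _, fun j _ => by simp [one_mem]⟩
        inv_mem' := by
          rintro a ⟨ha, ha'⟩
          refine ⟨inv_mem ha, fun j hj => ?_⟩
          have e : a⁻¹ * j * a⁻¹⁻¹ * j⁻¹ = a⁻¹ * (a * j * a⁻¹ * j⁻¹)⁻¹ * a⁻¹⁻¹ := by group
          rw [e]
          exact conj_mem_cL (inv_mem ha) (inv_mem (ha' j hj)) }
    have hYD : pCoreOf 2 K ≤ D := by
      intro y hy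
      refine ⟨h.hKL (core_le hy), fun j hj => ?_⟩
      have hyC : y ∈ cL L := hZC y (h.hKL (core_le hy)) (Y_le_Z h hy)
      have hjL := J_le_L h hj
      have e : y * j * y⁻¹ * j⁻¹ = y * (j * y⁻¹ * j⁻¹) := by group
      rw [e]
      exact mul_mem hyC (conj_mem_cL hjL (inv_mem hyC))
    have hKD : K ≤ D := le_of_core_le h.hK hYD hx hxY ⟨hxL, hxJ⟩
    have hK2 : K ≤ cL L := by
      conv_lhs => rw [← J_comm h.hK]
      rw [Subgroup.commutator_le]
      intro k hk j hj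
      rw [commutatorElement_def]
      exact (hKD hk).2 j hj
    exact not_Z h hx hxY (Subgroup.mem_inf.mp (hK2 hx)).2
  · push Not at hall
    obtain ⟨A, hA, b, hb, E, hE, hbE, hne⟩ := hall
    have hbL := A_le_L h hA hb
    refine ⟨A, hA, b, hb, E, hE, hbE, ?_, ?_, ?_⟩
    · intro hbZ
      apply hne
      have hbC := hZC b hbL hbZ
      exact mul_mem (conj_mem_cL hxL hbC) (inv_mem hbC)
    all_goals
      have hbJ : b ∈ thompsonSubgroupOf 2 T := le_thompsonSubgroupOf hA hb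
      have hbN := J_le_N h.hK hbJ
      have hc : b * x * b⁻¹ * x ∈ pCoreOf 2 K := by
        have hbxK : b * x * b⁻¹ ∈ K := (Subgroup.mem_normalizer_iff.mp hbN x).mp hx
        rcases K_cases h.hK hx hxY hbxK with h1 | h1 | h1
        · exfalso
          apply hxY
          have := conj_mem_pCoreOf_of_normalizer (inv_mem hbN) h1
          simpa [mul_assoc] using this
        · exfalso
          apply hne
          refine hZC _ (mul_mem (mul_mem (mul_mem hxL hbL) (inv_mem hxL)) (inv_mem hbL)) ?_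
          have h2 := Y_le_Z h h1
          have e : x * b * x⁻¹ * b⁻¹ = (b * x * b⁻¹ * x⁻¹)⁻¹ := by group
          rw [e]
          exact inv_mem h2
        · exact h1
    · exact hc
    · have hxF : x ∈ sSup F := K_le_sSup h hx
      have h1 : x * b * x⁻¹ ∈ E :=
        (Subgroup.mem_normalizer_iff.mp (h.hF.sSup_le_normalizer hE hxF) b).mp hbE
      have h2 : x * b * x⁻¹ * b⁻¹ ∈ E := mul_mem h1 (inv_mem hbE)
      have hyE : ∀ y ∈ pCoreOf 2 K, y ∈ E := fun y hy =>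
        h.hF.ge E hE (hZC y (h.hKL (core_le hy)) (Y_le_Z h hy))
      have h3 := hyE _ hc
      have h4 := hyE _ (K_cube h.hK hx)
      -- `x ^ 2 ∈ E`
      have h5 : x ^ 2 ∈ E := by
        have e : x ^ 2 = (x * b * x⁻¹ * b⁻¹) * (b * x * b⁻¹ * x) := by
          rw [pow_two]
          simp [mul_assoc]
        rw [e]
        exact mul_mem h2 h3
      have e : x = x ^ 3 * (x ^ 2)⁻¹ := by group
      rw [e]
      exact mul_mem h4 (inv_mem h5)

/-- `[Ω, E] = W` for the factor `E` containing `x`. -/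
theorem com_eq_w {x : G} (hx : x ∈ K) (hxY : x ∉ pCoreOf 2 K) {E : Subgroup G} (hE : E ∈ F)
    (hxE : x ∈ E) : ⁅omL L, E⁆ = wOf K := by
  classical
  have hxW : ∀ v ∈ wOf K, x * v * x⁻¹ ∈ wOf K := fun v hv =>
    conj_mem_wOf (Subgroup.le_normalizer hx) hv
  have hf : ∀ v ∈ wOf K, v * (x * v⁻¹ * x⁻¹) ∈ wOf K := fun v hv =>
    mul_mem hv (hxW _ (inv_mem hv))
  let f : wOf K → wOf K := fun v => ⟨v * (x * (v : G)⁻¹ * x⁻¹), hf v v.2⟩
  have hinj : Function.Injective f := by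
    intro a b hab
    have hab' : (a : G) * (x * (a : G)⁻¹ * x⁻¹) = b * (x * (b : G)⁻¹ * x⁻¹) := congrArg Subtype.val hab
    have hu : (b : G)⁻¹ * a ∈ wOf K := mul_mem (inv_mem b.2) a.2
    have hfix : x * ((b : G)⁻¹ * a) * x⁻¹ = (b : G)⁻¹ * a := by
      calc x * ((b : G)⁻¹ * a) * x⁻¹ = (x * (b : G)⁻¹ * x⁻¹) * (x * (a : G)⁻¹ * x⁻¹)⁻¹ := by group
        _ = (b : G)⁻¹ * a := by
          have e : (b : G)⁻¹ * a * (x * (a : G)⁻¹ * x⁻¹) = (b : G)⁻¹ * ((a : G) * (x * (a : G)⁻¹ * x⁻¹)) := by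
            group
          rw [mul_inv_eq_iff_eq_mul, e, hab']
          group
    have h1 := fpf h.hK hx hxY hu hfix
    exact Subtype.ext (by
      rw [inv_mul_eq_one] at h1
      exact h1.symm)
  have hsurj := Finite.injective_iff_surjective.mp hinj
  have hle : wOf K ≤ ⁅omL L, E⁆ := by
    intro w hw
    obtain ⟨v, hv⟩ := hsurj ⟨w, hw⟩
    have hv' : (v : G) * (x * (v : G)⁻¹ * x⁻¹) = w := congrArg Subtype.val hv
    have h1 := Subgroup.commutator_mem_commutator (w_le_om h v.2) hxE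
    rw [commutatorElement_def] at h1
    have e : (v : G) * x * (v : G)⁻¹ * x⁻¹ = (v : G) * (x * (v : G)⁻¹ * x⁻¹) := by group
    rw [e, hv'] at h1
    exact h1
  refine (Subgroup.eq_of_le_of_card_ge hle ?_).symm
  rw [h.hF.card_com E hE, card_w h.hK]

/-- If `g ∈ L` moves a nonidentity element of `W` into `W`, it normalizes the factor of `K`. -/
theorem factor_conj {E : Subgroup G} (hE : E ∈ F) (hcom : ⁅omL L, E⁆ = wOf K) {g w : G} (hg : g ∈ L)
    (hw : w ∈ wOf K) (hw1 : w ≠ 1) (hgw : g * w * g⁻¹ ∈ wOf K) :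
    E.map (MulAut.conj g).toMonoidHom = E := by
  by_contra hne
  have hE' := h.hF.conj g hg E hE
  have hind := h.hF.indep _ hE' E hE hne
  have hmem : g * w * g⁻¹ ∈ ⁅omL L, E.map (MulAut.conj g).toMonoidHom⁆ := by
    have hmap : (omL L).map (MulAut.conj g).toMonoidHom = omL L :=
      map_conj_eq_of_mem_normalizer (h.hF.norm hg)
    rw [← hmap, ← Subgroup.map_commutator, hcom]
    exact Subgroup.mem_map_of_mem _ hw
  have h1 : g * w * g⁻¹ ∈ ⁅omL L, E.map (MulAut.conj g).toMonoidHom⁆ ⊓ ⁅omL L, E⁆ :=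
    Subgroup.mem_inf.mpr ⟨hmem, hcom ▸ hgw⟩
  rw [hind, Subgroup.mem_bot] at h1
  apply hw1
  have e : w = g⁻¹ * (g * w * g⁻¹) * g := by group
  rw [e, h1]
  group

end KSetup

theorem bar_comm_of_mem {L : Subgroup G} {a b : L}
    (h : (a : G) * b * (a : G)⁻¹ * (b : G)⁻¹ ∈ pCoreOf 2 L) : Commute (bar L a) (bar L b) := by
  have h1 : bar L (a * b * a⁻¹ * b⁻¹) = 1 := bar_eq_one.mpr h
  rw [map_mul, map_mul, map_mul, map_inv, map_inv] at h1
  have h3 : bar L a * bar L b * (bar L a)⁻¹ = bar L b := by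
    rwa [mul_inv_eq_one] at h1
  rw [mul_inv_eq_iff_eq_mul] at h3
  exact h3

namespace KSetup

variable (h : KSetup T L K F)
include h

/-- `C` and 2-elements of `L` commute modulo `O₂(L)`. -/
theorem comm_two_C {c u : L} (hc : (c : G) ∈ cL L) (hu2 : ∃ n : ℕ, (u : G) ^ 2 ^ n = 1) :
    Commute (bar L c) (bar L u) :=
  bar_comm_of_mem (h.hL.comm_mem_core hc u.2 hu2)

/-- `K` and `C` commute modulo `O₂(L)`. -/
theorem comm_K_C {k c : L} (hk : (k : G) ∈ K) (hc : (c : G) ∈ cL L) :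
    Commute (bar L k) (bar L c) := by
  let D : Subgroup L := (Subgroup.centralizer ({bar L c} : Set (LBar L))).comap (bar L)
  have hle : K ≤ D.map L.subtype := by
    conv_lhs => rw [← J_comm h.hK]
    rw [Subgroup.commutator_le]
    intro a ha j hj
    have haL := h.hKL ha
    have hjL := J_le_L h hj
    have hjT := J_le_T h hj
    have hj2 : ∃ n : ℕ, j ^ 2 ^ n = 1 := by
      obtain ⟨n, hn⟩ := (IsPGroup.iff_orderOf.mp (isP_T h)) ⟨_, hjT⟩
      rw [Subgroup.orderOf_mk] at hn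
      exact ⟨n, by rw [← hn, pow_orderOf_eq_one]⟩
    have hcomm := mul_mem (mul_mem (mul_mem haL hjL) (inv_mem haL)) (inv_mem hjL)
    rw [commutatorElement_def]
    refine ⟨⟨a * j * a⁻¹ * j⁻¹, hcomm⟩, ?_, rfl⟩
    show bar L _ ∈ Subgroup.centralizer ({bar L c} : Set (LBar L))
    rw [Subgroup.mem_centralizer_iff]
    rintro _ rfl
    set a' : L := ⟨a, haL⟩
    set j' : L := ⟨j, hjL⟩
    have e : (⟨a * j * a⁻¹ * j⁻¹, hcomm⟩ : L) = a' * j' * a'⁻¹ * j'⁻¹ := rfl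
    rw [e]
    have h1 : Commute (bar L c) (bar L j') := comm_two_C h hc hj2
    have hc1 : ((a'⁻¹ * c * a') : L).1 ∈ cL L := by
      have := conj_mem_cL (inv_mem haL) hc
      simpa using this
    have h2 : Commute (bar L (a'⁻¹ * c * a')) (bar L j') := comm_two_C h hc1 hj2
    rw [map_mul, map_mul, map_inv] at h2
    rw [map_mul, map_mul, map_mul, map_inv, map_inv]
    set A' := bar L a'
    set J' := bar L j'
    set C' := bar L c
    have h1' : C' * J' = J' * C' := h1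
    have h2' : A'⁻¹ * C' * A' * J' = J' * (A'⁻¹ * C' * A') := h2
    have h3 : C' * J'⁻¹ = J'⁻¹ * C' := by
      rw [mul_inv_eq_iff_eq_mul, mul_assoc, h1', inv_mul_cancel_left]
    calc C' * (A' * J' * A'⁻¹ * J'⁻¹) = A' * ((A'⁻¹ * C' * A') * J') * A'⁻¹ * J'⁻¹ := by group
      _ = A' * (J' * (A'⁻¹ * C' * A')) * A'⁻¹ * J'⁻¹ := by rw [h2']
      _ = A' * J' * A'⁻¹ * (C' * J'⁻¹) := by group
      _ = A' * J' * A'⁻¹ * (J'⁻¹ * C') := by rw [h3]
      _ = _ := by group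
  obtain ⟨d, hd, hde⟩ := hle hk
  have hdk : d = k := Subtype.ext hde
  rw [hdk] at hd
  have hd' : bar L k ∈ Subgroup.centralizer ({bar L c} : Set (LBar L)) := hd
  rw [Subgroup.mem_centralizer_iff] at hd'
  exact (hd' _ rfl).symm

/-- `c ∈ C`, `c² ∈ O₂(L)` implies `c ∈ O₂(L)`. -/
theorem core_of_sq {c : G} (hc : c ∈ cL L) (h2 : c ^ 2 ∈ pCoreOf 2 L) : c ∈ pCoreOf 2 L := by
  refine h.hL.mem_core_of_two_element hc ?_
  have hP : IsPGroup 2 (pCoreOf 2 L) := IsPGroup.to_le (isP_T h) (core_le_T h)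
  obtain ⟨n, hn⟩ := (IsPGroup.iff_orderOf.mp hP) ⟨_, h2⟩
  rw [Subgroup.orderOf_mk] at hn
  refine ⟨n + 1, ?_⟩
  rw [pow_succ', pow_mul, ← hn, pow_orderOf_eq_one]

/-- Odd-order elements of `K O₂(L)` lie in `K`, so a conjugate of `K` inside `K O₂(L)` is `K`. -/
theorem normalizer_of_le_sup {g : G} (hle : ∀ k ∈ K, g * k * g⁻¹ ∈ K ⊔ pCoreOf 2 L) :
    g ∈ Subgroup.normalizer (K : Set G) := by
  have hP : IsPGroup 2 (pCoreOf 2 L) := IsPGroup.to_le (isP_T h) (core_le_T h)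
  have hPK : ∀ p ∈ pCoreOf 2 L, ∀ k ∈ K, p * k * p⁻¹ ∈ K := fun p hp k hk =>
    (Subgroup.mem_normalizer_iff.mp (h.hPK hp) k).mp hk
  refine mem_normalizer_of_conj_le ?_
  have hK2 : K ≤ K.comap (MulAut.conj g).toMonoidHom := by
    conv_lhs => rw [← h.hK.1]
    rw [Subgroup.closure_le]
    rintro y ⟨hy, hyo⟩
    rw [SetLike.mem_coe, Subgroup.mem_comap]
    refine Cfsg.Agent.S2941.mem_of_odd_of_mem_sup hP hPK (hle y hy) ?_
    have := orderOf_injective (MulAut.conj g).toMonoidHom (MulAut.conj g).injective y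
    simp only [MulEquiv.coe_toMonoidHom, MulAut.conj_apply] at this
    show Odd (orderOf (g * y * g⁻¹))
    rw [this]
    exact hyo
  exact fun k hk => hK2 hk

/-- The key calculation: an element of `L` normalizing the factor of `K` normalizes `K`. -/
theorem normalizer_of_factor {A : Subgroup G} (hA : A ∈ gMaxEA 2 T) {b : G} (hb : b ∈ A)
    {E : Subgroup G} (hE : E ∈ F) (hbE : b ∈ E)
    (hbZ : b ∉ Subgroup.centralizer (omL L : Set G)) {x : G} (hx : x ∈ K)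
    (hxY : x ∉ pCoreOf 2 K) (hxE : x ∈ E) (hbx : b * x * b⁻¹ * x ∈ pCoreOf 2 K) {g : G} (hg : g ∈ L)
    (hgE : E.map (MulAut.conj g).toMonoidHom = E) : g ∈ Subgroup.normalizer (K : Set G) := by
  have hxL := h.hKL hx
  have hbL := A_le_L h hA hb
  have hFZ := fun {r z : G} (hr : r ∈ L) (hz : z ∈ Subgroup.centralizer (omL L : Set G)) =>
    h.hF.conj_mem_Z (r := r) (z := z) hr hz
  have hconjE : ∀ e ∈ E, g * e * g⁻¹ ∈ E := fun e he => by
    rw [← hgE]
    exact Subgroup.mem_map_of_mem _ he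
  have hx'E := hconjE x hxE
  have hx3 : x ^ 3 ∈ Subgroup.centralizer (omL L : Set G) := Y_le_Z h (K_cube h.hK hx)
  have hx1 : x ∉ Subgroup.centralizer (omL L : Set G) := not_Z h hx hxY
  have hx'3 : (g * x * g⁻¹) ^ 3 ∈ Subgroup.centralizer (omL L : Set G) := by
    rw [conj_pow]
    exact hFZ hg hx3
  have hnc : ∀ e : G, e ∉ Subgroup.centralizer (omL L : Set G) →
      g * e * g⁻¹ ∉ Subgroup.centralizer (omL L : Set G) := by
    intro e he hc
    apply he
    have := hFZ (inv_mem hg) hc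
    simpa [mul_assoc] using this
  have hEL := h.hF.le E hE
  have hfac : ∃ c ∈ cL L, ∃ y : G, (y = x ∨ y = x⁻¹) ∧ g * x * g⁻¹ = c * y := by
    rcases h.hF.cube_cases hE hxE hx'E hx3 hx1 hx'3 with h1 | h1 | h1
    · exact absurd h1 (hnc x hx1)
    · refine ⟨g * x * g⁻¹ * x⁻¹, Subgroup.mem_inf.mpr ⟨?_, h1⟩, x, Or.inl rfl, by group⟩
      exact mul_mem (hEL hx'E) (inv_mem hxL)
    · refine ⟨g * x * g⁻¹ * x, Subgroup.mem_inf.mpr ⟨?_, h1⟩, x⁻¹, Or.inr rfl, by group⟩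
      exact mul_mem (hEL hx'E) hxL
  obtain ⟨c, hc, y, hy, hxy⟩ := hfac
  have hb'E := hconjE b hbE
  have hb2 : b ^ 2 = 1 := A_sq h hA hb
  have hb'2 : (g * b * g⁻¹) ^ 2 = 1 := by
    rw [conj_pow, hb2]
    group
  have hbi2 : b⁻¹ ^ 2 ∈ Subgroup.centralizer (omL L : Set G) := by
    rw [inv_pow, hb2, inv_one]
    exact one_mem _
  have hbi1 : b⁻¹ ∉ Subgroup.centralizer (omL L : Set G) := fun hc' => hbZ (by simpa using inv_mem hc')
  have hcube := h.hF.cube_mul hE hb'E (inv_mem hbE) (by rw [hb'2]; exact one_mem _) (hnc b hbZ) hbi2 hbi1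
  have hb'bL : g * b * g⁻¹ * b⁻¹ ∈ L := hEL (mul_mem hb'E (inv_mem hbE))
  have hfac2 : ∃ c' ∈ cL L, ∃ z : G, (z = 1 ∨ z = x ∨ z = x⁻¹) ∧ g * b * g⁻¹ = c' * z * b := by
    rcases h.hF.cube_cases hE hxE (mul_mem hb'E (inv_mem hbE)) hx3 hx1 hcube with h1 | h1 | h1
    · exact ⟨g * b * g⁻¹ * b⁻¹, Subgroup.mem_inf.mpr ⟨hb'bL, h1⟩, 1, Or.inl rfl, by group⟩
    · refine ⟨g * b * g⁻¹ * b⁻¹ * x⁻¹, Subgroup.mem_inf.mpr ⟨mul_mem hb'bL (inv_mem hxL), h1⟩, x,
        Or.inr (Or.inl rfl), by group⟩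
    · refine ⟨g * b * g⁻¹ * b⁻¹ * x, Subgroup.mem_inf.mpr ⟨mul_mem hb'bL hxL, h1⟩, x⁻¹,
        Or.inr (Or.inr rfl), by group⟩
  obtain ⟨c', hc', z, hz, hbz⟩ := hfac2
  have hyL : y ∈ L := by
    rcases hy with rfl | rfl
    · exact hxL
    · exact inv_mem hxL
  have hzL : z ∈ L := by
    rcases hz with rfl | rfl | rfl
    · exact one_mem _
    · exact hxL
    · exact inv_mem hxL
  -- Pass to `L / O₂(L)`.
  set X : L := ⟨x, hxL⟩ with hX
  set B : L := ⟨b, hbL⟩ with hB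
  set Gg : L := ⟨g, hg⟩ with hGg
  set Cc : L := ⟨c, cL_le hc⟩ with hCc
  set Cd : L := ⟨c', cL_le hc'⟩ with hCd
  set Yy : L := ⟨y, hyL⟩ with hYy
  set Zz : L := ⟨z, hzL⟩ with hZz
  have h1 : bar L B * bar L X * (bar L B)⁻¹ * bar L X = 1 := by
    have : bar L (B * X * B⁻¹ * X) = 1 := bar_eq_one.mpr (Y_le_core h hbx)
    simpa [map_mul, map_inv] using this
  have hbX : bar L B * bar L X * (bar L B)⁻¹ = (bar L X)⁻¹ := eq_inv_of_mul_eq_one_left h1
  have hcX : Commute (bar L X) (bar L Cc) := comm_K_C h hx hc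
  have hdX : Commute (bar L X) (bar L Cd) := comm_K_C h hx hc'
  have hzX : Commute (bar L Zz) (bar L X) := by
    rcases hz with rfl | rfl | rfl
    · have : Zz = 1 := rfl
      rw [this, map_one]
      exact Commute.one_left _
    · have : Zz = X := rfl
      rw [this]
    · have : Zz = X⁻¹ := rfl
      rw [this, map_inv]
      exact (Commute.refl _).inv_left
  have hu : bar L (Gg * B * Gg⁻¹) = bar L Cd * bar L Zz * bar L B := by
    have : Gg * B * Gg⁻¹ = Cd * Zz * B := Subtype.ext hbz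
    rw [this, map_mul, map_mul]
  set u := bar L (Gg * B * Gg⁻¹) with hudef
  have huX : u * bar L X * u⁻¹ = (bar L X)⁻¹ := by
    rw [hu]
    set D' := bar L Cd
    set Z' := bar L Zz
    set B' := bar L B
    set X' := bar L X
    have hdX' : X' * D' = D' * X' := hdX
    have hzX' : Z' * X' = X' * Z' := hzX
    have hdXi : D' * X'⁻¹ = X'⁻¹ * D' := (Commute.symm hdX).inv_right
    have hzXi : Z' * X'⁻¹ = X'⁻¹ * Z' := hzX.inv_right
    calc D' * Z' * B' * X' * (D' * Z' * B')⁻¹ = D' * Z' * (B' * X' * B'⁻¹) * Z'⁻¹ * D'⁻¹ := by group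
      _ = D' * (Z' * X'⁻¹) * Z'⁻¹ * D'⁻¹ := by rw [hbX]; group
      _ = D' * (X'⁻¹ * Z') * Z'⁻¹ * D'⁻¹ := by rw [hzXi]
      _ = (D' * X'⁻¹) * D'⁻¹ := by group
      _ = (X'⁻¹ * D') * D'⁻¹ := by rw [hdXi]
      _ = X'⁻¹ := by group
  have hb'P : ∃ n : ℕ, ((Gg * B * Gg⁻¹ : L) : G) ^ 2 ^ n = 1 := ⟨1, by
    show (g * b * g⁻¹) ^ 2 ^ 1 = 1
    simpa using hb'2⟩
  have hcu : Commute (bar L Cc) u := comm_two_C h hc hb'P
  have hcY : bar L Cc * bar L Yy = bar L Yy * bar L Cc := by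
    rcases hy with rfl | rfl
    · have : Yy = X := rfl
      rw [this]
      exact hcX.symm
    · have : Yy = X⁻¹ := rfl
      rw [this, map_inv]
      exact (hcX.inv_left).symm
  have huY : u * bar L Yy * u⁻¹ = (bar L Yy)⁻¹ := by
    rcases hy with rfl | rfl
    · have : Yy = X := rfl
      rw [this]
      exact huX
    · have : Yy = X⁻¹ := rfl
      rw [this, map_inv, inv_inv]
      have : u * (bar L X)⁻¹ * u⁻¹ = (u * bar L X * u⁻¹)⁻¹ := by group
      rw [this, huX, inv_inv]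
  have hx' : bar L Gg * bar L X * (bar L Gg)⁻¹ = bar L Cc * bar L Yy := by
    have : Gg * X * Gg⁻¹ = Cc * Yy := Subtype.ext hxy
    have h2 := congrArg (bar L) this
    simpa [map_mul, map_inv] using h2
  have huX' : u * (bar L Gg * bar L X * (bar L Gg)⁻¹) * u⁻¹ = (bar L Gg * bar L X * (bar L Gg)⁻¹)⁻¹ := by
    rw [hudef]
    simp only [map_mul, map_inv]
    calc bar L Gg * bar L B * (bar L Gg)⁻¹ * (bar L Gg * bar L X * (bar L Gg)⁻¹) *
          (bar L Gg * bar L B * (bar L Gg)⁻¹)⁻¹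
        = bar L Gg * (bar L B * bar L X * (bar L B)⁻¹) * (bar L Gg)⁻¹ := by group
      _ = _ := by rw [hbX]; group
  rw [hx'] at huX'
  have hcc : bar L Cc * bar L Cc = 1 := by
    have hcu' : u * bar L Cc = bar L Cc * u := hcu.symm
    have e1 : u * (bar L Cc * bar L Yy) * u⁻¹ = bar L Cc * (u * bar L Yy * u⁻¹) := by
      calc u * (bar L Cc * bar L Yy) * u⁻¹ = (u * bar L Cc) * bar L Yy * u⁻¹ := by group
        _ = (bar L Cc * u) * bar L Yy * u⁻¹ := by rw [hcu']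
        _ = _ := by group
    rw [e1, huY] at huX'
    have e2 : (bar L Cc * bar L Yy)⁻¹ = (bar L Cc)⁻¹ * (bar L Yy)⁻¹ := by
      rw [hcY, mul_inv_rev]
    rw [e2] at huX'
    have e3 := mul_right_cancel huX'
    calc bar L Cc * bar L Cc = bar L Cc * (bar L Cc)⁻¹ := congrArg (bar L Cc * ·) e3
      _ = 1 := mul_inv_cancel _
  have hcP : c ∈ pCoreOf 2 L := by
    refine core_of_sq h hc ?_
    have : bar L (Cc ^ 2) = 1 := by
      rw [map_pow, pow_two, hcc]
    exact bar_eq_one.mp this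
  -- conclusion
  refine normalizer_of_le_sup h ?_
  have hYL : ∀ y₀ ∈ pCoreOf 2 K, g * y₀ * g⁻¹ ∈ pCoreOf 2 L := fun y₀ hy₀ =>
    conj_mem_core hg (Y_le_core h hy₀)
  have hle : K ≤ (K ⊔ pCoreOf 2 L).comap (MulAut.conj g).toMonoidHom := by
    refine le_of_core_le h.hK ?_ hx hxY ?_
    · intro y₀ hy₀
      exact Subgroup.mem_sup_right (hYL y₀ hy₀)
    · rw [Subgroup.mem_comap]
      show g * x * g⁻¹ ∈ _
      rw [hxy]
      refine mul_mem (Subgroup.mem_sup_right hcP) (Subgroup.mem_sup_left ?_)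
      rcases hy with rfl | rfl
      · exact hx
      · exact inv_mem hx
  exact fun k hk => hle hk

/-- If `g ∈ L` moves a nonidentity element of `W` into `W`, it normalizes `K`. -/
theorem normalizer_of_meet {g w : G} (hg : g ∈ L) (hw : w ∈ wOf K) (hw1 : w ≠ 1)
    (hgw : g * w * g⁻¹ ∈ wOf K) : g ∈ Subgroup.normalizer (K : Set G) := by
  obtain ⟨x, hxK, -, hxY⟩ := exists_odd h.hK
  obtain ⟨A, hA, b, hb, E, hE, hbE, hbZ, hbx, hxE⟩ := exists_factor h hxK hxY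
  exact normalizer_of_factor h hA hb hE hbE hbZ hxK hxY hxE hbx hg
    (factor_conj h hE (com_eq_w h hxK hxY hE hxE) hg hw hw1 hgw)

theorem mem_core_of_bar_comm {a b : L} (hc : Commute (bar L a) (bar L b)) :
    (a : G) * b * (a : G)⁻¹ * (b : G)⁻¹ ∈ pCoreOf 2 L := by
  have : bar L (a * b * a⁻¹ * b⁻¹) = 1 := by
    rw [map_mul, map_mul, map_mul, map_inv, map_inv, hc.eq]
    group
  exact bar_eq_one.mp this

end KSetup

omit [Finite G] in
/-- One step of a subnormal chain inside `L`. -/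
theorem subnormal_step {L A B : Subgroup G} (hAB : A ≤ B) (hB : (B.subgroupOf L).IsSubnormal)
    (hn : ∀ b ∈ B, ∀ a ∈ A, b * a * b⁻¹ ∈ A) : (A.subgroupOf L).IsSubnormal := by
  refine Subgroup.IsSubnormal.step _ _ (Subgroup.subgroupOf_mono L hAB) hB ?_
  constructor
  intro n hn' c
  rw [Subgroup.mem_subgroupOf, Subgroup.mem_subgroupOf] at hn' ⊢
  have hc : (((c : B.subgroupOf L) : L) : G) ∈ B := Subgroup.mem_subgroupOf.mp c.2
  exact hn _ hc _ hn'

namespace KSetup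

variable (h : KSetup T L K F)
include h

/-- `K` is subnormal in `L`. -/
theorem subnormal : (K.subgroupOf L).IsSubnormal := by
  have hPC : pCoreOf 2 L ≤ cL L := core_le_cL
  have hN3 : ((n3 (omL L) L F).subgroupOf L).IsSubnormal := by
    refine Subgroup.Normal.isSubnormal ?_
    constructor
    intro n hn c
    rw [Subgroup.mem_subgroupOf] at hn ⊢
    exact conj_mem_n3 h.hF c.2 hn
  have hKC : ((K ⊔ cL L).subgroupOf L).IsSubnormal := by
    refine subnormal_step (sup_le (K_le_n3 h) cL_le_n3) hN3 ?_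
    intro n hn a ha
    have ha3 : a ∈ n3 (omL L) L F := (sup_le (K_le_n3 h) cL_le_n3) ha
    have hnL := n3_le h.hF hn
    have haL := n3_le h.hF ha3
    have h1 : n * a * n⁻¹ * a⁻¹ ∈ cL L :=
      Subgroup.mem_inf.mpr ⟨mul_mem (mul_mem (mul_mem hnL haL) (inv_mem hnL)) (inv_mem haL),
        n3_comm h.hF hn ha3⟩
    have e : n * a * n⁻¹ = (n * a * n⁻¹ * a⁻¹) * a := by group
    rw [e]
    exact mul_mem (Subgroup.mem_sup_right h1) ha
  have hKP : ((K ⊔ pCoreOf 2 L).subgroupOf L).IsSubnormal := by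
    refine subnormal_step (sup_le_sup_left hPC K) hKC ?_
    have hle : K ⊔ cL L ≤ Subgroup.normalizer ((K ⊔ pCoreOf 2 L : Subgroup G) : Set G) := by
      refine sup_le ?_ ?_
      · intro k hk
        refine mem_normalizer_of_conj_le fun z hz => ?_
        exact mul_mem (mul_mem (Subgroup.mem_sup_left hk) hz) (inv_mem (Subgroup.mem_sup_left hk))
      · intro c hc
        have hcL : c ∈ L := cL_le hc
        refine mem_normalizer_of_conj_le ?_
        have hle2 : K ⊔ pCoreOf 2 L ≤ (K ⊔ pCoreOf 2 L).comap (MulAut.conj c).toMonoidHom := by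
          refine sup_le ?_ ?_
          · intro k hk
            rw [Subgroup.mem_comap]
            show c * k * c⁻¹ ∈ _
            have hkL := h.hKL hk
            have h1 := mem_core_of_bar_comm h (comm_K_C h (k := ⟨k, hkL⟩) (c := ⟨c, hcL⟩) hk hc)
            have h2 : c * k * c⁻¹ * k⁻¹ ∈ pCoreOf 2 L := by
              have e : c * k * c⁻¹ * k⁻¹ = (k * c * k⁻¹ * c⁻¹)⁻¹ := by group
              rw [e]
              exact inv_mem h1
            have e : c * k * c⁻¹ = (c * k * c⁻¹ * k⁻¹) * k := by group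
            rw [e]
            exact mul_mem (Subgroup.mem_sup_right h2) (Subgroup.mem_sup_left hk)
          · intro p hp
            rw [Subgroup.mem_comap]
            exact Subgroup.mem_sup_right (conj_mem_core hcL hp)
        exact fun z hz => hle2 hz
    intro b hb a ha
    exact (Subgroup.mem_normalizer_iff.mp (hle hb) a).mp ha
  refine subnormal_step le_sup_left hKP ?_
  have hle : K ⊔ pCoreOf 2 L ≤ Subgroup.normalizer (K : Set G) :=
    sup_le Subgroup.le_normalizer h.hPK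
  intro b hb a ha
  exact (Subgroup.mem_normalizer_iff.mp (hle hb) a).mp ha

end KSetup

end KLevel

end Cfsg.Agent.Lib.Amalgam.JLocal
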