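import Mathlib
import Cfsg.Agent.Lib.Amalgam.FFLocal
import Cfsg.Agent.Lib.Amalgam.JLocal
import Cfsg.Agent.Lib.Solvable.Stability
import Cfsg.Agent.Lib.Solvable.PSeries
import Cfsg.Agent.Lib.Components.PComponent
import Cfsg.Agent.S0612
import Cfsg.Agent.S0617

/-!
# Existence of the family `F`: the structure theorem for failure of factorization, in `G`

First in a group `Γ` in which `X` acts faithfully on `V`, where the structure theorem applies directly; then inside `G`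
by means of the holomorph of `Ω`.
-/

set_option autoImplicit false

namespace Cfsg.Agent.Lib.Amalgam.FFExists

open Cfsg Cfsg.Agent.Lib.Amalgam.FFLocal Cfsg.Agent.Lib.PGroup.ThompsonG
open Cfsg.Agent.Lib.Amalgam.JLocal Cfsg.Agent.Lib.Amalgam.JComp
open scoped commutatorElement

section Gamma

variable {Γ : Type*} [Group Γ] [Finite Γ]

/-- `X` acts faithfully on the elementary abelian `V`, with `X` solvable and `O₂(X) = 1`. -/
structure Setup2 (V X : Subgroup Γ) : Prop where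
  hV : IsElementaryAbelian 2 V
  hXV : X ≤ Subgroup.normalizer (V : Set Γ)
  hf : X ⊓ Subgroup.centralizer (V : Set Γ) = ⊥
  hsol : Group.IsSolvable X
  hO : pCoreOf 2 X = ⊥

/-- The subgroup generated by the best offenders in `X`. -/
def hOf (V X : Subgroup Γ) : Subgroup Γ :=
  ⨆ A : {A : Subgroup Γ // A ≤ X ∧ IsBestOffenderOn 2 V A}, (A : Subgroup Γ)

theorem hOf_le {V X : Subgroup Γ} : hOf V X ≤ X := iSup_le fun A => A.2.1

theorem le_hOf {V X A : Subgroup Γ} (hA : A ≤ X) (hb : IsBestOffenderOn 2 V A) : A ≤ hOf V X :=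
  le_iSup (fun A : {A : Subgroup Γ // A ≤ X ∧ IsBestOffenderOn 2 V A} => (A : Subgroup Γ)) ⟨A, hA, hb⟩

/-! Conjugation -/

section Conj

variable {V : Subgroup Γ} {x : Γ} (hx : x ∈ Subgroup.normalizer (V : Set Γ))
include hx

theorem map_V : V.map (MulAut.conj x).toMonoidHom = V := map_conj_eq_of_mem_normalizer hx

theorem card_fix_conj (B : Subgroup Γ) :
    Nat.card (V ⊓ Subgroup.centralizer ((B.map (MulAut.conj x).toMonoidHom : Subgroup Γ) : Set Γ) : Subgroup Γ) =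
      Nat.card (V ⊓ Subgroup.centralizer (B : Set Γ) : Subgroup Γ) := by
  have hmap : (V ⊓ Subgroup.centralizer (B : Set Γ)).map (MulAut.conj x).toMonoidHom =
      V ⊓ Subgroup.centralizer ((B.map (MulAut.conj x).toMonoidHom : Subgroup Γ) : Set Γ) := by
    ext v
    constructor
    · rintro ⟨u, hu, rfl⟩
      obtain ⟨hu1, hu2⟩ := Subgroup.mem_inf.mp hu
      refine Subgroup.mem_inf.mpr ⟨?_, ?_⟩
      · exact (Subgroup.mem_normalizer_iff.mp hx u).mp hu1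
      · rw [Subgroup.mem_centralizer_iff] at hu2 ⊢
        rintro _ ⟨b, hb, rfl⟩
        have := hu2 b hb
        simp only [MulEquiv.coe_toMonoidHom, MulAut.conj_apply]
        calc x * b * x⁻¹ * (x * u * x⁻¹) = x * (b * u) * x⁻¹ := by group
          _ = x * (u * b) * x⁻¹ := by rw [this]
          _ = _ := by group
    · intro hv
      obtain ⟨hv1, hv2⟩ := Subgroup.mem_inf.mp hv
      refine ⟨x⁻¹ * v * x, Subgroup.mem_inf.mpr ⟨?_, ?_⟩, ?_⟩
      · refine (Subgroup.mem_normalizer_iff.mp hx _).mpr ?_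
        have : x * (x⁻¹ * v * x) * x⁻¹ = v := by group
        rwa [this]
      · rw [Subgroup.mem_centralizer_iff] at hv2 ⊢
        intro b hb
        have := hv2 (x * b * x⁻¹) ⟨b, hb, rfl⟩
        calc b * (x⁻¹ * v * x) = x⁻¹ * ((x * b * x⁻¹) * v) * x := by group
          _ = x⁻¹ * (v * (x * b * x⁻¹)) * x := by rw [this]
          _ = _ := by group
      · simp only [MulEquiv.coe_toMonoidHom, MulAut.conj_apply]
        group
  rw [← hmap, card_map_conj]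

theorem conj_mem_centralizer {z : Γ} (hz : z ∈ Subgroup.centralizer (V : Set Γ)) :
    x * z * x⁻¹ ∈ Subgroup.centralizer (V : Set Γ) := by
  rw [Subgroup.mem_centralizer_iff] at hz ⊢
  intro v hv
  have h1 : x⁻¹ * v * x⁻¹⁻¹ ∈ V :=
    (Subgroup.mem_normalizer_iff.mp (inv_mem hx) v).mp hv
  have h2 := hz _ h1
  calc v * (x * z * x⁻¹) = x * ((x⁻¹ * v * x⁻¹⁻¹) * z) * x⁻¹ := by group
    _ = x * (z * (x⁻¹ * v * x⁻¹⁻¹)) * x⁻¹ := by rw [h2]
    _ = x * z * x⁻¹ * v := by group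

/-- Conjugates of best offenders are best offenders. -/
theorem conj_best {A : Subgroup Γ} (hA : IsBestOffenderOn 2 V A) :
    IsBestOffenderOn 2 V (A.map (MulAut.conj x).toMonoidHom) := by
  refine ⟨fun B hB => ?_, ?_, ?_⟩
  · have hB0 : B.map (MulAut.conj x⁻¹).toMonoidHom ≤ A := by
      rintro _ ⟨b, hb, rfl⟩
      obtain ⟨a, ha, rfl⟩ := hB hb
      simpa [mul_assoc] using ha
    have hB1 : (B.map (MulAut.conj x⁻¹).toMonoidHom).map (MulAut.conj x).toMonoidHom = B := by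
      have := map_conj_map_conj_inv x B
      simpa using this
    have h1 := hA.1 _ hB0
    have h2 := card_fix_conj hx (B.map (MulAut.conj x⁻¹).toMonoidHom)
    rw [hB1] at h2
    rw [h2, card_map_conj x A, card_fix_conj hx A]
    have h3 := card_map_conj x⁻¹ B
    rwa [h3] at h1
  · rw [← Subgroup.map_commutator, Subgroup.map_le_iff_le_comap]
    intro z hz
    exact conj_mem_centralizer hx (hA.2.1 hz)
  · rintro _ ⟨a, ha, rfl⟩
    simp only [MulEquiv.coe_toMonoidHom, MulAut.conj_apply]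
    rw [conj_pow]
    exact conj_mem_centralizer hx (hA.2.2 a ha)

end Conj

section Struct

variable {V X : Subgroup Γ}

/-- `⟨best offenders⟩` is normalized by `X`. -/
theorem conj_mem_hOf (S : Setup2 V X) {x h : Γ} (hx : x ∈ X) (hh : h ∈ hOf V X) :
    x * h * x⁻¹ ∈ hOf V X := by
  have hle : hOf V X ≤ (hOf V X).comap (MulAut.conj x).toMonoidHom := by
    refine iSup_le fun A a ha => ?_
    rw [Subgroup.mem_comap]
    refine le_hOf ?_ (conj_best (S.hXV hx) A.2.2) (Subgroup.mem_map_of_mem _ ha)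
    rintro _ ⟨b, hb, rfl⟩
    exact mul_mem (mul_mem hx (A.2.1 hb)) (inv_mem hx)
  exact hle hh

theorem hOf_normalizer (S : Setup2 V X) {x : Γ} (hx : x ∈ X) :
    x ∈ Subgroup.normalizer ((hOf V X : Subgroup Γ) : Set Γ) :=
  mem_normalizer_of_conj_le fun _ hk => conj_mem_hOf S hx hk

/-- `O₂(⟨best offenders⟩) = 1`. -/
theorem pCore_hOf (S : Setup2 V X) : pCore 2 (hOf V X) = ⊥ := by
  have hle : pCoreOf 2 (hOf V X) ≤ pCoreOf 2 X := by
    refine le_pCoreOf (Cfsg.Agent.Lib.Amalgam.Vertex.pCoreOf_le.trans hOf_le) ?_ ?_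
    · exact (Cfsg.Agent.Lib.Basic.PCore.pCore_isPGroup 2).map _
    · intro l hl q hq
      exact conj_mem_pCoreOf_of_normalizer (hOf_normalizer S hl) hq
  rw [S.hO, le_bot_iff] at hle
  rw [eq_bot_iff]
  intro y hy
  have h1 : (y : Γ) ∈ pCoreOf 2 (hOf V X) := ⟨y, hy, rfl⟩
  rw [hle, Subgroup.mem_bot] at h1
  exact Subgroup.mem_bot.mpr (Subtype.ext h1)

/-- The self-centralizing hypothesis for `⟨best offenders⟩`. -/
theorem hS1_hOf (S : Setup2 V X) :
    Subgroup.centralizer (pPrimeCore 2 (hOf V X) : Set (hOf V X)) ≤ pPrimeCore 2 (hOf V X) := by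
  have hsol : Group.IsSolvable X := S.hsol
  have : Group.IsSolvable (hOf V X) :=
    Group.isSolvable_of_isSolvable_injective (f := Subgroup.inclusion (hOf_le (V := V) (X := X)))
      (Subgroup.inclusion_injective _)
  exact Cfsg.Agent.Lib.Solvable.Stability.centralizer_pPrimeCore_le
    Cfsg.Agent.Lib.Solvable.PSeries.isPSolvable_of_solvable (pCore_hOf S)

/-- Minimal nontrivially acting best offenders in `X`. -/
def IsMinBest (V X A : Subgroup Γ) : Prop :=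
  A ≤ X ∧ IsBestOffenderOn 2 V A ∧ ⁅V, A⁆ ≠ ⊥ ∧
    ∀ B : Subgroup Γ, B ≤ A → IsBestOffenderOn 2 V B → ⁅V, B⁆ ≠ ⊥ → B = A

/-- The image of `O_{2'}(⟨best offenders⟩)`. -/
noncomputable def coreH (V X : Subgroup Γ) : Subgroup Γ :=
  (pPrimeCore 2 (hOf V X)).map (hOf V X).subtype

/-- The factor attached to a minimal best offender. -/
noncomputable def fac (V X A : Subgroup Γ) : Subgroup Γ := ⁅coreH V X, A⁆ ⊔ A

/-- The family of factors. -/
def famH (V X : Subgroup Γ) : Set (Subgroup Γ) := {E | ∃ A, IsMinBest V X A ∧ E = fac V X A}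

/-- The statement of the structure theorem in our notation. -/
theorem fam_spec (S : Setup2 V X) (hH1 : hOf V X ≠ ⊥) :
    (∀ E ∈ famH V X, hOf V X ≤ Subgroup.normalizer (E : Set Γ) ∧ Nonempty (E ≃* SL22) ∧
      Nat.card (⁅V, E⁆ : Subgroup Γ) = 4) ∧
    (∀ E ∈ famH V X, ∀ E' ∈ famH V X, E ≠ E' → E ⊓ E' = ⊥) ∧
    sSup (famH V X) = hOf V X ∧
    (∀ E ∈ famH V X, ∀ E' ∈ famH V X, E ≠ E' → ⁅V, E⁆ ⊓ ⁅V, E'⁆ = ⊥) ∧
    (∀ W₀ : Subgroup Γ, V ⊓ Subgroup.centralizer ((hOf V X : Subgroup Γ) : Set Γ) ≤ W₀ →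
      (∀ E ∈ famH V X, ⁅V, E⁆ ≤ W₀) → V ≤ W₀) := by
  have hHV : hOf V X ≤ Subgroup.normalizer (V : Set Γ) := hOf_le.trans S.hXV
  have hf' : hOf V X ⊓ Subgroup.centralizer (V : Set Γ) = ⊥ := by
    rw [eq_bot_iff, ← S.hf]
    exact inf_le_inf_right _ hOf_le
  have hS3 : hOf V X = ⨆ A : {A : Subgroup Γ // A ≤ hOf V X ∧ IsBestOffenderOn 2 V A}, (A : Subgroup Γ) := by
    apply le_antisymm
    · refine iSup_le fun A => ?_
      exact le_iSup (fun A : {A : Subgroup Γ // A ≤ hOf V X ∧ IsBestOffenderOn 2 V A} => (A : Subgroup Γ))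
        ⟨A.1, le_hOf A.2.1 A.2.2, A.2.2⟩
    · exact iSup_le fun A => A.2.1
  obtain ⟨-, hc1, hc2, hc3, hc4, hc5⟩ := Cfsg.Agent.S0617.result (p := 2) V (hOf V X) S.hV hHV hf'
    (hS1_hOf S) hS3 hH1
  -- Every member of the family is an index of the theorem.
  have hidx : ∀ E ∈ famH V X, ∃ A : Subgroup Γ, A ≤ hOf V X ∧ IsBestOffenderOn 2 V A ∧ ⁅V, A⁆ ≠ ⊥ ∧
      (∀ B : Subgroup Γ, B ≤ A → IsBestOffenderOn 2 V B → ⁅V, B⁆ ≠ ⊥ → B = A) ∧
      E = ⁅((pPrimeCore 2 (hOf V X)).map (hOf V X).subtype), A⁆ ⊔ A := by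
    rintro E ⟨A, ⟨hA1, hA2, hA3, hA4⟩, rfl⟩
    exact ⟨A, le_hOf hA1 hA2, hA2, hA3, hA4, rfl⟩
  have hidx2 : ∀ E : {E : Subgroup Γ // ∃ A : Subgroup Γ, A ≤ hOf V X ∧ IsBestOffenderOn 2 V A ∧ ⁅V, A⁆ ≠ ⊥ ∧
      (∀ B : Subgroup Γ, B ≤ A → IsBestOffenderOn 2 V B → ⁅V, B⁆ ≠ ⊥ → B = A) ∧
      E = ⁅((pPrimeCore 2 (hOf V X)).map (hOf V X).subtype), A⁆ ⊔ A}, (E : Subgroup Γ) ∈ famH V X := by
    rintro ⟨E, A, hA1, hA2, hA3, hA4, rfl⟩
    exact ⟨A, ⟨hA1.trans hOf_le, hA2, hA3, hA4⟩, rfl⟩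
  refine ⟨?_, ?_, ?_, ?_, ?_⟩
  · intro E hE
    have := hc1 ⟨E, hidx E hE⟩
    refine ⟨this.1, this.2.1, ?_⟩
    have h4 := this.2.2
    norm_num at h4
    exact h4
  · intro E hE E' hE' hne
    have hd := hc2.pairwiseDisjoint (i := ⟨E, hidx E hE⟩) (j := ⟨E', hidx E' hE'⟩)
      (fun h => hne (congrArg Subtype.val h))
    exact disjoint_iff.mp hd
  · apply le_antisymm
    · refine sSup_le fun E hE => ?_
      rw [← hc3]
      exact le_iSup (fun E : {E : Subgroup Γ // ∃ A : Subgroup Γ, A ≤ hOf V X ∧ IsBestOffenderOn 2 V A ∧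
        ⁅V, A⁆ ≠ ⊥ ∧ (∀ B : Subgroup Γ, B ≤ A → IsBestOffenderOn 2 V B → ⁅V, B⁆ ≠ ⊥ → B = A) ∧
        E = ⁅((pPrimeCore 2 (hOf V X)).map (hOf V X).subtype), A⁆ ⊔ A} => (E : Subgroup Γ)) ⟨E, hidx E hE⟩
    · conv_lhs => rw [← hc3]
      exact iSup_le fun E => le_sSup (hidx2 E)
  · intro E hE E' hE' hne
    have hd := hc4.pairwiseDisjoint (i := some ⟨E, hidx E hE⟩) (j := some ⟨E', hidx E' hE'⟩)
      (fun h => hne (congrArg Subtype.val (Option.some_injective _ h)))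
    exact disjoint_iff.mp hd
  · intro W₀ h1 h2
    rw [← hc5]
    refine sup_le h1 (iSup_le fun E => h2 _ (hidx2 E))

/-- The family, in `Γ`. -/
structure IsFFG (V X : Subgroup Γ) (F : Set (Subgroup Γ)) : Prop where
  le : ∀ E ∈ F, E ≤ X
  conj : ∀ x ∈ X, ∀ E ∈ F, E.map (MulAut.conj x).toMonoidHom ∈ F
  iso : ∀ E ∈ F, Nonempty (E ≃* SL22)
  card_com : ∀ E ∈ F, Nat.card (⁅V, E⁆ : Subgroup Γ) = 4
  split : ∀ E ∈ F, ⁅V, E⁆ ⊔ (V ⊓ Subgroup.centralizer (E : Set Γ)) = V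
  comm : ∀ E ∈ F, ∀ E' ∈ F, E ≠ E' → ∀ e ∈ E, ∀ e' ∈ E', e * e' * e⁻¹ * e'⁻¹ = 1
  indep : ∀ E ∈ F, ∀ E' ∈ F, E ≠ E' → ⁅V, E⁆ ⊓ ⁅V, E'⁆ = ⊥
  gen : ∀ A : Subgroup Γ, A ≤ X → IsBestOffenderOn 2 V A → A ≤ Subgroup.closure {b | b ∈ A ∧ ∃ E ∈ F, b ∈ E}

theorem exists_isFFG (S : Setup2 V X) : ∃ F, IsFFG V X F := by
  by_cases hH1 : hOf V X = ⊥
  · refine ⟨∅, fun _ h => absurd h (Set.notMem_empty _), fun _ _ _ h => absurd h (Set.notMem_empty _),
      fun _ h => absurd h (Set.notMem_empty _), fun _ h => absurd h (Set.notMem_empty _),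
      fun _ h => absurd h (Set.notMem_empty _), fun _ h => absurd h (Set.notMem_empty _),
      fun _ h => absurd h (Set.notMem_empty _), fun A hA hb => ?_⟩
    have : A ≤ ⊥ := hH1 ▸ le_hOf hA hb
    exact this.trans bot_le
  obtain ⟨hc1, hc2, hc3, hc4, hc5⟩ := fam_spec S hH1
  have hHV : hOf V X ≤ Subgroup.normalizer (V : Set Γ) := hOf_le.trans S.hXV
  have hfle : ∀ E ∈ famH V X, E ≤ hOf V X := fun E hE => hc3 ▸ le_sSup hE
  have hcomm : ∀ E ∈ famH V X, ∀ E' ∈ famH V X, E ≠ E' → ∀ e ∈ E, ∀ e' ∈ E', e * e' * e⁻¹ * e'⁻¹ = 1 := by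
    intro E hE E' hE' hne e he e' he'
    have h1 : e * e' * e⁻¹ * e'⁻¹ ∈ E' :=
      mul_mem ((Subgroup.mem_normalizer_iff.mp ((hc1 E' hE').1 (hfle E hE he)) e').mp he') (inv_mem he')
    have h2 : e * e' * e⁻¹ * e'⁻¹ ∈ E := by
      have e1 : e * e' * e⁻¹ * e'⁻¹ = e * (e' * e⁻¹ * e'⁻¹) := by group
      rw [e1]
      exact mul_mem he ((Subgroup.mem_normalizer_iff.mp ((hc1 E hE).1 (hfle E' hE' he')) _).mp (inv_mem he))
    have h3 : e * e' * e⁻¹ * e'⁻¹ ∈ E ⊓ E' := Subgroup.mem_inf.mpr ⟨h2, h1⟩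
    rw [hc2 E hE E' hE' hne, Subgroup.mem_bot] at h3
    exact h3
  have hcomV : ∀ E ∈ famH V X, ⁅V, E⁆ ≤ V := by
    intro E hE
    rw [Subgroup.commutator_le]
    intro v hv e he
    rw [commutatorElement_def]
    have e1 : v * e * v⁻¹ * e⁻¹ = v * (e * v⁻¹ * e⁻¹) := by group
    rw [e1]
    exact mul_mem hv ((Subgroup.mem_normalizer_iff.mp (hHV (hfle E hE he)) _).mp (inv_mem hv))
  have hconjcom : ∀ E ∈ famH V X, ∀ E' ∈ famH V X, ∀ e ∈ E, ∀ p ∈ ⁅V, E'⁆, e * p * e⁻¹ ∈ ⁅V, E'⁆ := by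
    intro E hE E' hE' e he p hp
    have hle : ⁅V, E'⁆ ≤ (⁅V, E'⁆).comap (MulAut.conj e).toMonoidHom := by
      rw [Subgroup.commutator_le]
      intro v hv e' he'
      rw [Subgroup.mem_comap, map_commutatorElement]
      apply Subgroup.commutator_mem_commutator
      · exact (Subgroup.mem_normalizer_iff.mp (hHV (hfle E hE he)) v).mp hv
      · exact (Subgroup.mem_normalizer_iff.mp ((hc1 E' hE').1 (hfle E hE he)) e').mp he'
    exact hle hp
  have hcent : ∀ E ∈ famH V X, ∀ E' ∈ famH V X, E ≠ E' → ⁅V, E'⁆ ≤ V ⊓ Subgroup.centralizer (E : Set Γ) := by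
    intro E hE E' hE' hne p hp
    refine Subgroup.mem_inf.mpr ⟨hcomV E' hE' hp, ?_⟩
    rw [Subgroup.mem_centralizer_iff]
    intro e he
    have h1 : e * p * e⁻¹ * p⁻¹ ∈ ⁅V, E'⁆ := mul_mem (hconjcom E hE E' hE' e he p hp) (inv_mem hp)
    have h2 : e * p * e⁻¹ * p⁻¹ ∈ ⁅V, E⁆ := by
      have e1 : e * p * e⁻¹ * p⁻¹ = ⁅p, e⁆⁻¹ := by
        rw [commutatorElement_def]
        group
      rw [e1]
      exact inv_mem (Subgroup.commutator_mem_commutator (hcomV E' hE' hp) he)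
    have h3 : e * p * e⁻¹ * p⁻¹ ∈ ⁅V, E⁆ ⊓ ⁅V, E'⁆ := Subgroup.mem_inf.mpr ⟨h2, h1⟩
    rw [hc4 E hE E' hE' hne, Subgroup.mem_bot] at h3
    rw [mul_inv_eq_one, mul_inv_eq_iff_eq_mul] at h3
    exact h3
  refine ⟨famH V X, fun E hE => (hfle E hE).trans hOf_le, ?_, fun E hE => (hc1 E hE).2.1,
    fun E hE => (hc1 E hE).2.2, ?_, hcomm, hc4, ?_⟩
  · rintro x hx E ⟨A, ⟨hA1, hA2, hA3, hA4⟩, rfl⟩
    have hxV := S.hXV hx
    have hxi : x⁻¹ ∈ Subgroup.normalizer (V : Set Γ) := inv_mem hxV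
    have hmapV : V.map (MulAut.conj x).toMonoidHom = V := map_V hxV
    have hmapVi : V.map (MulAut.conj x⁻¹).toMonoidHom = V := map_V hxi
    have hcore : (coreH V X).map (MulAut.conj x).toMonoidHom = coreH V X :=
      map_conj_eq_of_mem_normalizer (mem_normalizer_of_conj_le fun _ h =>
        Cfsg.Agent.Lib.Components.PComponent.conj_mem_map_pPrimeCore 2 (hOf V X) x (hOf_normalizer S hx) h)
    refine ⟨A.map (MulAut.conj x).toMonoidHom, ⟨?_, conj_best hxV hA2, ?_, ?_⟩, ?_⟩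
    · rintro _ ⟨a, ha, rfl⟩
      exact mul_mem (mul_mem hx (hA1 ha)) (inv_mem hx)
    · intro hbot
      apply hA3
      rw [← hmapV, ← Subgroup.map_commutator] at hbot
      exact (Subgroup.map_eq_bot_iff_of_injective _ (MulAut.conj x).injective).mp hbot
    · intro B hB hB1 hB2
      have hB0 : B.map (MulAut.conj x⁻¹).toMonoidHom ≤ A := by
        rintro _ ⟨b, hb, rfl⟩
        obtain ⟨a, ha, rfl⟩ := hB hb
        simpa [mul_assoc] using ha
      have hB3 : (B.map (MulAut.conj x⁻¹).toMonoidHom).map (MulAut.conj x).toMonoidHom = B := by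
        have := map_conj_map_conj_inv x B
        simpa using this
      have h1 := hA4 _ hB0 (conj_best hxi hB1) (by
        intro hbot
        apply hB2
        have h2 : ⁅V.map (MulAut.conj x⁻¹).toMonoidHom, B.map (MulAut.conj x⁻¹).toMonoidHom⁆ = ⊥ := by
          rw [hmapVi]
          exact hbot
        rw [← Subgroup.map_commutator] at h2
        exact (Subgroup.map_eq_bot_iff_of_injective _ (MulAut.conj x⁻¹).injective).mp h2)
      rw [← h1, hB3]
    · unfold fac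
      rw [Subgroup.map_sup, Subgroup.map_commutator, hcore]
  · intro E hE
    refine le_antisymm (sup_le (hcomV E hE) inf_le_left) ?_
    refine hc5 _ ?_ ?_
    · refine le_trans ?_ le_sup_right
      refine inf_le_inf_left _ ?_
      exact Subgroup.centralizer_le (hfle E hE)
    · intro E' hE'
      by_cases hne : E = E'
      · rw [← hne]
        exact le_sup_left
      · exact (hcent E hE E' hE' hne).trans le_sup_right
  · intro A hA hb
    by_cases hA1 : A = ⊥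
    · rw [hA1]
      exact bot_le
    have hAH := le_hOf hA hb
    obtain ⟨k, B, hB, -, hsup⟩ := Cfsg.Agent.S0612.result (p := 2) V (hOf V X) S.hV hHV
      (by rw [eq_bot_iff, ← S.hf]; exact inf_le_inf_right _ hOf_le) (hS1_hOf S) (by
        apply le_antisymm
        · refine iSup_le fun A => ?_
          exact le_iSup (fun A : {A : Subgroup Γ // A ≤ hOf V X ∧ IsBestOffenderOn 2 V A} => (A : Subgroup Γ))
            ⟨A.1, le_hOf A.2.1 A.2.2, A.2.2⟩
        · exact iSup_le fun A => A.2.1) hH1 A hAH hb hA1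
    rw [← hsup]
    refine iSup_le fun i b hbi => Subgroup.subset_closure ?_
    obtain ⟨hB1, hB2, hB3, hB4⟩ := hB i
    refine ⟨hsup ▸ (le_iSup B i hbi), fac V X (B i), ⟨B i, ⟨hB1.trans hA, hB2, hB3, hB4⟩, rfl⟩, ?_⟩
    exact (le_sup_right : B i ≤ fac V X (B i)) hbi

end Struct

end Gamma

/-! ### Transfer -/

section Pull

variable {G : Type*} [Group G] {Ω R : Subgroup G} {Γ : Type*} [Group Γ]

/-- A model of the action of `R` on `Ω`. -/
structure Model (Ω R : Subgroup G) (ι : Ω →* Γ) (φ : R →* Γ) : Prop where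
  inj : Function.Injective ι
  conj : ∀ (r : R) (v : Ω) (h : (r : G) * v * (r : G)⁻¹ ∈ Ω), φ r * ι v * (φ r)⁻¹ = ι ⟨_, h⟩
  ker : ∀ r : R, φ r = 1 ↔ (r : G) ∈ Subgroup.centralizer (Ω : Set G)
  norm : R ≤ Subgroup.normalizer (Ω : Set G)

variable {ι : Ω →* Γ} {φ : R →* Γ}

/-- Preimage in `G`. -/
def pull (φ : R →* Γ) (E : Subgroup Γ) : Subgroup G := (E.comap φ).map R.subtype

theorem mem_pull {E : Subgroup Γ} {g : G} : g ∈ pull φ E ↔ ∃ h : g ∈ R, φ ⟨g, h⟩ ∈ E := by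
  constructor
  · rintro ⟨r, hr, rfl⟩
    exact ⟨r.2, hr⟩
  · rintro ⟨h, hE⟩
    exact ⟨⟨g, h⟩, hE, rfl⟩

theorem pull_le (E : Subgroup Γ) : pull φ E ≤ R := by
  rintro _ ⟨r, -, rfl⟩
  exact r.2

theorem exists_pull_of_le {E : Subgroup Γ} (hE : E ≤ φ.range) {e : Γ} (he : e ∈ E) :
    ∃ r : R, φ r = e ∧ (r : G) ∈ pull φ E := by
  obtain ⟨r, rfl⟩ := hE he
  exact ⟨r, rfl, mem_pull.mpr ⟨r.2, he⟩⟩

variable (M : Model Ω R ι φ)
include M

theorem Model.conj_mem {r v : G} (hr : r ∈ R) (hv : v ∈ Ω) : r * v * r⁻¹ ∈ Ω :=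
  (Subgroup.mem_normalizer_iff.mp (M.norm hr) v).mp hv

/-- `ι` of a commutator. -/
theorem Model.comm_eq (r : R) (v : Ω) (h : (v : G) * r * (v : G)⁻¹ * (r : G)⁻¹ ∈ Ω) :
    ι ⟨_, h⟩ = ι v * φ r * (ι v)⁻¹ * (φ r)⁻¹ := by
  have h1 : (r : G) * (v : G)⁻¹ * (r : G)⁻¹ ∈ Ω := M.conj_mem r.2 (inv_mem v.2)
  have h2 := M.conj r v⁻¹ (by simpa using h1)
  have e1 : (⟨_, h⟩ : Ω) = v * ⟨(r : G) * (v⁻¹ : Ω) * (r : G)⁻¹, by simpa using h1⟩ := by
    apply Subtype.ext
    simp [mul_assoc]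
  rw [e1, map_mul, ← h2, map_inv]
  group

/-- The set-up in the model. -/
theorem Model.setup2 [Finite G] [Finite Γ] (hΩ : IsElementaryAbelian 2 Ω) (hsol : Group.IsSolvable R)
    (hO : ∀ D : Subgroup G, D ≤ R → R ⊓ Subgroup.centralizer (Ω : Set G) ≤ D →
      (∀ r ∈ R, ∀ d ∈ D, r * d * r⁻¹ ∈ D) →
      (∀ d ∈ D, ∃ n : ℕ, d ^ 2 ^ n ∈ R ⊓ Subgroup.centralizer (Ω : Set G)) →
      D ≤ R ⊓ Subgroup.centralizer (Ω : Set G)) :
    Setup2 ι.range φ.range := by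
  refine ⟨⟨⟨⟨?_⟩⟩, ?_⟩, ?_, ?_, ?_, ?_⟩
  · rintro ⟨_, v, rfl⟩ ⟨_, w, rfl⟩
    apply Subtype.ext
    show ι v * ι w = ι w * ι v
    rw [← map_mul, ← map_mul]
    congr 1
    apply Subtype.ext
    have := hΩ.1.1.1 v w
    exact congrArg Subtype.val this
  · rintro _ ⟨v, rfl⟩
    rw [← map_pow]
    have : v ^ 2 = 1 := Subtype.ext (by simpa using hΩ.2 v v.2)
    rw [this, map_one]
  · rintro _ ⟨r, rfl⟩
    rw [Subgroup.mem_normalizer_iff]
    intro z
    constructor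
    · rintro ⟨v, rfl⟩
      exact ⟨_, (M.conj r v (M.conj_mem r.2 v.2)).symm⟩
    · rintro ⟨v, hv⟩
      refine ⟨⟨(r : G)⁻¹ * v * r, ?_⟩, ?_⟩
      · have := M.conj_mem (inv_mem r.2) v.2
        simpa using this
      · have h1 := M.conj r⁻¹ v (by
          have := M.conj_mem (inv_mem r.2) v.2
          simpa using this)
        have e1 : (⟨((r⁻¹ : R) : G) * v * (((r⁻¹ : R) : G))⁻¹, by
            have := M.conj_mem (inv_mem r.2) v.2
            simpa using this⟩ : Ω) = ⟨(r : G)⁻¹ * v * r, by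
            have := M.conj_mem (inv_mem r.2) v.2
            simpa using this⟩ := by
          apply Subtype.ext
          simp
        rw [← e1, ← h1, map_inv, hv]
        group
  · rw [eq_bot_iff]
    rintro _ h
    obtain ⟨⟨r, rfl⟩, h2⟩ := Subgroup.mem_inf.mp h
    rw [Subgroup.mem_bot, M.ker, Subgroup.mem_centralizer_iff]
    intro v hv
    have h3 := M.conj r ⟨v, hv⟩ (M.conj_mem r.2 hv)
    rw [Subgroup.mem_centralizer_iff] at h2
    have h4 := h2 (ι ⟨v, hv⟩) ⟨_, rfl⟩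
    rw [← h4, mul_inv_cancel_right] at h3
    have h5 := M.inj h3
    have h6 : v = (r : G) * v * (r : G)⁻¹ := congrArg Subtype.val h5
    calc v * r = ((r : G) * v * (r : G)⁻¹) * r := by rw [← h6]
      _ = r * v := by group
  · have hs : Function.Surjective (φ.rangeRestrict) := MonoidHom.rangeRestrict_surjective φ
    exact solvable_of_surjective hs
  · rw [eq_bot_iff]
    intro y hy
    have hy2 : y ∈ φ.range := Cfsg.Agent.Lib.Amalgam.Vertex.pCoreOf_le hy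
    obtain ⟨r, rfl⟩ := hy2
    rw [Subgroup.mem_bot, M.ker]
    have hD := hO (pull φ (pCoreOf 2 φ.range)) (pull_le _) ?_ ?_ ?_
    · exact (Subgroup.mem_inf.mp (hD (mem_pull.mpr ⟨r.2, hy⟩))).2
    · intro g hg
      obtain ⟨h1, h2⟩ := Subgroup.mem_inf.mp hg
      refine mem_pull.mpr ⟨h1, ?_⟩
      have : φ ⟨g, h1⟩ = 1 := (M.ker _).mpr h2
      rw [this]
      exact one_mem _
    · intro s hs d hd
      obtain ⟨hd1, hd2⟩ := mem_pull.mp hd
      refine mem_pull.mpr ⟨mul_mem (mul_mem hs hd1) (inv_mem hs), ?_⟩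
      have e1 : φ ⟨s * d * s⁻¹, mul_mem (mul_mem hs hd1) (inv_mem hs)⟩ =
          φ ⟨s, hs⟩ * φ ⟨d, hd1⟩ * (φ ⟨s, hs⟩)⁻¹ := by
        rw [← map_inv, ← map_mul, ← map_mul]
        rfl
      rw [e1]
      exact Cfsg.Agent.Lib.Amalgam.Vertex.conj_mem_pCoreOf ⟨_, rfl⟩ hd2
    · intro d hd
      obtain ⟨hd1, hd2⟩ := mem_pull.mp hd
      obtain ⟨y, hy, hye⟩ := hd2
      have hP : IsPGroup 2 (pCore 2 φ.range) := Cfsg.Agent.Lib.Basic.PCore.pCore_isPGroup 2
      obtain ⟨n, hn⟩ := hP ⟨y, hy⟩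
      have hn2 : y ^ 2 ^ n = 1 := by
        have := congrArg Subtype.val hn
        simpa using this
      refine ⟨n, Subgroup.mem_inf.mpr ⟨pow_mem hd1 _, ?_⟩⟩
      have hk := (M.ker (⟨d, hd1⟩ ^ 2 ^ n)).mp (by
        rw [map_pow]
        have e2 : φ ⟨d, hd1⟩ = (y : Γ) := hye.symm
        rw [e2, ← Subgroup.coe_pow, hn2]
        rfl)
      simpa using hk

theorem Model.comm_mem (r : R) (v : Ω) : (v : G) * r * (v : G)⁻¹ * (r : G)⁻¹ ∈ Ω := by
  have e1 : (v : G) * r * (v : G)⁻¹ * (r : G)⁻¹ = v * ((r : G) * (v : G)⁻¹ * (r : G)⁻¹) := by group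
  rw [e1]
  exact mul_mem v.2 (M.conj_mem r.2 (inv_mem v.2))

/-- Transfer of commutators. -/
theorem Model.com_eq {E : Subgroup Γ} (hE : E ≤ φ.range) :
    ⁅ι.range, E⁆ = ((⁅Ω, pull φ E⁆ : Subgroup G).subgroupOf Ω).map ι := by
  apply le_antisymm
  · rw [Subgroup.commutator_le]
    rintro _ ⟨v, rfl⟩ e he
    obtain ⟨r, rfl, hr⟩ := exists_pull_of_le hE he
    refine ⟨⟨_, M.comm_mem r v⟩, ?_, ?_⟩
    · rw [SetLike.mem_coe, Subgroup.mem_subgroupOf]
      exact Subgroup.commutator_mem_commutator v.2 hr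
    · rw [M.comm_eq, commutatorElement_def]
  · rintro _ ⟨v, hv, rfl⟩
    have hle : (⁅Ω, pull φ E⁆ : Subgroup G) ≤ ((⁅ι.range, E⁆ : Subgroup Γ).comap ι).map Ω.subtype := by
      rw [Subgroup.commutator_le]
      intro u hu e he
      obtain ⟨he1, he2⟩ := mem_pull.mp he
      refine ⟨⟨_, M.comm_mem ⟨e, he1⟩ ⟨u, hu⟩⟩, ?_, rfl⟩
      rw [SetLike.mem_coe, Subgroup.mem_comap, M.comm_eq]
      exact Subgroup.commutator_mem_commutator ⟨_, rfl⟩ he2
    obtain ⟨u, hu, hue⟩ := hle (Subgroup.mem_subgroupOf.mp hv)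
    have : u = v := Subtype.ext hue
    rw [← this]
    exact hu

theorem Model.com_le (E : Subgroup Γ) : (⁅Ω, pull φ E⁆ : Subgroup G) ≤ Ω := by
  rw [Subgroup.commutator_le]
  intro u hu e he
  exact M.comm_mem ⟨e, pull_le E he⟩ ⟨u, hu⟩

theorem Model.card_map_of_le {P : Subgroup G} (hP : P ≤ Ω) :
    Nat.card ((P.subgroupOf Ω).map ι : Subgroup Γ) = Nat.card P := by
  rw [Subgroup.card_map_of_injective M.inj]
  exact Nat.card_congr (Subgroup.subgroupOfEquivOfLe hP).toEquiv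

theorem Model.comm_iff (r : R) (v : Ω) : φ r * ι v = ι v * φ r ↔ (v : G) * r = r * v := by
  have h1 := M.conj r v (M.conj_mem r.2 v.2)
  constructor
  · intro h
    rw [h, mul_inv_cancel_right] at h1
    have h2 : v = ⟨_, M.conj_mem r.2 v.2⟩ := M.inj h1
    have h3 : (v : G) = r * v * (r : G)⁻¹ := congrArg Subtype.val h2
    calc (v : G) * r = ((r : G) * v * (r : G)⁻¹) * r := by rw [← h3]
      _ = r * v := by group
  · intro h
    have h2 : v = ⟨_, M.conj_mem r.2 v.2⟩ := by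
      apply Subtype.ext
      show (v : G) = r * v * (r : G)⁻¹
      rw [← h]
      group
    rw [← h2] at h1
    rw [mul_inv_eq_iff_eq_mul] at h1
    exact h1

/-- Transfer of fixed points. -/
theorem Model.fix_eq {B : Subgroup G} (hB : B ≤ R) :
    ι.range ⊓ Subgroup.centralizer (((B.subgroupOf R).map φ : Subgroup Γ) : Set Γ) =
      ((Ω ⊓ Subgroup.centralizer (B : Set G) : Subgroup G).subgroupOf Ω).map ι := by
  ext y
  constructor
  · intro hy
    obtain ⟨⟨v, rfl⟩, h2⟩ := Subgroup.mem_inf.mp hy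
    refine ⟨v, ?_, rfl⟩
    rw [SetLike.mem_coe, Subgroup.mem_subgroupOf]
    refine Subgroup.mem_inf.mpr ⟨v.2, ?_⟩
    rw [Subgroup.mem_centralizer_iff] at h2 ⊢
    intro b hb
    have h3 := h2 (φ ⟨b, hB hb⟩) ⟨⟨b, hB hb⟩, Subgroup.mem_subgroupOf.mpr hb, rfl⟩
    exact ((M.comm_iff ⟨b, hB hb⟩ v).mp h3).symm
  · rintro ⟨v, hv, rfl⟩
    obtain ⟨h1, h2⟩ := Subgroup.mem_inf.mp (Subgroup.mem_subgroupOf.mp hv)
    refine Subgroup.mem_inf.mpr ⟨⟨v, rfl⟩, ?_⟩
    rw [Subgroup.mem_centralizer_iff] at h2 ⊢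
    rintro _ ⟨r, hr, rfl⟩
    have hr2 : (r : G) ∈ B := Subgroup.mem_subgroupOf.mp hr
    exact (M.comm_iff r v).mpr (h2 _ hr2).symm

theorem map_pull {E : Subgroup Γ} (hE : E ≤ φ.range) : ((pull φ E).subgroupOf R).map φ = E := by
  ext y
  constructor
  · rintro ⟨r, hr, rfl⟩
    obtain ⟨_, h⟩ := mem_pull.mp (Subgroup.mem_subgroupOf.mp hr)
    exact h
  · intro hy
    obtain ⟨r, rfl, hr⟩ := exists_pull_of_le hE hy
    exact ⟨r, Subgroup.mem_subgroupOf.mpr hr, rfl⟩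

theorem Model.card_fix {B : Subgroup G} (hB : B ≤ R) :
    Nat.card (ι.range ⊓ Subgroup.centralizer (((B.subgroupOf R).map φ : Subgroup Γ) : Set Γ) : Subgroup Γ) =
      Nat.card (Ω ⊓ Subgroup.centralizer (B : Set G) : Subgroup G) := by
  rw [M.fix_eq hB, M.card_map_of_le inf_le_left]

/-- Order formula. -/
theorem Model.card_eq {B : Subgroup G} (hB : B ≤ R) [Finite B] :
    Nat.card B = Nat.card ((B.subgroupOf R).map φ : Subgroup Γ) *
      Nat.card (B ⊓ Subgroup.centralizer (Ω : Set G) : Subgroup G) := by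
  let f : B →* Γ := φ.comp (Subgroup.inclusion hB)
  have hr : f.range = (B.subgroupOf R).map φ := by
    ext y
    constructor
    · rintro ⟨b, rfl⟩
      exact ⟨Subgroup.inclusion hB b, Subgroup.mem_subgroupOf.mpr b.2, rfl⟩
    · rintro ⟨r, hr, rfl⟩
      exact ⟨⟨r, Subgroup.mem_subgroupOf.mp hr⟩, rfl⟩
  have hk : Nat.card f.ker = Nat.card (B ⊓ Subgroup.centralizer (Ω : Set G) : Subgroup G) := by
    have e : f.ker = (B ⊓ Subgroup.centralizer (Ω : Set G) : Subgroup G).subgroupOf B := by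
      ext b
      rw [MonoidHom.mem_ker, Subgroup.mem_subgroupOf]
      constructor
      · intro h
        exact Subgroup.mem_inf.mpr ⟨b.2, (M.ker (Subgroup.inclusion hB b)).mp h⟩
      · intro h
        exact (M.ker (Subgroup.inclusion hB b)).mpr (Subgroup.mem_inf.mp h).2
    rw [e]
    exact Nat.card_congr (Subgroup.subgroupOfEquivOfLe inf_le_left).toEquiv
  rw [← hr, ← hk, ← Subgroup.index_ker, mul_comm]
  exact (Subgroup.card_mul_index f.ker).symm

/-- Best offenders transfer. -/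
theorem Model.best [Finite G] {A : Subgroup G} (hA : A ≤ R) (hb : IsBestOffenderOn 2 Ω A) :
    IsBestOffenderOn 2 ι.range ((A.subgroupOf R).map φ) := by
  refine ⟨fun B hB => ?_, ?_, ?_⟩
  · have hBr : B ≤ φ.range := hB.trans (Subgroup.map_le_range _ _)
    set B' : Subgroup G := A ⊓ pull φ B with hB'
    have hB'R : B' ≤ R := inf_le_left.trans hA
    have hmap : (B'.subgroupOf R).map φ = B := by
      ext y
      constructor
      · rintro ⟨r, hr, rfl⟩
        obtain ⟨-, h2⟩ := Subgroup.mem_inf.mp (Subgroup.mem_subgroupOf.mp hr)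
        exact (mem_pull.mp h2).2
      · intro hy
        obtain ⟨r, hr, rfl⟩ := hB hy
        refine ⟨r, Subgroup.mem_subgroupOf.mpr (Subgroup.mem_inf.mpr
          ⟨Subgroup.mem_subgroupOf.mp hr, mem_pull.mpr ⟨r.2, hy⟩⟩), rfl⟩
    have hker : B' ⊓ Subgroup.centralizer (Ω : Set G) = A ⊓ Subgroup.centralizer (Ω : Set G) := by
      ext g
      constructor
      · intro hg
        obtain ⟨h1, h2⟩ := Subgroup.mem_inf.mp hg
        exact Subgroup.mem_inf.mpr ⟨(Subgroup.mem_inf.mp h1).1, h2⟩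
      · intro hg
        obtain ⟨h1, h2⟩ := Subgroup.mem_inf.mp hg
        refine Subgroup.mem_inf.mpr ⟨Subgroup.mem_inf.mpr ⟨h1, mem_pull.mpr ⟨hA h1, ?_⟩⟩, h2⟩
        rw [(M.ker ⟨g, hA h1⟩).mpr h2]
        exact one_mem _
    have h1 := hb.1 B' inf_le_left
    rw [M.card_eq hB'R, M.card_eq hA, hmap, hker] at h1
    have h2 := M.card_fix hB'R
    have h3 := M.card_fix hA
    rw [hmap] at h2
    rw [h2, h3]
    have hpos : 0 < Nat.card (A ⊓ Subgroup.centralizer (Ω : Set G) : Subgroup G) := Nat.card_pos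
    refine Nat.le_of_mul_le_mul_right ?_ hpos
    calc _ = _ := by ring
      _ ≤ _ := h1
      _ = _ := by ring
  · rw [Subgroup.commutator_le]
    rintro _ ⟨r, hr, rfl⟩ _ ⟨s, hs, rfl⟩
    have hr2 := Subgroup.mem_subgroupOf.mp hr
    have hs2 := Subgroup.mem_subgroupOf.mp hs
    have h1 : ((⁅r, s⁆ : R) : G) ∈ Subgroup.centralizer (Ω : Set G) := by
      have := hb.2.1 (Subgroup.commutator_mem_commutator hr2 hs2)
      simpa [commutatorElement_def] using this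
    have h2 := (M.ker ⁅r, s⁆).mpr h1
    rw [map_commutatorElement] at h2
    rw [h2]
    exact one_mem _
  · rintro _ ⟨r, hr, rfl⟩
    have h1 := hb.2.2 _ (Subgroup.mem_subgroupOf.mp hr)
    have h2 := (M.ker (r ^ 2)).mpr h1
    rw [map_pow] at h2
    rw [h2]
    exact one_mem _

/-- The family in `G`. -/
theorem Model.isFF [Finite G] [Finite Γ] {F : Set (Subgroup Γ)} (hF : IsFFG ι.range φ.range F) :
    IsFF Ω R (pull φ '' F) := by
  have hcomeq : ∀ E ∈ F, ⁅ι.range, E⁆ = ((⁅Ω, pull φ E⁆ : Subgroup G).subgroupOf Ω).map ι :=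
    fun E hE => M.com_eq (hF.le E hE)
  refine ⟨M.norm, ?_, ?_, ?_, ?_, ?_, ?_, ?_, ?_, ?_⟩
  · rintro _ ⟨E, -, rfl⟩
    exact pull_le E
  · rintro _ ⟨E, -, rfl⟩ g hg
    obtain ⟨h1, h2⟩ := Subgroup.mem_inf.mp hg
    refine mem_pull.mpr ⟨h1, ?_⟩
    rw [(M.ker ⟨g, h1⟩).mpr h2]
    exact one_mem _
  · rintro r hr _ ⟨E, hE, rfl⟩
    refine ⟨_, hF.conj (φ ⟨r, hr⟩) ⟨_, rfl⟩ E hE, ?_⟩
    ext x
    constructor
    · rw [mem_pull]
      rintro ⟨h1, y, hy, hye⟩
      have hm : r⁻¹ * x * r ∈ R := by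
        have := mul_mem (mul_mem (inv_mem hr) h1) hr
        exact this
      refine ⟨r⁻¹ * x * r, mem_pull.mpr ⟨hm, ?_⟩, ?_⟩
      · have e1 : φ ⟨r⁻¹ * x * r, hm⟩ = (φ ⟨r, hr⟩)⁻¹ * φ ⟨x, h1⟩ * φ ⟨r, hr⟩ := by
          rw [← map_inv, ← map_mul, ← map_mul]
          rfl
        rw [e1, ← hye]
        simpa [mul_assoc] using hy
      · simp only [MulEquiv.coe_toMonoidHom, MulAut.conj_apply]
        group
    · rintro ⟨z, hz, rfl⟩
      obtain ⟨h1, h2⟩ := mem_pull.mp hz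
      simp only [MulEquiv.coe_toMonoidHom, MulAut.conj_apply]
      have hm : r * z * r⁻¹ ∈ R := mul_mem (mul_mem hr h1) (inv_mem hr)
      refine mem_pull.mpr ⟨hm, φ ⟨z, h1⟩, h2, ?_⟩
      simp only [MulEquiv.coe_toMonoidHom, MulAut.conj_apply]
      rw [← map_inv, ← map_mul, ← map_mul]
      rfl
  · rintro _ ⟨E, hE, rfl⟩
    obtain ⟨e⟩ := hF.iso E hE
    let ρ : pull φ E →* E := (φ.comp (Subgroup.inclusion (pull_le E))).codRestrict E
      (fun g => (mem_pull.mp g.2).2)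
    refine ⟨e.toMonoidHom.comp ρ, ?_, ?_⟩
    · intro y
      obtain ⟨z, rfl⟩ := e.surjective y
      obtain ⟨r, hr1, hr2⟩ := exists_pull_of_le (hF.le E hE) z.2
      refine ⟨⟨r, hr2⟩, ?_⟩
      simp only [MonoidHom.comp_apply, MulEquiv.coe_toMonoidHom]
      congr 1
      exact Subtype.ext hr1
    · intro g
      simp only [MonoidHom.comp_apply, MulEquiv.coe_toMonoidHom, map_eq_one_iff _ e.injective]
      constructor
      · intro h
        have : φ (Subgroup.inclusion (pull_le E) g) = 1 := congrArg Subtype.val h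
        exact (M.ker _).mp this
      · intro h
        exact Subtype.ext ((M.ker (Subgroup.inclusion (pull_le E) g)).mpr h)
  · rintro _ ⟨E, hE, rfl⟩
    rw [← M.card_map_of_le (M.com_le E), ← hcomeq E hE]
    exact hF.card_com E hE
  · rintro _ ⟨E, hE, rfl⟩
    have h1 := hF.split E hE
    have hf := M.fix_eq (pull_le (φ := φ) E)
    rw [map_pull M (hF.le E hE)] at hf
    rw [hcomeq E hE, hf, ← Subgroup.map_sup, MonoidHom.range_eq_map] at h1
    have h3 := Subgroup.map_injective M.inj h1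
    apply le_antisymm (sup_le (M.com_le E) inf_le_left)
    intro v hv
    have h4 : (⟨v, hv⟩ : Ω) ∈ (⁅Ω, pull φ E⁆ : Subgroup G).subgroupOf Ω ⊔
        (Ω ⊓ Subgroup.centralizer (pull φ E : Set G) : Subgroup G).subgroupOf Ω := h3 ▸ Subgroup.mem_top _
    have h5 := Subgroup.mem_map_of_mem Ω.subtype h4
    rw [Subgroup.map_sup, Subgroup.map_subgroupOf_eq_of_le (M.com_le E),
      Subgroup.map_subgroupOf_eq_of_le inf_le_left] at h5
    exact h5
  · rintro _ ⟨E, hE, rfl⟩ _ ⟨E', hE', rfl⟩ hne e he e' he'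
    have hne' : E ≠ E' := fun h => hne (h ▸ rfl)
    obtain ⟨h1, h2⟩ := mem_pull.mp he
    obtain ⟨h3, h4⟩ := mem_pull.mp he'
    have h5 := hF.comm E hE E' hE' hne' _ h2 _ h4
    have h6 := (M.ker (⟨e, h1⟩ * ⟨e', h3⟩ * (⟨e, h1⟩)⁻¹ * (⟨e', h3⟩)⁻¹)).mp (by
      rw [map_mul, map_mul, map_mul, map_inv, map_inv]
      exact h5)
    simpa using h6
  · rintro _ ⟨E, hE, rfl⟩ _ ⟨E', hE', rfl⟩ hne
    have hne' : E ≠ E' := fun h => hne (h ▸ rfl)
    rw [eq_bot_iff]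
    intro v hv
    obtain ⟨h1, h2⟩ := Subgroup.mem_inf.mp hv
    have hvΩ := M.com_le E h1
    have h3 : ι ⟨v, hvΩ⟩ ∈ ⁅ι.range, E⁆ ⊓ ⁅ι.range, E'⁆ := by
      refine Subgroup.mem_inf.mpr ⟨?_, ?_⟩
      · rw [hcomeq E hE]
        exact ⟨⟨v, hvΩ⟩, Subgroup.mem_subgroupOf.mpr h1, rfl⟩
      · rw [hcomeq E' hE']
        exact ⟨⟨v, hvΩ⟩, Subgroup.mem_subgroupOf.mpr h2, rfl⟩
    rw [hF.indep E hE E' hE' hne', Subgroup.mem_bot, map_eq_one_iff _ M.inj] at h3
    exact Subgroup.mem_bot.mpr (congrArg Subtype.val h3)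
  · intro A hA hb
    have hbest := M.best hA hb
    have hle : (A.subgroupOf R).map φ ≤ φ.range := Subgroup.map_le_range _ _
    have hgen := hF.gen _ hle hbest
    have key : ∀ y ∈ Subgroup.closure {b | b ∈ (A.subgroupOf R).map φ ∧ ∃ E ∈ F, b ∈ E},
        ∃ r : R, φ r = y ∧ (r : G) ∈ Subgroup.closure ({b | b ∈ A ∧ ∃ E ∈ pull φ '' F, b ∈ E} ∪
          (R ⊓ Subgroup.centralizer (Ω : Set G) : Subgroup G)) := by
      intro y hy
      induction hy using Subgroup.closure_induction with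
      | mem b hb =>
        obtain ⟨⟨r, hr, rfl⟩, E, hE, hbE⟩ := hb
        exact ⟨r, rfl, Subgroup.subset_closure (Or.inl ⟨Subgroup.mem_subgroupOf.mp hr, pull φ E,
          ⟨E, hE, rfl⟩, mem_pull.mpr ⟨r.2, hbE⟩⟩)⟩
      | one => exact ⟨1, map_one _, one_mem _⟩
      | mul x y _ _ hx hy =>
        obtain ⟨r, rfl, hr⟩ := hx
        obtain ⟨s, rfl, hs⟩ := hy
        exact ⟨r * s, map_mul _ _ _, mul_mem hr hs⟩
      | inv x _ hx =>
        obtain ⟨r, rfl, hr⟩ := hx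
        exact ⟨r⁻¹, map_inv _ _, inv_mem hr⟩
    intro a ha
    obtain ⟨r, hr, hrc⟩ := key _ (hgen ⟨⟨a, hA ha⟩, Subgroup.mem_subgroupOf.mpr ha, rfl⟩)
    have h1 := (M.ker (r⁻¹ * ⟨a, hA ha⟩)).mp (by
      rw [map_mul, map_inv, hr, inv_mul_cancel])
    have h2 : (r : G)⁻¹ * a ∈ Subgroup.closure ({b | b ∈ A ∧ ∃ E ∈ pull φ '' F, b ∈ E} ∪
        (R ⊓ Subgroup.centralizer (Ω : Set G) : Subgroup G)) :=
      Subgroup.subset_closure (Or.inr (Subgroup.mem_inf.mpr ⟨mul_mem (inv_mem r.2) (hA ha), by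
        simpa using h1⟩))
    have h3 := mul_mem hrc h2
    simpa using h3

end Pull

/-! ### The holomorph -/

section Hol

variable {G : Type*} [Group G] {Ω R : Subgroup G}

theorem model_hol (hR : R ≤ Subgroup.normalizer (Ω : Set G)) :
    Model Ω R (SemidirectProduct.inl : Ω →* (Ω ⋊[MonoidHom.id (MulAut Ω)] MulAut Ω))
      ((SemidirectProduct.inr : MulAut Ω →* (Ω ⋊[MonoidHom.id (MulAut Ω)] MulAut Ω)).comp
        (Ω.normalizerMonoidHom.comp (Subgroup.inclusion hR))) := by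
  refine ⟨SemidirectProduct.inl_injective, ?_, ?_, hR⟩
  · intro r v h
    simp only [MonoidHom.comp_apply]
    rw [← map_inv, ← SemidirectProduct.inl_aut]
    congr 1
  · intro r
    simp only [MonoidHom.comp_apply]
    rw [map_eq_one_iff _ SemidirectProduct.inr_injective]
    constructor
    · intro h
      rw [Subgroup.mem_centralizer_iff]
      intro v hv
      have h1 : (Ω.normalizerMonoidHom (Subgroup.inclusion hR r)) ⟨v, hv⟩ = ⟨v, hv⟩ := by
        rw [h]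
        rfl
      have h2 : (r : G) * v * (r : G)⁻¹ = v := congrArg Subtype.val h1
      calc v * r = ((r : G) * v * (r : G)⁻¹) * r := by rw [h2]
        _ = r * v := by group
    · intro h
      rw [Subgroup.mem_centralizer_iff] at h
      ext v
      show (r : G) * v * (r : G)⁻¹ = v
      rw [← h v v.2]
      group

instance finite_hol [Finite Ω] : Finite (Ω ⋊[MonoidHom.id (MulAut Ω)] MulAut Ω) := by
  have : Finite (MulAut Ω) := Finite.of_injective (fun f : MulAut Ω => (f : Ω → Ω)) DFunLike.coe_injective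
  exact Finite.of_equiv _ SemidirectProduct.equivProd.symm

/-- **Failure of factorization in `G`**. -/
theorem exists_isFF [Finite G] (hΩ : IsElementaryAbelian 2 Ω) (hR : R ≤ Subgroup.normalizer (Ω : Set G))
    (hsol : Group.IsSolvable R)
    (hO : ∀ D : Subgroup G, D ≤ R → R ⊓ Subgroup.centralizer (Ω : Set G) ≤ D →
      (∀ r ∈ R, ∀ d ∈ D, r * d * r⁻¹ ∈ D) →
      (∀ d ∈ D, ∃ n : ℕ, d ^ 2 ^ n ∈ R ⊓ Subgroup.centralizer (Ω : Set G)) →
      D ≤ R ⊓ Subgroup.centralizer (Ω : Set G)) :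
    ∃ F, IsFF Ω R F := by
  have M := model_hol hR
  obtain ⟨F, hF⟩ := exists_isFFG (M.setup2 hΩ hsol hO)
  exact ⟨_, M.isFF hF⟩

end Hol

end Cfsg.Agent.Lib.Amalgam.FFExists
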