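import Mathlib
import Cfsg.Agent.Lib.Amalgam.JLocal
import Cfsg.Agent.Lib.Amalgam.FFExists

/-!
# `J(T)`-components inside members of `ℒ(T)`: main statements
-/

set_option autoImplicit false

namespace Cfsg.Agent.Lib.Amalgam.JMain

open Cfsg Cfsg.Agent.Lib.PGroup.ThompsonG Cfsg.Agent.Lib.Amalgam.JComp Cfsg.Agent.Lib.Amalgam.JLocal
open Cfsg.Agent.Lib.Amalgam.FFLocal
open Cfsg.Agent.Lib.Amalgam.Vertex (conj_mem_pCoreOf pCoreOf_le le_normalizer_pCoreOf)

variable {G : Type*} [Group G] [Finite G] {T L K : Subgroup G}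

/-- `O₂(L) ≠ 1`. -/
theorem core_ne_bot (hT : T ≠ ⊥) (hc : Subgroup.centralizer (pCoreOf 2 L : Set G) ≤ pCoreOf 2 L) :
    pCoreOf 2 L ≠ ⊥ := by
  intro hbot
  rw [hbot] at hc
  apply hT
  rw [eq_bot_iff]
  intro t _
  exact hc (by
    rw [Subgroup.mem_centralizer_iff]
    intro h hh
    have : h = 1 := hh
    simp [this])

/-- `L` is solvable. -/
theorem solvable_of_core (hN : ∀ N : Subgroup G, IsTwoLocal N → Group.IsSolvable N)
    (hT : IsPGroup 2 T) (hL : IsSylowTwoIn T L) (hne : pCoreOf 2 L ≠ ⊥) : Group.IsSolvable L := by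
  have hP : IsPGroup 2 (pCoreOf 2 L) := IsPGroup.to_le hT (pCoreOf_le_of_sylow hL)
  have hloc : IsTwoLocal (Subgroup.normalizer (pCoreOf 2 L : Set G)) := ⟨_, hP, hne, rfl⟩
  have hsol : Group.IsSolvable (Subgroup.normalizer (pCoreOf 2 L : Set G)) := hN _ hloc
  have hle : L ≤ Subgroup.normalizer (pCoreOf 2 L : Set G) := le_normalizer_pCoreOf
  exact Group.isSolvable_of_isSolvable_injective (f := Subgroup.inclusion hle) (Subgroup.inclusion_injective hle)

omit [Finite G] in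
/-- `L ∈ ℒ(T)` gives the `L`-level set-up. -/
theorem lSetup_of (hZ : ZNHyp G) (hLT : L ∈ jOvergroups T) : LSetup T L := ⟨hLT.1, hLT.2.2, hZ⟩

omit [Finite G] in
theorem om_ea : IsElementaryAbelian 2 (omL L) := by
  refine ⟨⟨⟨?_⟩⟩, fun a ha => om_sq ha⟩
  rintro ⟨a, ha⟩ ⟨b, hb⟩
  exact Subtype.ext (om_comm (om_le_core ha) hb)

/-- The family `F` attached to `L ∈ ℒ(T)`. -/
theorem exists_family (hN : ∀ N : Subgroup G, IsTwoLocal N → Group.IsSolvable N) (hZ : ZNHyp G)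
    (hT1 : T ≠ ⊥) (hLT : L ∈ jOvergroups T) : ∃ F, IsFF (omL L) L F := by
  have hS := lSetup_of hZ hLT
  have hsol := solvable_of_core hN hLT.1.2.1 hLT.1 (core_ne_bot hT1 hLT.2.2)
  refine Cfsg.Agent.Lib.Amalgam.FFExists.exists_isFF om_ea ?_ hsol ?_
  · intro l hl
    rw [Subgroup.mem_normalizer_iff]
    intro v
    refine ⟨fun hv => conj_mem_om hl hv, fun hv => ?_⟩
    have := conj_mem_om (inv_mem hl) hv
    simpa [mul_assoc] using this
  · intro D hDL hCD hDn hD2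
    exact hS.le_cL_of_two hDL hCD hDn hD2

/-- The set-up for a `J(T)`-component. -/
theorem exists_kSetup (hL : IsCharacteristicTwoType G)
    (hN : ∀ N : Subgroup G, IsTwoLocal N → Group.IsSolvable N) (hZ : ZNHyp G) (hT : IsPGroup 2 T)
    (hT1 : T ≠ ⊥) (hLT : L ∈ jOvergroups T) (hK : IsJComponent T K) (hKL : K ≤ L) :
    ∃ F, KSetup T L K F := by
  obtain ⟨F, hF⟩ := exists_family hN hZ hT1 hLT
  refine ⟨F, lSetup_of hZ hLT, hLT.2.1, hK, hKL, ?_, hF⟩
  refine Cfsg.Agent.S2941.result hL hN hZ T hT hT1 K hK _ ?_ ?_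
  · refine le_trans (sup_le hKL ?_) le_normalizer_pCoreOf
    exact (thompsonSubgroupOf_le_self T).trans hLT.1.1
  · exact (pCoreOf_le_of_sylow hLT.1).trans
      (Subgroup.le_normalizer.trans (normalizer_le_normalizer_thompson T))

/-- `K` is subnormal in `L`. -/
theorem subnormal (hL : IsCharacteristicTwoType G)
    (hN : ∀ N : Subgroup G, IsTwoLocal N → Group.IsSolvable N) (hZ : ZNHyp G) (hT : IsPGroup 2 T)
    (hT1 : T ≠ ⊥) (hLT : L ∈ jOvergroups T) (hK : IsJComponent T K) (hKL : K ≤ L) :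
    (K.subgroupOf L).IsSubnormal := by
  obtain ⟨F, hF⟩ := exists_kSetup hL hN hZ hT hT1 hLT hK hKL
  exact hF.subnormal

/-- If `g ∈ L` moves a nonidentity element of `W` into `W`, it normalizes `K`. -/
theorem normalizer_of_meet (hL : IsCharacteristicTwoType G)
    (hN : ∀ N : Subgroup G, IsTwoLocal N → Group.IsSolvable N) (hZ : ZNHyp G) (hT : IsPGroup 2 T)
    (hT1 : T ≠ ⊥) (hLT : L ∈ jOvergroups T) (hK : IsJComponent T K) (hKL : K ≤ L) {g w : G}
    (hg : g ∈ L) (hw : w ∈ wOf K) (hw1 : w ≠ 1) (hgw : g * w * g⁻¹ ∈ wOf K) :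
    g ∈ Subgroup.normalizer (K : Set G) := by
  obtain ⟨F, hF⟩ := exists_kSetup hL hN hZ hT hT1 hLT hK hKL
  exact hF.normalizer_of_meet hg hw hw1 hgw

end Cfsg.Agent.Lib.Amalgam.JMain
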