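import Mathlib
import Cfsg.Agent.Lib.Amalgam.JMain

/-!
# The family `𝒦₀(T)`: `N_G(K) = N_G(W_K)`
-/

set_option autoImplicit false

namespace Cfsg.Agent.Lib.Amalgam.JZero

open Cfsg Cfsg.Agent.Lib.PGroup.ThompsonG Cfsg.Agent.Lib.Amalgam.JComp Cfsg.Agent.Lib.Amalgam.JLocal
open Cfsg.Agent.Lib.Amalgam.Vertex (conj_mem_pCoreOf pCoreOf_le le_normalizer_pCoreOf)

variable {G : Type*} [Group G] [Finite G]

/-- A 2-subgroup of `H` lies in a Sylow 2-subgroup of `H`. -/
theorem exists_sylowIn {H J : Subgroup G} (hJH : J ≤ H) (hJ : IsPGroup 2 J) :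
    ∃ S, IsSylowTwoIn S H ∧ J ≤ S := by
  obtain ⟨P, hP⟩ := (isP_subgroupOf hJ H).exists_le_sylow
  refine ⟨(P : Subgroup H).map H.subtype, ⟨Subgroup.map_subtype_le _, ?_, ?_⟩, ?_⟩
  · exact IsPGroup.iff_card.mpr (by
      rw [card_map_subtype]
      exact IsPGroup.iff_card.mp P.isPGroup')
  · have e : ((P : Subgroup H).map H.subtype).relIndex H = (P : Subgroup H).index := by
      show (((P : Subgroup H).map H.subtype).comap H.subtype).index = _
      rw [Subgroup.comap_map_eq_self_of_injective H.subtype_injective]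
    rw [e, Nat.odd_iff]
    have := P.not_dvd_index
    omega
  · intro j hj
    exact ⟨⟨j, hJH hj⟩, hP (Subgroup.mem_subgroupOf.mpr hj), rfl⟩

/-- Being a Sylow subgroup is stable under conjugation. -/
theorem isSylowTwoIn_map_conj {S L : Subgroup G} (g : G) (h : IsSylowTwoIn S L) :
    IsSylowTwoIn (S.map (MulAut.conj g).toMonoidHom) (L.map (MulAut.conj g).toMonoidHom) := by
  refine ⟨Subgroup.map_mono h.1, IsPGroup.iff_card.mpr ?_, ?_⟩
  · rw [card_map_conj]
    exact IsPGroup.iff_card.mp h.2.1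
  · rw [Subgroup.relIndex_map_map_of_injective (f := (MulAut.conj g).toMonoidHom) _ _ (MulAut.conj g).injective]
    exact h.2.2

omit [Finite G] in
/-- `J(T)`-components depend only on `J(T)`. -/
theorem isJComponent_congr {T T' K : Subgroup G}
    (hJ : thompsonSubgroupOf 2 T = thompsonSubgroupOf 2 T') (hK : IsJComponent T K) : IsJComponent T' K := by
  unfold IsJComponent at hK ⊢
  rwa [hJ] at hK

/-- Conjugating `T` by an element normalizing `K`. -/
theorem isJComponent_conj {T K : Subgroup G} {h : G} (hh : h ∈ Subgroup.normalizer (K : Set G))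
    (hK : IsJComponent T K) : IsJComponent (T.map (MulAut.conj h).toMonoidHom) K := by
  obtain ⟨h1, h2, h3, h4, h5, h6⟩ := hK
  have hKh : K.map (MulAut.conj h).toMonoidHom = K := map_conj_eq_of_mem_normalizer hh
  refine ⟨h1, ?_, h3, ?_, h5, h6⟩
  · rw [← map_conj_thompsonSubgroupOf]
    nth_rewrite 1 [← hKh]
    rw [← Subgroup.map_commutator, h2, hKh]
  · intro S hS hJS
    rw [← map_conj_thompsonSubgroupOf] at hS hJS ⊢
    have hsup : K ⊔ (thompsonSubgroupOf 2 T).map (MulAut.conj h).toMonoidHom =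
        (K ⊔ thompsonSubgroupOf 2 T).map (MulAut.conj h).toMonoidHom := by
      rw [Subgroup.map_sup, hKh]
    rw [hsup] at hS
    have hS' := isSylowTwoIn_map_conj h⁻¹ hS
    have e1 : ∀ X : Subgroup G, (X.map (MulAut.conj h).toMonoidHom).map (MulAut.conj h⁻¹).toMonoidHom = X := by
      intro X
      have := map_conj_map_conj_inv h⁻¹ X
      rwa [inv_inv] at this
    rw [e1] at hS'
    have hJS' : thompsonSubgroupOf 2 T ≤ S.map (MulAut.conj h⁻¹).toMonoidHom := by
      have := Subgroup.map_mono (f := (MulAut.conj h⁻¹).toMonoidHom) hJS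
      rwa [e1] at this
    have h7 := h4 _ hS' hJS'
    have h8 := congrArg (Subgroup.map (MulAut.conj h).toMonoidHom) h7
    rw [map_conj_thompsonSubgroupOf, map_conj_map_conj_inv] at h8
    exact h8

variable {T K : Subgroup G}

/-- `W_K` is a 2-group. -/
theorem w_isP (hK : IsJComponent T K) : IsPGroup 2 (wOf K) :=
  IsPGroup.iff_card.mpr ⟨2, by rw [card_w hK]; norm_num⟩

theorem w_ne_bot (hK : IsJComponent T K) : wOf K ≠ ⊥ := by
  obtain ⟨w, hw, hw1⟩ := exists_ne_one (card_w hK)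
  intro h
  rw [h] at hw
  exact hw1 hw

theorem twoLocal_w (hK : IsJComponent T K) : IsTwoLocal (Subgroup.normalizer (wOf K : Set G)) :=
  ⟨_, w_isP hK, w_ne_bot hK, rfl⟩

/-- `N(K) ≤ N(W_K)`. -/
theorem normalizer_le_w : Subgroup.normalizer (K : Set G) ≤ Subgroup.normalizer (wOf K : Set G) :=
  fun _ hg => mem_normalizer_of_conj_le fun _ hw => conj_mem_wOf hg hw

theorem sup_le_w (hK : IsJComponent T K) :
    K ⊔ thompsonSubgroupOf 2 T ≤ Subgroup.normalizer (wOf K : Set G) :=
  (sup_le_N hK).trans normalizer_le_w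

theorem J_ne_bot (hK : IsJComponent T K) : thompsonSubgroupOf 2 T ≠ ⊥ := by
  obtain ⟨j, hj, w, hw, hjw⟩ := exists_move hK
  intro h
  rw [h, Subgroup.mem_bot] at hj
  apply hjw
  rw [hj]
  group

/-- The normalizer of `W_K` belongs to `ℒ(S)`, for a Sylow subgroup `S` with the same Thompson subgroup. -/
theorem jOvergroup_w (hL : IsCharacteristicTwoType G)
    (hN : ∀ N : Subgroup G, IsTwoLocal N → Group.IsSolvable N) (hZ : ZNHyp G) (hT : IsPGroup 2 T)
    (hT1 : T ≠ ⊥) (hK : IsJComponent T K) {S : Subgroup G}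
    (hS : IsSylowTwoIn S (Subgroup.normalizer (wOf K : Set G)))
    (hJS : thompsonSubgroupOf 2 S = thompsonSubgroupOf 2 T) :
    Subgroup.normalizer (wOf K : Set G) ∈ jOvergroups S := by
  refine ⟨hS, ?_, ?_⟩
  · intro hle
    rw [hJS] at hle
    set H := Subgroup.normalizer (wOf K : Set G) with hH
    have hQp : IsPGroup 2 (pCoreOf 2 H) := IsPGroup.to_le hS.2.1 (pCoreOf_le_of_sylow hS)
    have hKH : K ≤ H := le_sup_left.trans (sup_le_w hK)
    have hKQ : K ⊔ thompsonSubgroupOf 2 T ≤ Subgroup.normalizer (pCoreOf 2 H : Set G) :=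
      (sup_le_w hK).trans le_normalizer_pCoreOf
    have hQJ : pCoreOf 2 H ≤ Subgroup.normalizer (thompsonSubgroupOf 2 T : Set G) := by
      rw [← hJS]
      exact (pCoreOf_le_of_sylow hS).trans
        (Subgroup.le_normalizer.trans (normalizer_le_normalizer_thompson S))
    have hQK := Cfsg.Agent.S2941.result hL hN hZ T hT hT1 K hK _ hKQ hQJ
    have hcent := centralizes_w hK hQp hQK (le_sup_left.trans hKQ)
    obtain ⟨j, hj, w, hw, hjw⟩ := exists_move hK
    exact hjw (hcent j (hle hj) w hw)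
  · intro c hc
    set H := Subgroup.normalizer (wOf K : Set G) with hH
    have hWQ : wOf K ≤ pCoreOf 2 H :=
      le_pCoreOf Subgroup.le_normalizer (w_isP hK) fun l hl q hq =>
        (Subgroup.mem_normalizer_iff.mp hl q).mp hq
    have hcH : c ∈ H := by
      refine mem_normalizer_of_conj_le fun w hw => ?_
      have := Subgroup.mem_centralizer_iff.mp hc w (hWQ hw)
      rw [← this]
      simpa using hw
    have h1 : (⟨c, hcH⟩ : H) ∈ Subgroup.centralizer (pCore 2 H : Set H) := by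
      rw [Subgroup.mem_centralizer_iff]
      intro q hq
      apply Subtype.ext
      exact Subgroup.mem_centralizer_iff.mp hc q ⟨q, hq, rfl⟩
    exact ⟨_, hL.2 _ (w_isP hK) (w_ne_bot hK) h1, rfl⟩

variable (hL : IsCharacteristicTwoType G) (hN : ∀ N : Subgroup G, IsTwoLocal N → Group.IsSolvable N)
  (hZ : ZNHyp G) (hT : IsPGroup 2 T) (hT1 : T ≠ ⊥)
include hL hN hZ hT hT1

/-- `N(W_K) ≤ N(K)`. -/
theorem w_le_normalizer (hK : K ∈ jComponentsZero T) :
    Subgroup.normalizer (wOf K : Set G) ≤ Subgroup.normalizer (K : Set G) := by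
  have hJH := le_sup_right.trans (sup_le_w hK.1)
  obtain ⟨S, hS, hJS⟩ := exists_sylowIn hJH (thompson_isP hT)
  have hJ := hK.2 S hJS hS
  have hK' : IsJComponent S K := isJComponent_congr hJ.symm hK.1
  have hLT := jOvergroup_w hL hN hZ hT hT1 hK.1 hS hJ
  have hS1 : S ≠ ⊥ := by
    intro h
    apply J_ne_bot hK.1
    rw [eq_bot_iff, ← h]
    exact hJS
  intro g hg
  obtain ⟨w, hw, hw1⟩ := exists_ne_one (card_w hK.1)
  exact JMain.normalizer_of_meet hL hN hZ hS.2.1 hS1 hLT hK' (le_sup_left.trans (sup_le_w hK.1)) hg hw hw1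
    ((Subgroup.mem_normalizer_iff.mp hg w).mp hw)

/-- `N(K) = N(W_K)`. -/
theorem normalizer_eq (hK : K ∈ jComponentsZero T) :
    Subgroup.normalizer (K : Set G) = Subgroup.normalizer (wOf K : Set G) :=
  le_antisymm normalizer_le_w (w_le_normalizer hL hN hZ hT hT1 hK)

omit hL hN hZ hT hT1 in
/-- A conjugate of `T` whose Thompson subgroup lies in a 2-group `S` with `J(S) = J(T)` has the same
Thompson subgroup. -/
theorem thompson_conj_eq {S : Subgroup G} {g : G} (hJS : thompsonSubgroupOf 2 S = thompsonSubgroupOf 2 T)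
    (hle : thompsonSubgroupOf 2 (T.map (MulAut.conj g).toMonoidHom) ≤ S) :
    thompsonSubgroupOf 2 (T.map (MulAut.conj g).toMonoidHom) = thompsonSubgroupOf 2 T := by
  have hg : gMaxEA 2 S = gMaxEA 2 T := gMaxEA_eq_of_thompson_eq hJS
  have h1 : thompsonSubgroupOf 2 (T.map (MulAut.conj g).toMonoidHom) ≤ thompsonSubgroupOf 2 T := by
    rw [thompsonSubgroupOf_le_iff]
    intro A hA
    have hAS : A ∈ gMaxEA 2 S := by
      refine ⟨(le_thompsonSubgroupOf hA).trans hle, hA.2.1, fun B hB hBe => ?_⟩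
      obtain ⟨A₀, hA₀⟩ := exists_mem_gMaxEA (p := 2) T
      have h2 : A₀ ∈ gMaxEA 2 S := hg ▸ hA₀
      have h3 := h2.2.2 B hB hBe
      have h4 := hA.2.2 _ (Subgroup.map_mono hA₀.1) (ea_map _ hA₀.2.1)
      rw [card_map_conj] at h4
      exact h3.trans h4
    rw [hg] at hAS
    exact le_thompsonSubgroupOf hAS
  refine Subgroup.eq_of_le_of_card_ge h1 ?_
  rw [← map_conj_thompsonSubgroupOf, card_map_conj]

/-- `K` is a `J(T^g)`-component whenever `J(T^g) ≤ N(W_K)`. -/
theorem isJComponent_of_le (hK : K ∈ jComponentsZero T) (g : G)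
    (hg : thompsonSubgroupOf 2 (T.map (MulAut.conj g).toMonoidHom) ≤ Subgroup.normalizer (wOf K : Set G)) :
    IsJComponent (T.map (MulAut.conj g).toMonoidHom) K := by
  have hJH := le_sup_right.trans (sup_le_w hK.1)
  obtain ⟨S, hS, hJS⟩ := exists_sylowIn hJH (thompson_isP hT)
  have hJ := hK.2 S hJS hS
  have hP : IsPGroup 2 (thompsonSubgroupOf 2 (T.map (MulAut.conj g).toMonoidHom)) := by
    rw [← map_conj_thompsonSubgroupOf]
    exact IsPGroup.iff_card.mpr (by
      rw [card_map_conj]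
      exact IsPGroup.iff_card.mp (thompson_isP hT))
  obtain ⟨l, hl, hl2⟩ := exists_conj_le hS hg hP
  -- `J(T^g)^{l⁻¹}` lies in `S`.
  have hT' : ((T.map (MulAut.conj g).toMonoidHom).map (MulAut.conj l⁻¹).toMonoidHom) =
      T.map (MulAut.conj (l⁻¹ * g)).toMonoidHom := by
    rw [Subgroup.map_map]
    congr 1
    ext x
    simp [MulAut.conj_apply, mul_assoc]
  have h1 : thompsonSubgroupOf 2 (T.map (MulAut.conj (l⁻¹ * g)).toMonoidHom) ≤ S := by
    rw [← hT', ← map_conj_thompsonSubgroupOf]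
    rintro _ ⟨q, hq, rfl⟩
    have := hl2 q hq
    simpa using this
  have h2 := thompson_conj_eq hJ h1
  -- `J(T^g) = J(T)^l = J(T^l)`.
  have h3 : thompsonSubgroupOf 2 (T.map (MulAut.conj l).toMonoidHom) =
      thompsonSubgroupOf 2 (T.map (MulAut.conj g).toMonoidHom) := by
    rw [← hT', ← map_conj_thompsonSubgroupOf] at h2
    have h4 := congrArg (Subgroup.map (MulAut.conj l).toMonoidHom) h2
    have h5 := map_conj_map_conj_inv l (thompsonSubgroupOf 2 (T.map (MulAut.conj g).toMonoidHom))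
    rw [h5, map_conj_thompsonSubgroupOf] at h4
    exact h4.symm
  exact isJComponent_congr h3 (isJComponent_conj (w_le_normalizer hL hN hZ hT hT1 hK hl) hK.1)

end Cfsg.Agent.Lib.Amalgam.JZero
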