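import Mathlib
import Cfsg.Agent.Lib.Amalgam.JZero
import Cfsg.Agent.Lib.Basic.PCore

/-!
# `K` subnormal in `⟨K, J(T)⟩`: `J(T)` normalizes `W_K`
-/

set_option autoImplicit false

namespace Cfsg.Agent.Lib.Amalgam.JSub

open Cfsg Cfsg.Agent.Lib.PGroup.ThompsonG Cfsg.Agent.Lib.Amalgam.JComp Cfsg.Agent.Lib.Amalgam.JLocal
open Cfsg.Agent.Lib.Amalgam.FFLocal Cfsg.Agent.Lib.Amalgam.JZero
open Cfsg.Agent.Lib.Amalgam.Vertex (conj_mem_pCoreOf pCoreOf_le le_normalizer_pCoreOf)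

section General

variable {Γ : Type*} [Group Γ]

/-- A normal 2-subgroup moves odd-order elements of a subnormal subgroup inside this subgroup. -/
theorem odd_conj_of_subnormal {Q U : Subgroup Γ} (hQn : Q.Normal) (hQ : IsPGroup 2 Q) (hU : U.IsSubnormal) :
    ∀ q ∈ Q, ∀ u ∈ U, Odd (orderOf u) → q * u * q⁻¹ ∈ U := by
  induction hU with
  | top => intro q _ u _ _; exact Subgroup.mem_top _
  | step H K' hle hK' hN ih =>
    intro q hq u hu hodd
    have h1 : q * u * q⁻¹ ∈ K' := ih q hq u (hle hu) hodd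
    have hk : q * u * q⁻¹ * u⁻¹ ∈ K' ⊓ Q := by
      refine Subgroup.mem_inf.mpr ⟨mul_mem h1 (inv_mem (hle hu)), ?_⟩
      have e : q * u * q⁻¹ * u⁻¹ = q * (u * q⁻¹ * u⁻¹) := by group
      rw [e]
      exact mul_mem hq (hQn.conj_mem _ (inv_mem hq) u)
    have hsup : q * u * q⁻¹ ∈ H ⊔ (K' ⊓ Q) := by
      have e : q * u * q⁻¹ = (q * u * q⁻¹ * u⁻¹) * u := by group
      rw [e]
      exact mul_mem (Subgroup.mem_sup_right hk) (Subgroup.mem_sup_left hu)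
    refine Cfsg.Agent.S2941.mem_of_odd_of_mem_sup (IsPGroup.to_le hQ inf_le_right) ?_ hsup ?_
    · intro j hj k hk
      obtain ⟨hj1, -⟩ := Subgroup.mem_inf.mp hj
      have := hN.conj_mem ⟨k, hle hk⟩ (Subgroup.mem_subgroupOf.mpr hk) ⟨j, hj1⟩
      exact Subgroup.mem_subgroupOf.mp this
    · have : orderOf (q * u * q⁻¹) = orderOf u := (MulAut.conj q).orderOf_eq u
      rwa [this]

theorem mem_of_coprime_pow {C : Subgroup Γ} {z : Γ} {a b : ℕ} (hab : Nat.Coprime a b) (ha : z ^ a ∈ C)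
    (hb : z ^ b ∈ C) : z ∈ C := by
  have h := Nat.gcd_eq_gcd_ab a b
  rw [hab.gcd_eq_one] at h
  have e : z = (z ^ a) ^ (Nat.gcdA a b) * (z ^ b) ^ (Nat.gcdB a b) := by
    rw [← zpow_natCast, ← zpow_natCast, ← zpow_mul, ← zpow_mul, ← zpow_add, ← h]
    simp
  rw [e]
  exact mul_mem (zpow_mem ha _) (zpow_mem hb _)

/-- The 2-part of an element modulo a subgroup. -/
theorem exists_two_part [Finite Γ] {C : Subgroup Γ} {d : Γ} {n : ℕ} (h : d ^ 2 ^ n ∈ C) :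
    ∃ d₂ ∈ Subgroup.zpowers d, ∃ c ∈ C, d = d₂ * c ∧ ∃ k : ℕ, d₂ ^ 2 ^ k = 1 := by
  obtain ⟨a, m, hm, hord⟩ := Nat.exists_eq_two_pow_mul_odd (orderOf_pos d).ne'
  have hcop : Nat.Coprime m (2 ^ n) := Nat.Coprime.pow_right n (Nat.coprime_two_right.mpr hm)
  have hb := Nat.gcd_eq_gcd_ab m (2 ^ n)
  rw [hcop.gcd_eq_one] at hb
  refine ⟨d ^ ((m : ℤ) * Nat.gcdA m (2 ^ n)), ⟨_, rfl⟩, (d ^ 2 ^ n) ^ (Nat.gcdB m (2 ^ n)), zpow_mem h _, ?_, a, ?_⟩
  · rw [← zpow_natCast d (2 ^ n), ← zpow_mul, ← zpow_add]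
    have : (m : ℤ) * Nat.gcdA m (2 ^ n) + ((2 ^ n : ℕ) : ℤ) * Nat.gcdB m (2 ^ n) = 1 := by
      rw [Nat.cast_one] at hb
      exact hb.symm
    rw [this, zpow_one]
  · rw [← zpow_natCast, ← zpow_mul]
    have e : (m : ℤ) * Nat.gcdA m (2 ^ n) * ((2 ^ a : ℕ) : ℤ) = ((orderOf d : ℕ) : ℤ) * Nat.gcdA m (2 ^ n) := by
      rw [hord]
      push_cast
      ring
    rw [e, zpow_mul, zpow_natCast, pow_orderOf_eq_one, one_zpow]

theorem sq_aux {t b : Γ} (ht : t⁻¹ = t) (hb : b⁻¹ = b) : (t * b) ^ 2 = (b * t * b⁻¹ * t⁻¹)⁻¹ := by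
  calc (t * b) ^ 2 = t * b * (t * b) := pow_two _
    _ = t⁻¹ * b⁻¹ * (t⁻¹ * b⁻¹) := by rw [ht, hb]
    _ = (b * t * b * t)⁻¹ := by group
    _ = (b * t * b⁻¹ * t⁻¹)⁻¹ := by rw [ht, hb]

/-- A fixed-point-free inner action on a finite subgroup is "surjective on commutators". -/
theorem surj_of_fpf [Finite Γ] {P : Subgroup Γ} {x : Γ} (hP : ∀ p ∈ P, x * p * x⁻¹ ∈ P)
    (hfpf : ∀ w ∈ P, x * w * x⁻¹ = w → w = 1) {w : Γ} (hw : w ∈ P) : ∃ v ∈ P, v * (x * v⁻¹ * x⁻¹) = w := by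
  have hf : ∀ v ∈ P, v * (x * v⁻¹ * x⁻¹) ∈ P := fun v hv => mul_mem hv (hP _ (inv_mem hv))
  let f : P → P := fun v => ⟨v * (x * (v : Γ)⁻¹ * x⁻¹), hf v v.2⟩
  have hinj : Function.Injective f := by
    intro a b hab
    have hab' : (a : Γ) * (x * (a : Γ)⁻¹ * x⁻¹) = b * (x * (b : Γ)⁻¹ * x⁻¹) := congrArg Subtype.val hab
    have hu : (b : Γ)⁻¹ * a ∈ P := mul_mem (inv_mem b.2) a.2
    have hfix : x * ((b : Γ)⁻¹ * a) * x⁻¹ = (b : Γ)⁻¹ * a := by
      calc x * ((b : Γ)⁻¹ * a) * x⁻¹ = (x * (b : Γ)⁻¹ * x⁻¹) * (x * (a : Γ)⁻¹ * x⁻¹)⁻¹ := by group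
        _ = (b : Γ)⁻¹ * a := by
          have e : (b : Γ)⁻¹ * a * (x * (a : Γ)⁻¹ * x⁻¹) = (b : Γ)⁻¹ * ((a : Γ) * (x * (a : Γ)⁻¹ * x⁻¹)) := by
            group
          rw [mul_inv_eq_iff_eq_mul, e, hab']
          group
    have h1 := hfpf _ hu hfix
    exact Subtype.ext (by
      rw [inv_mul_eq_one] at h1
      exact h1.symm)
  obtain ⟨v, hv⟩ := (Finite.injective_iff_surjective.mp hinj) ⟨w, hw⟩
  exact ⟨v, v.2, congrArg Subtype.val hv⟩

/-- An element of odd order with a nonidentity fixed point on a four-group centralizes it. -/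
theorem four_fix [Finite Γ] {P : Subgroup Γ} (h4 : Nat.card P = 4) (h2 : ∀ w ∈ P, w * w = 1) {x w : Γ}
    (hodd : Odd (orderOf x)) (hP : ∀ p ∈ P, x * p * x⁻¹ ∈ P) (hw : w ∈ P) (hw1 : w ≠ 1)
    (hfix : x * w * x⁻¹ = w) : ∀ v ∈ P, x * v * x⁻¹ = v := by
  obtain ⟨u, hu, hu1, huw⟩ := exists_third h4 w
  obtain ⟨m, hm⟩ := hodd
  have hxu : x * u * x⁻¹ = u := by
    rcases conj_cases h4 h2 hw hu hw1 hu1 huw.symm hP hfix with h | h
    · exact h
    · exfalso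
      have h2' : Commute (x ^ 2) u := by
        have : x ^ 2 * u * (x ^ 2)⁻¹ = u := by
          calc x ^ 2 * u * (x ^ 2)⁻¹ = x * (x * u * x⁻¹) * x⁻¹ := by rw [sq]; group
            _ = x * (w * u) * x⁻¹ := by rw [h]
            _ = (x * w * x⁻¹) * (x * u * x⁻¹) := by group
            _ = u := by
              rw [hfix, h, ← mul_assoc, h2 w hw, one_mul]
        exact mul_inv_eq_iff_eq_mul.mp this
      have h3 : Commute ((x ^ 2) ^ (m + 1)) u := h2'.pow_left _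
      have h4' : (x ^ 2) ^ (m + 1) = x := by
        rw [← pow_mul]
        have : 2 * (m + 1) = orderOf x + 1 := by omega
        rw [this, pow_succ, pow_orderOf_eq_one, one_mul]
      rw [h4'] at h3
      have h5 : x * u * x⁻¹ = u := mul_inv_eq_iff_eq_mul.mpr h3
      rw [h5] at h
      apply hw1
      have : u * 1 = w * u := by simpa using h
      have h6 : 1 * u = w * u := by simpa using this
      exact (mul_right_cancel h6).symm
  intro v hv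
  rcases four_cases h4 h2 hw hu hw1 hu1 huw.symm v hv with rfl | rfl | rfl | rfl
  · simp
  · exact hfix
  · exact hxu
  · calc x * (w * u) * x⁻¹ = (x * w * x⁻¹) * (x * u * x⁻¹) := by group
      _ = w * u := by rw [hfix, hxu]

end General

variable {G : Type*} [Group G] [Finite G]

/-- The hypotheses: `K` is subnormal in `R`. -/
structure RSetup (T₂ K R : Subgroup G) : Prop where
  hK : IsJComponent T₂ K
  hKR : K ≤ R
  hsn : (K.subgroupOf R).IsSubnormal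

variable {T₂ K R : Subgroup G}

namespace RSetup

variable (h : RSetup T₂ K R)
include h

theorem core_conj {q u : G} (hq : q ∈ pCoreOf 2 R) (hu : u ∈ K) (hodd : Odd (orderOf u)) :
    q * u * q⁻¹ ∈ K := by
  obtain ⟨q', hq', rfl⟩ := hq
  have h1 := odd_conj_of_subnormal (Cfsg.Agent.Lib.Basic.PCore.pCore_normal 2 R)
    (Cfsg.Agent.Lib.Basic.PCore.pCore_isPGroup 2) h.hsn q' hq' ⟨u, h.hKR hu⟩ (Subgroup.mem_subgroupOf.mpr hu)
    (by rw [Subgroup.orderOf_mk]; exact hodd)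
  exact Subgroup.mem_subgroupOf.mp h1

/-- `O₂(R)` normalizes `K`. -/
theorem core_le_normalizer : pCoreOf 2 R ≤ Subgroup.normalizer (K : Set G) := by
  intro q hq
  refine mem_normalizer_of_conj_le fun k hk => ?_
  rw [← h.hK.1] at hk
  induction hk using Subgroup.closure_induction with
  | mem y hy => exact h.core_conj hq hy.1 hy.2
  | one => simp [one_mem]
  | mul a b _ _ ha hb =>
    have e : q * (a * b) * q⁻¹ = (q * a * q⁻¹) * (q * b * q⁻¹) := by group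
    rw [e]
    exact mul_mem ha hb
  | inv a _ ha =>
    have e : q * a⁻¹ * q⁻¹ = (q * a * q⁻¹)⁻¹ := by group
    rw [e]
    exact inv_mem ha

/-- `O₂(K) ≤ O₂(R)`. -/
theorem Y_le_core : pCoreOf 2 K ≤ pCoreOf 2 R := by
  have hsub : ((pCoreOf 2 K).subgroupOf R).IsSubnormal :=
    subnormal_step core_le h.hsn fun b hb a ha => conj_mem_pCoreOf hb ha
  have hle := Cfsg.Agent.Lib.Basic.PCore.le_pCore_of_subnormal hsub (isP_subgroupOf core_isP R)
  intro y hy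
  exact ⟨⟨y, h.hKR (core_le hy)⟩, hle (Subgroup.mem_subgroupOf.mpr hy), rfl⟩

theorem core_isP_R : IsPGroup 2 (pCoreOf 2 R) := core_isP

/-- `O₂(R)` centralizes `W`. -/
theorem core_comm_w {q w : G} (hq : q ∈ pCoreOf 2 R) (hw : w ∈ wOf K) : q * w * q⁻¹ = w :=
  centralizes_w h.hK core_isP h.core_le_normalizer (fun _ hk => le_normalizer_pCoreOf (h.hKR hk)) q hq w hw

/-- `W ≤ Ω₁(Z(O₂(R)))`. -/
theorem w_le_om : wOf K ≤ omL R := by
  intro w hw
  refine mem_omegaCenterOf_iff.mpr ⟨h.Y_le_core (w_le_core hw), fun u hu => ?_, ?_⟩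
  · have := h.core_comm_w hu hw
    rwa [mul_inv_eq_iff_eq_mul] at this
  · rw [pow_two]
    exact sq_w h.hK w hw

/-- `[Ω, K] ≤ W`, where `Ω = Ω₁(Z(O₂(R)))`. -/
theorem comm_mem_w {v x : G} (hv : v ∈ omL R) (hx : x ∈ K) : v * x * v⁻¹ * x⁻¹ ∈ wOf K := by
  by_cases hxY : x ∈ pCoreOf 2 K
  · have hc : x * v = v * x := om_comm (h.Y_le_core hxY) hv
    have e : v * x * v⁻¹ * x⁻¹ = 1 := by
      rw [← hc]
      group
    rw [e]
    exact one_mem _
  · have hxR := h.hKR hx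
    have hv2 : v⁻¹ = v := inv_eq_of_mul_eq_one_left (by rw [← pow_two]; exact om_sq hv)
    set v₁ := x * v * x⁻¹ with hv₁
    set v₂ := x * v₁ * x⁻¹ with hv₂
    have hv₁O : v₁ ∈ omL R := conj_mem_om hxR hv
    have hv₂O : v₂ ∈ omL R := conj_mem_om hxR hv₁O
    have hv₁2 : v₁ * v₁ = 1 := by rw [← pow_two]; exact om_sq hv₁O
    have hcomm : ∀ {a b : G}, a ∈ omL R → b ∈ omL R → a * b = b * a := fun ha hb =>
      om_comm (om_le_core ha) hb
    have hx3 : x ^ 3 ∈ pCoreOf 2 K := K_cube h.hK hx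
    have hv3 : x * v₂ * x⁻¹ = v := by
      have hc : x ^ 3 * v = v * x ^ 3 := om_comm (h.Y_le_core hx3) hv
      have e : x * v₂ * x⁻¹ = x ^ 3 * v * (x ^ 3)⁻¹ := by
        rw [hv₂, hv₁, pow_three]
        group
      rw [e, hc]
      group
    set u := v * x * v⁻¹ * x⁻¹ with hu
    have hu1 : u = v * v₁ := by
      rw [hu, hv₁, hv2]
      group
    have huO : u ∈ omL R := hu1 ▸ mul_mem hv hv₁O
    have huK : u ∈ K := by
      have h1 : v * x * v⁻¹ ∈ K :=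
        (Subgroup.mem_normalizer_iff.mp (h.core_le_normalizer (om_le_core hv)) x).mp hx
      exact mul_mem h1 (inv_mem hx)
    have huY : u ∈ pCoreOf 2 K :=
      mem_core_of_two_element h.hK huK ⟨1, by simpa using om_sq huO⟩
    have huO2 : u ∈ omegaCenterOf (pCoreOf 2 K) := by
      refine mem_omegaCenterOf_iff.mpr ⟨huY, fun y hy => ?_, om_sq huO⟩
      exact om_comm (h.Y_le_core hy) huO
    have h1 := Subgroup.commutator_mem_commutator huO2 hx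
    rw [commutatorElement_def] at h1
    have hu2 : u⁻¹ = u := inv_eq_of_mul_eq_one_left (by rw [← pow_two]; exact om_sq huO)
    have e1 : u * x * u⁻¹ * x⁻¹ = v * v₂ := by
      have e2 : u * x * u⁻¹ * x⁻¹ = u * (x * u * x⁻¹) := by
        rw [hu2]
        group
      have e3 : x * u * x⁻¹ = v₁ * v₂ := by
        rw [hu1]
        calc x * (v * v₁) * x⁻¹ = (x * v * x⁻¹) * (x * v₁ * x⁻¹) := by group
          _ = v₁ * v₂ := by rw [← hv₁, ← hv₂]
      rw [e2, e3, hu1]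
      calc v * v₁ * (v₁ * v₂) = v * (v₁ * v₁) * v₂ := by group
        _ = v * v₂ := by rw [hv₁2]; group
    rw [e1] at h1
    have h2 : x * (v * v₂) * x⁻¹ ∈ wOf K := conj_mem_wOf (Subgroup.le_normalizer hx) h1
    have e2 : x * (v * v₂) * x⁻¹ = u := by
      calc x * (v * v₂) * x⁻¹ = (x * v * x⁻¹) * (x * v₂ * x⁻¹) := by group
        _ = v₁ * v := by rw [← hv₁, hv3]
        _ = v * v₁ := hcomm hv₁O hv
        _ = u := hu1.symm
    rwa [e2] at h2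

end RSetup

/-- The normal closure of `W_K` in `R`. -/
def om1 (R K : Subgroup G) : Subgroup G := Subgroup.closure {v | ∃ r ∈ R, ∃ w ∈ wOf K, v = r * w * r⁻¹}

/-- `C_R(Ω₁)`. -/
def cR (R K : Subgroup G) : Subgroup G := R ⊓ Subgroup.centralizer (om1 R K : Set G)

omit [Finite G] in
theorem w_le_om1 (hR : (1 : G) ∈ R) : wOf K ≤ om1 R K := fun w hw =>
  Subgroup.subset_closure ⟨1, hR, w, hw, by simp⟩

omit [Finite G] in
theorem conj_mem_om1 {r v : G} (hr : r ∈ R) (hv : v ∈ om1 R K) : r * v * r⁻¹ ∈ om1 R K := by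
  have hle : om1 R K ≤ (om1 R K).comap (MulAut.conj r).toMonoidHom := by
    refine (Subgroup.closure_le _).mpr ?_
    rintro _ ⟨s, hs, w, hw, rfl⟩
    refine Subgroup.subset_closure ⟨r * s, mul_mem hr hs, w, hw, ?_⟩
    simp only [MulEquiv.coe_toMonoidHom, MulAut.conj_apply]
    group
  exact hle hv

omit [Finite G] in
theorem le_normalizer_om1 : R ≤ Subgroup.normalizer (om1 R K : Set G) := by
  intro r hr
  rw [Subgroup.mem_normalizer_iff]
  intro v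
  refine ⟨fun hv => conj_mem_om1 hr hv, fun hv => ?_⟩
  have := conj_mem_om1 (inv_mem hr) hv
  simpa [mul_assoc] using this

namespace RSetup

variable (h : RSetup T₂ K R)
include h

theorem om1_le_om : om1 R K ≤ omL R := by
  refine (Subgroup.closure_le _).mpr ?_
  rintro _ ⟨r, hr, w, hw, rfl⟩
  exact conj_mem_om hr (h.w_le_om hw)

theorem om1_ea : IsElementaryAbelian 2 (om1 R K) := ea_mono JMain.om_ea h.om1_le_om

theorem conj_mem_cR {r c : G} (hr : r ∈ R) (hc : c ∈ cR R K) : r * c * r⁻¹ ∈ cR R K := by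
  obtain ⟨h1, h2⟩ := Subgroup.mem_inf.mp hc
  exact Subgroup.mem_inf.mpr ⟨mul_mem (mul_mem hr h1) (inv_mem hr),
    Cfsg.Agent.Lib.Amalgam.FFExists.conj_mem_centralizer (le_normalizer_om1 hr) h2⟩

theorem Y_le_cR : pCoreOf 2 K ≤ cR R K := by
  intro y hy
  refine Subgroup.mem_inf.mpr ⟨h.hKR (core_le hy), ?_⟩
  rw [Subgroup.mem_centralizer_iff]
  intro v hv
  exact (om_comm (h.Y_le_core hy) (h.om1_le_om hv)).symm

/-- `K` modulo `C_R(Ω₁)` lies in a normal 3-subgroup modulo `C_R(Ω₁)`. -/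
theorem exists_N3 : ∃ N : Subgroup G, N ≤ R ∧ K ≤ N ∧ (∀ r ∈ R, ∀ n ∈ N, r * n * r⁻¹ ∈ N) ∧
    ∀ n ∈ N, ∃ m : ℕ, n ^ 3 ^ m ∈ cR R K := by
  haveI hn : ((cR R K).subgroupOf R).Normal := by
    constructor
    intro n hn c
    rw [Subgroup.mem_subgroupOf] at hn ⊢
    exact h.conj_mem_cR c.2 hn
  haveI hp3 : Fact (Nat.Prime 3) := ⟨by norm_num⟩
  let π : R →* R ⧸ ((cR R K).subgroupOf R) := QuotientGroup.mk' _
  have hπ : ∀ r : R, π r = 1 ↔ (r : G) ∈ cR R K := fun r => by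
    rw [QuotientGroup.mk'_apply, QuotientGroup.eq_one_iff, Subgroup.mem_subgroupOf]
  have hsub : ((K.subgroupOf R).map π).IsSubnormal :=
    h.hsn.map (QuotientGroup.mk'_surjective _)
  have hP : IsPGroup 3 ((K.subgroupOf R).map π) := by
    rintro ⟨_, k, hk, rfl⟩
    refine ⟨1, Subtype.ext ?_⟩
    have h3 : (k : G) ^ 3 ∈ cR R K := h.Y_le_cR (K_cube h.hK (Subgroup.mem_subgroupOf.mp hk))
    have : π (k ^ 3) = 1 := (hπ _).mpr (by simpa using h3)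
    simpa using this
  have hle := Cfsg.Agent.Lib.Basic.PCore.le_pCore_of_subnormal hsub hP
  refine ⟨((Cfsg.pCore 3 (R ⧸ ((cR R K).subgroupOf R))).comap π).map R.subtype, Subgroup.map_subtype_le _, ?_, ?_, ?_⟩
  · intro k hk
    refine ⟨⟨k, h.hKR hk⟩, ?_, rfl⟩
    exact hle ⟨⟨k, h.hKR hk⟩, Subgroup.mem_subgroupOf.mpr hk, rfl⟩
  · rintro r hr _ ⟨n, hn, rfl⟩
    refine ⟨⟨r, hr⟩ * n * (⟨r, hr⟩ : R)⁻¹, ?_, rfl⟩
    rw [SetLike.mem_coe, Subgroup.mem_comap, map_mul, map_mul, map_inv]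
    exact (Cfsg.Agent.Lib.Basic.PCore.pCore_normal 3 _).conj_mem _ hn _
  · rintro _ ⟨n, hn, rfl⟩
    have hP3 : IsPGroup 3 (Cfsg.pCore 3 (R ⧸ ((cR R K).subgroupOf R))) :=
      Cfsg.Agent.Lib.Basic.PCore.pCore_isPGroup 3
    obtain ⟨m, hm⟩ := hP3 ⟨π n, hn⟩
    refine ⟨m, ?_⟩
    have h1 : π (n ^ 3 ^ m) = 1 := by
      rw [map_pow]
      simpa using congrArg Subtype.val hm
    have := (hπ _).mp h1
    simpa using this

/-- If `d` commutes with `x` modulo `C(Ω₁)`, then `d` normalizes `W`. -/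
theorem normalizes_w {d x : G} (hd : d ∈ R) (hx : x ∈ K) (hxY : x ∉ pCoreOf 2 K)
    (hc : d * x * d⁻¹ * x⁻¹ ∈ Subgroup.centralizer (om1 R K : Set G)) :
    d ∈ Subgroup.normalizer (wOf K : Set G) := by
  refine mem_normalizer_of_conj_le fun w hw => ?_
  obtain ⟨v, hv, rfl⟩ := surj_of_fpf (fun p hp => conj_mem_wOf (Subgroup.le_normalizer hx) hp)
    (fun a ha hfix => fpf h.hK hx hxY ha hfix) hw
  have hxR := h.hKR hx
  have hv1 : v ∈ om1 R K := w_le_om1 (one_mem _) hv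
  set v' := d * v * d⁻¹ with hv'
  have hv'1 : v' ∈ om1 R K := conj_mem_om1 hd hv1
  have hu : x * v'⁻¹ * x⁻¹ ∈ om1 R K := conj_mem_om1 hxR (inv_mem hv'1)
  have hc2 := Subgroup.mem_centralizer_iff.mp hc _ hu
  have e : d * (v * (x * v⁻¹ * x⁻¹)) * d⁻¹ = v' * x * v'⁻¹ * x⁻¹ := by
    have e1 : d * (v * (x * v⁻¹ * x⁻¹)) * d⁻¹ = v' * ((d * x * d⁻¹ * x⁻¹) * (x * v'⁻¹ * x⁻¹) * (d * x * d⁻¹ * x⁻¹)⁻¹) := by
      rw [hv']
      group
    rw [e1, ← hc2]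
    group
  rw [e]
  exact h.comm_mem_w (h.om1_le_om hv'1) hx

/-- `O₂(R / C_R(Ω₁)) = 1`. -/
theorem hO {D : Subgroup G} (hDR : D ≤ R) (hCD : R ⊓ Subgroup.centralizer (om1 R K : Set G) ≤ D)
    (hDn : ∀ r ∈ R, ∀ d ∈ D, r * d * r⁻¹ ∈ D)
    (hD2 : ∀ d ∈ D, ∃ n : ℕ, d ^ 2 ^ n ∈ R ⊓ Subgroup.centralizer (om1 R K : Set G)) :
    D ≤ R ⊓ Subgroup.centralizer (om1 R K : Set G) := by
  obtain ⟨x, hxK, -, hxY⟩ := exists_odd h.hK
  obtain ⟨N, hNR, hKN, hNn, hN3⟩ := h.exists_N3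
  have hxR := h.hKR hxK
  have step1 : ∀ d ∈ D, d * x * d⁻¹ * x⁻¹ ∈ R ⊓ Subgroup.centralizer (om1 R K : Set G) := by
    intro d hd
    have h1 : d * x * d⁻¹ * x⁻¹ ∈ D := by
      have e : d * x * d⁻¹ * x⁻¹ = d * (x * d⁻¹ * x⁻¹) := by group
      rw [e]
      exact mul_mem hd (hDn x hxR _ (inv_mem hd))
    have h2 : d * x * d⁻¹ * x⁻¹ ∈ N :=
      mul_mem (hNn d (hDR hd) x (hKN hxK)) (inv_mem (hKN hxK))
    obtain ⟨a, ha⟩ := hD2 _ h1
    obtain ⟨b, hb⟩ := hN3 _ h2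
    exact mem_of_coprime_pow (a := 2 ^ a) (b := 3 ^ b)
      (Nat.Coprime.pow a b (by norm_num)) ha hb
  have hWC : ∀ {c w : G}, c ∈ Subgroup.centralizer (om1 R K : Set G) → w ∈ wOf K → c * w * c⁻¹ = w := by
    intro c w hc hw
    have := Subgroup.mem_centralizer_iff.mp hc w (w_le_om1 (one_mem _) hw)
    rw [← this]
    group
  have step2 : ∀ d ∈ D, ∀ w ∈ wOf K, d * w * d⁻¹ = w := by
    intro d hd w hw
    obtain ⟨n, hn⟩ := hD2 d hd
    obtain ⟨d₂, hd₂, c, hc, hdc, k, hk⟩ := exists_two_part hn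
    have hd₂D : d₂ ∈ D := by
      obtain ⟨i, rfl⟩ := hd₂
      exact zpow_mem hd i
    have hcC := (Subgroup.mem_inf.mp hc).2
    have hd₂R := hDR hd₂D
    have hc₂ := (Subgroup.mem_inf.mp (step1 d₂ hd₂D)).2
    have hN2 := h.normalizes_w hd₂R hxK hxY hc₂
    have hQ : IsPGroup 2 (Subgroup.zpowers d₂) := by
      rw [IsPGroup.iff_card]
      obtain ⟨m, -, hm⟩ := (Nat.dvd_prime_pow Nat.prime_two).mp (orderOf_dvd_of_pow_eq_one hk)
      exact ⟨m, by rw [Nat.card_zpowers]; exact hm⟩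
    have hQN : Subgroup.zpowers d₂ ≤ Subgroup.normalizer (wOf K : Set G) := Subgroup.zpowers_le.mpr hN2
    obtain ⟨z, hz, hz1, hfix⟩ := exists_fixed h.hK hQ
      (fun q hq w hw => (Subgroup.mem_normalizer_iff.mp (hQN hq) w).mp hw)
    have hfz := hfix d₂ (Subgroup.mem_zpowers d₂)
    have hz' : x * z * x⁻¹ ∈ wOf K := conj_mem_wOf (Subgroup.le_normalizer hxK) hz
    have hz'1 : x * z * x⁻¹ ≠ 1 := by
      intro e
      apply hz1
      have e2 : z = x⁻¹ * (x * z * x⁻¹) * x := by group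
      rw [e2, e]
      group
    have hne : z ≠ x * z * x⁻¹ := fun e => hz1 (fpf h.hK hxK hxY hz e.symm)
    have hfz' : d₂ * (x * z * x⁻¹) * d₂⁻¹ = x * z * x⁻¹ := by
      have h5 := hWC hc₂ hz'
      calc d₂ * (x * z * x⁻¹) * d₂⁻¹ =
          (d₂ * x * d₂⁻¹ * x⁻¹) * (x * (d₂ * z * d₂⁻¹) * x⁻¹) * (d₂ * x * d₂⁻¹ * x⁻¹)⁻¹ := by group
        _ = (d₂ * x * d₂⁻¹ * x⁻¹) * (x * z * x⁻¹) * (d₂ * x * d₂⁻¹ * x⁻¹)⁻¹ := by rw [hfz]
        _ = x * z * x⁻¹ := h5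
    have h4 := fix_all h.hK hz hz' hz1 hz'1 hne hfz hfz' w hw
    rw [hdc]
    calc d₂ * c * w * (d₂ * c)⁻¹ = d₂ * (c * w * c⁻¹) * d₂⁻¹ := by group
      _ = d₂ * w * d₂⁻¹ := by rw [hWC hcC hw]
      _ = w := h4
  intro d hd
  refine Subgroup.mem_inf.mpr ⟨hDR hd, ?_⟩
  have hle : om1 R K ≤ Subgroup.centralizer ({d} : Set G) := by
    refine (Subgroup.closure_le _).mpr ?_
    rintro _ ⟨r, hr, w, hw, rfl⟩
    rw [SetLike.mem_coe, Subgroup.mem_centralizer_iff]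
    intro y hy
    have hy' : y = d := hy
    rw [hy']
    have h1 := step2 _ (hDn r⁻¹ (inv_mem hr) d hd) w hw
    have e : d * (r * w * r⁻¹) * d⁻¹ =
        r * ((r⁻¹ * d * r⁻¹⁻¹) * w * (r⁻¹ * d * r⁻¹⁻¹)⁻¹) * r⁻¹ := by group
    rw [h1] at e
    exact mul_inv_eq_iff_eq_mul.mp e
  rw [Subgroup.mem_centralizer_iff]
  intro v hv
  exact (Subgroup.mem_centralizer_iff.mp (hle hv) d rfl).symm

/-- The structure theorem applies to `R` acting on `Ω₁`. -/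
theorem exists_family (hsol : Group.IsSolvable R) : ∃ F, IsFF (om1 R K) R F :=
  Cfsg.Agent.Lib.Amalgam.FFExists.exists_isFF h.om1_ea le_normalizer_om1 hsol
    fun _ hDR hCD hDn hD2 => h.hO hDR hCD hDn hD2

/-- Elements of order 2 in a factor normalize `W`. -/
theorem generator_normalizes {F : Set (Subgroup G)} (hF : IsFF (om1 R K) R F) {b : G} {E : Subgroup G}
    (hE : E ∈ F) (hbE : b ∈ E) (hb2 : b * b = 1) : b ∈ Subgroup.normalizer (wOf K : Set G) := by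
  obtain ⟨x, hxK, hodd, hxY⟩ := exists_odd h.hK
  have hxR := h.hKR hxK
  have hbR := hF.le E hE hbE
  by_cases hc : b * x * b⁻¹ * x⁻¹ ∈ Subgroup.centralizer (om1 R K : Set G)
  · exact h.normalizes_w hbR hxK hxY hc
  obtain ⟨N, hNR, hKN, hNn, hN3⟩ := h.exists_N3
  have hb1 : b⁻¹ = b := inv_eq_of_mul_eq_one_left hb2
  set z := x * b * x⁻¹ * b⁻¹ with hz
  have hzn : z ∉ Subgroup.centralizer (om1 R K : Set G) := by
    intro hz1
    apply hc
    have e : b * x * b⁻¹ * x⁻¹ = z⁻¹ := by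
      rw [hz]
      group
    rw [e]
    exact inv_mem hz1
  have hzN : z ∈ N := by
    have e : z = x * (b * x⁻¹ * b⁻¹) := by
      rw [hz]
      group
    rw [e]
    exact mul_mem (hKN hxK) (hNn b hbR _ (inv_mem (hKN hxK)))
  have hEx : E.map (MulAut.conj x).toMonoidHom = E := by
    by_contra hne
    have hE' := hF.conj x hxR E hE
    have h1 := hF.comm E hE _ hE' (Ne.symm hne) b hbE (x * b * x⁻¹) ⟨b, hbE, rfl⟩
    have hbt : (x * b * x⁻¹)⁻¹ = x * b * x⁻¹ := by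
      calc (x * b * x⁻¹)⁻¹ = x * b⁻¹ * x⁻¹ := by group
        _ = x * b * x⁻¹ := by rw [hb1]
    have h2 : z ^ 2 ∈ Subgroup.centralizer (om1 R K : Set G) := by
      have e : z ^ 2 = (b * (x * b * x⁻¹) * b⁻¹ * (x * b * x⁻¹)⁻¹)⁻¹ := by
        have e1 : z = (x * b * x⁻¹) * b := by rw [hz, hb1]
        rw [e1]
        exact sq_aux hbt hb1
      rw [e]
      exact inv_mem h1
    obtain ⟨m, hm⟩ := hN3 z hzN
    exact hzn (mem_of_coprime_pow (a := 2) (b := 3 ^ m) (Nat.Coprime.pow_right m (by norm_num)) h2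
      (Subgroup.mem_inf.mp hm).2)
  have hP4 := hF.card_com E hE
  have hPle : ⁅om1 R K, E⁆ ≤ om1 R K := by
    rw [Subgroup.commutator_le]
    intro v hv e he
    rw [commutatorElement_def]
    have e1 : v * e * v⁻¹ * e⁻¹ = v * (e * v⁻¹ * e⁻¹) := by group
    rw [e1]
    exact mul_mem hv (conj_mem_om1 (hF.le E hE he) (inv_mem hv))
  have hP2 : ∀ p ∈ ⁅om1 R K, E⁆, p * p = 1 := by
    intro p hp
    rw [← pow_two]
    exact h.om1_ea.2 p (hPle hp)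
  have hPmap : ∀ {y : G}, y ∈ R → E.map (MulAut.conj y).toMonoidHom = E →
      ∀ p ∈ ⁅om1 R K, E⁆, y * p * y⁻¹ ∈ ⁅om1 R K, E⁆ := by
    intro y hy hy2 p hp
    have h1 : (⁅om1 R K, E⁆).map (MulAut.conj y).toMonoidHom = ⁅om1 R K, E⁆ := by
      rw [Subgroup.map_commutator, hy2, map_conj_eq_of_mem_normalizer (le_normalizer_om1 hy)]
    rw [← h1]
    exact ⟨p, hp, rfl⟩
  have hbmap : ∀ {e : G}, e ∈ E → E.map (MulAut.conj e).toMonoidHom = E := fun he =>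
    map_conj_eq_of_mem_normalizer (Subgroup.le_normalizer he)
  have hxP := hPmap hxR hEx
  by_cases hfixP : ∀ p ∈ ⁅om1 R K, E⁆, x * p * x⁻¹ = p
  · exfalso
    apply hzn
    rw [Subgroup.mem_centralizer_iff]
    intro v hv
    have hv2 : v ∈ ⁅om1 R K, E⁆ ⊔ (om1 R K ⊓ Subgroup.centralizer (E : Set G)) := by
      rw [hF.split E hE]
      exact hv
    obtain ⟨p, hp, c₀, hc₀, rfl⟩ := Cfsg.Agent.S2941.exists_mul_of_mem_sup (by
      intro j hj k hk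
      have hc : j * k = k * j := ea_comm h.om1_ea (Subgroup.mem_inf.mp hj).1 (hPle hk)
      rw [hc]
      simpa using hk) hv2
    obtain ⟨hc₁, hc₂⟩ := Subgroup.mem_inf.mp hc₀
    have hp1 : z * p * z⁻¹ = p := by
      have hp' : b⁻¹ * p * b⁻¹⁻¹ ∈ ⁅om1 R K, E⁆ := hPmap (inv_mem hbR) (hbmap (inv_mem hbE)) p hp
      have h1 := hfixP _ hp'
      have h2 : x⁻¹ * (b⁻¹ * p * b⁻¹⁻¹) * x⁻¹⁻¹ = b⁻¹ * p * b⁻¹⁻¹ := by
        nth_rewrite 1 [← h1]
        group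
      have h3 := hfixP p hp
      calc z * p * z⁻¹ = x * (b * (x⁻¹ * (b⁻¹ * p * b⁻¹⁻¹) * x⁻¹⁻¹) * b⁻¹) * x⁻¹ := by
            rw [hz]
            group
        _ = x * p * x⁻¹ := by
            rw [h2]
            group
        _ = p := h3
    have hc1 : z * c₀ * z⁻¹ = c₀ := by
      have hb' : b⁻¹ * c₀ * b⁻¹⁻¹ = c₀ := by
        have := Subgroup.mem_centralizer_iff.mp hc₂ _ (inv_mem hbE)
        rw [this]
        group
      have hbx : x * b * x⁻¹ ∈ E := by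
        rw [← hEx]
        exact ⟨b, hbE, rfl⟩
      have h1 : b * (x⁻¹ * c₀ * x⁻¹⁻¹) * b⁻¹ = x⁻¹ * c₀ * x⁻¹⁻¹ := by
        have h2 := Subgroup.mem_centralizer_iff.mp hc₂ _ hbx
        calc b * (x⁻¹ * c₀ * x⁻¹⁻¹) * b⁻¹ = x⁻¹ * ((x * b * x⁻¹) * c₀ * (x * b * x⁻¹)⁻¹) * x⁻¹⁻¹ := by group
          _ = x⁻¹ * c₀ * x⁻¹⁻¹ := by
            rw [h2]
            group
      calc z * c₀ * z⁻¹ = x * (b * (x⁻¹ * (b⁻¹ * c₀ * b⁻¹⁻¹) * x⁻¹⁻¹) * b⁻¹) * x⁻¹ := by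
            rw [hz]
            group
        _ = x * (b * (x⁻¹ * c₀ * x⁻¹⁻¹) * b⁻¹) * x⁻¹ := by rw [hb']
        _ = x * (x⁻¹ * c₀ * x⁻¹⁻¹) * x⁻¹ := by rw [h1]
        _ = c₀ := by group
    have e : z * (p * c₀) * z⁻¹ = (z * p * z⁻¹) * (z * c₀ * z⁻¹) := by group
    rw [hp1, hc1] at e
    exact (mul_inv_eq_iff_eq_mul.mp e).symm
  · push Not at hfixP
    obtain ⟨p₀, hp₀, hne⟩ := hfixP
    have hfpf : ∀ w ∈ ⁅om1 R K, E⁆, x * w * x⁻¹ = w → w = 1 := by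
      intro w hw hfix
      by_contra hw1
      exact hne (four_fix hP4 hP2 hodd hxP hw hw1 hfix p₀ hp₀)
    have hPW : ⁅om1 R K, E⁆ ≤ wOf K := by
      intro w hw
      obtain ⟨v, hv, rfl⟩ := surj_of_fpf hxP hfpf hw
      have h1 := h.comm_mem_w (h.om1_le_om (hPle hv)) hxK
      have e : v * (x * v⁻¹ * x⁻¹) = v * x * v⁻¹ * x⁻¹ := by group
      rwa [e]
    have hPeq : ⁅om1 R K, E⁆ = wOf K :=
      Subgroup.eq_of_le_of_card_ge hPW (by rw [hP4, card_w h.hK])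
    rw [← hPeq]
    exact mem_normalizer_of_conj_le fun w hw => hPmap hbR (hbmap hbE) w hw

/-- `J(T)` normalizes `W_K`. -/
theorem J_le_normalizer {T L : Subgroup G} (hsyl : IsSylowTwoIn T L) (hRL : R ≤ L)
    (hJR : thompsonSubgroupOf 2 T ≤ R) (hsol : Group.IsSolvable R) :
    thompsonSubgroupOf 2 T ≤ Subgroup.normalizer (wOf K : Set G) := by
  obtain ⟨F, hF⟩ := h.exists_family hsol
  rw [thompsonSubgroupOf_le_iff]
  intro A hA
  have hAR : A ≤ R := (le_thompsonSubgroupOf hA).trans hJR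
  obtain ⟨S, hS, hJS⟩ := exists_sylowIn hJR (thompson_isP hsyl.2.1)
  have hAS : A ∈ gMaxEA 2 S := by
    refine ⟨(le_thompsonSubgroupOf hA).trans hJS, hA.2.1, fun B hB hBe => ?_⟩
    obtain ⟨l, hl, hl2⟩ := exists_conj_le hsyl (hS.1.trans hRL) hS.2.1
    have h1 : B.map (MulAut.conj l⁻¹).toMonoidHom ≤ T := by
      rintro _ ⟨q, hq, rfl⟩
      have := hl2 q (hB hq)
      simpa using this
    have h2 := hA.2.2 _ h1 (ea_map _ hBe)
    rwa [card_map_conj] at h2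
  have hOS : om1 R K ≤ S := h.om1_le_om.trans (om_le_core.trans (pCoreOf_le_of_sylow hS))
  have hbest : IsBestOffenderOn 2 (om1 R K) A :=
    best_of_gMaxEA hAS hOS (hS.1.trans le_normalizer_om1) h.om1_ea
  refine (hF.gen A hAR hbest).trans ((Subgroup.closure_le _).mpr ?_)
  rintro c (⟨hcA, E, hE, hcE⟩ | hc)
  · exact h.generator_normalizes hF hE hcE (by rw [← pow_two]; exact hA.2.1.2 c hcA)
  · refine mem_normalizer_of_conj_le fun w hw => ?_
    have h1 := Subgroup.mem_centralizer_iff.mp (Subgroup.mem_inf.mp hc).2 w (w_le_om1 (one_mem _) hw)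
    rw [← h1]
    simpa using hw

end RSetup

end Cfsg.Agent.Lib.Amalgam.JSub
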