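import Mathlib
import Cfsg.Prelude.Def_PLocal
import Cfsg.Agent.Lib.PGroup.ThompsonG

/-!
# A bound for modules in failure of factorization

`W` elementary abelian, `x` of order 3 acting without fixed points, `A` a best offender on `W` with an element `b`
inverting `x` and a subgroup of index 2 commuting with `x`. Then `|W| ≤ 4`.
-/

set_option autoImplicit false

namespace Cfsg.Agent.Lib.Amalgam.SmallW

open Cfsg Cfsg.Agent.Lib.PGroup.ThompsonG

variable {G : Type*} [Group G] [Finite G]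

/-- A 2-group normalizing a nontrivial 2-group fixes a nonidentity element. -/
theorem exists_fixed_two {Q U : Subgroup G} (hQ : IsPGroup 2 Q) (hU : IsPGroup 2 U)
    (hQU : ∀ q ∈ Q, ∀ u ∈ U, q * u * q⁻¹ ∈ U) (hne : U ≠ ⊥) :
    ∃ z ∈ U, z ≠ 1 ∧ ∀ q ∈ Q, q * z * q⁻¹ = z := by
  classical
  by_contra hcon
  push Not at hcon
  letI : MulAction Q U :=
    { smul := fun j w => ⟨(j : G) * w * (j : G)⁻¹, hQU j j.2 w w.2⟩
      one_smul := fun w => Subtype.ext (by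
        show ((1 : Q) : G) * w * ((1 : Q) : G)⁻¹ = w
        simp)
      mul_smul := fun a b w => Subtype.ext (by
        show ((a * b : Q) : G) * w * ((a * b : Q) : G)⁻¹ =
          (a : G) * ((b : G) * w * (b : G)⁻¹) * (a : G)⁻¹
        simp only [Subgroup.coe_mul]
        group) }
  have hsm : ∀ (j : Q) (w : U), ((j • w : U) : G) = j * w * (j : G)⁻¹ := fun _ _ => rfl
  have hmod := hQ.card_modEq_card_fixedPoints U
  have hfix : MulAction.fixedPoints Q U = {1} := by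
    ext w
    simp only [MulAction.mem_fixedPoints, Set.mem_singleton_iff]
    constructor
    · intro h
      by_contra hw1
      have hw1' : (w : G) ≠ 1 := fun h' => hw1 (Subtype.ext h')
      obtain ⟨j, hj, hj'⟩ := hcon w w.2 hw1'
      apply hj'
      have := congrArg Subtype.val (h ⟨j, hj⟩)
      rw [hsm] at this
      exact this
    · rintro rfl j
      apply Subtype.ext
      rw [hsm]
      simp
  rw [hfix, Nat.card_coe_set_eq, Set.ncard_singleton] at hmod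
  obtain ⟨n, hn⟩ := IsPGroup.iff_card.mp hU
  rw [hn] at hmod
  have hn0 : n ≠ 0 := by
    rintro rfl
    apply hne
    have : Nat.card U = 1 := by simpa using hn
    exact (Subgroup.eq_bot_iff_card U).mpr this
  obtain ⟨k, hk⟩ : 2 ∣ 2 ^ n := dvd_pow_self 2 hn0
  have h3 : 2 ^ n % 2 = 1 % 2 := hmod
  rw [hk] at h3
  omega

/-- The bound on an elementary abelian 2-group with a unique fixed point. -/
theorem card_bound {V B : Subgroup G} (hV : IsElementaryAbelian 2 V) (hB : IsPGroup 2 B)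
    (hcomm : ∀ a ∈ B, ∀ c ∈ B, a * c = c * a) (hn : ∀ a ∈ B, ∀ v ∈ V, a * v * a⁻¹ ∈ V) {z : G} (hz : z ∈ V)
    (hz1 : z ≠ 1) (hzfix : ∀ a ∈ B, a * z * a⁻¹ = z)
    (huniq : ∀ v ∈ V, (∀ a ∈ B, a * v * a⁻¹ = v) → v = 1 ∨ v = z) :
    Nat.card B * 2 ≤ Nat.card (B ⊓ Subgroup.centralizer (V : Set G) : Subgroup G) * Nat.card V := by
  classical
  let _ : CommGroup V := { (inferInstance : Group V) with mul_comm := fun a b => hV.1.is_comm.comm a b }
  have hz1' : (⟨z, hz⟩ : V) ≠ 1 := fun h => hz1 (congrArg Subtype.val h)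
  have hNZ : NeZero (Monoid.exponent V : ℂ) := by
    have : NeZero (Monoid.exponent V) := ⟨Monoid.exponent_ne_zero_of_finite⟩
    infer_instance
  obtain ⟨lam, hlam⟩ := CommGroup.exists_apply_ne_one_of_hasEnoughRootsOfUnity V ℂ hz1'
  have hcard : Nat.card (V →* ℂˣ) = Nat.card V := CommGroup.card_monoidHom_of_hasEnoughRootsOfUnity V ℂ
  -- the evaluation at `z`
  let ev : (V →* ℂˣ) →* ℂˣ :=
    { toFun := fun μ => μ ⟨z, hz⟩
      map_one' := rfl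
      map_mul' := fun _ _ => rfl }
  have hD : Nat.card ev.ker * 2 ≤ Nat.card V := by
    have h1 : Nat.card ev.ker * ev.ker.index = Nat.card (V →* ℂˣ) := Subgroup.card_mul_index _
    rw [hcard] at h1
    rw [← h1]
    refine Nat.mul_le_mul_left _ ?_
    rw [Subgroup.index_ker]
    have hfin0 : Finite (V →* ℂˣ) := Nat.finite_of_card_ne_zero (by rw [hcard]; exact Nat.card_pos.ne')
    have hfin : Finite ev.range := Finite.of_surjective ev.rangeRestrict ev.rangeRestrict_surjective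
    have h2 : (1 : ev.range) ≠ ⟨ev lam, ⟨lam, rfl⟩⟩ := by
      intro h
      exact hlam (congrArg Subtype.val h).symm
    exact Finite.one_lt_card_iff_nontrivial.mpr ⟨⟨_, _, h2⟩⟩
  -- the conjugation action on `V`
  let cj : B → (V →* V) := fun a =>
    { toFun := fun v => ⟨a * v * (a : G)⁻¹, hn a a.2 v v.2⟩
      map_one' := Subtype.ext (by simp)
      map_mul' := fun u v => Subtype.ext (by
        show (a : G) * (u * v) * (a : G)⁻¹ = (a * u * (a : G)⁻¹) * (a * v * (a : G)⁻¹)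
        group) }
  let f : B → ev.ker := fun a => ⟨(lam.comp (cj a)) * lam⁻¹, by
    rw [MonoidHom.mem_ker]
    show lam (cj a ⟨z, hz⟩) * (lam ⟨z, hz⟩)⁻¹ = 1
    have : cj a ⟨z, hz⟩ = ⟨z, hz⟩ := Subtype.ext (hzfix a a.2)
    rw [this, mul_inv_cancel]⟩
  -- the subgroup of elements on which `lam` is trivial along the orbit
  have hkey : ∀ t (ht : t ∈ B), (∀ v : V, lam ⟨t * v * t⁻¹, hn t ht v v.2⟩ = lam v) →
      t ∈ Subgroup.centralizer (V : Set G) := by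
    intro t ht hlt
    obtain ⟨U, hU⟩ : ∃ U : Subgroup G, ∀ w, w ∈ U ↔ ∃ hw : w ∈ V, ∀ s (hs : s ∈ B),
        lam ⟨s * w * s⁻¹, hn s hs w hw⟩ = 1 := by
      refine ⟨{ carrier := {w | ∃ hw : w ∈ V, ∀ s (hs : s ∈ B), lam ⟨s * w * s⁻¹, hn s hs w hw⟩ = 1}
                mul_mem' := ?_, one_mem' := ?_, inv_mem' := ?_ }, fun w => Iff.rfl⟩
      · rintro a c ⟨ha, ha'⟩ ⟨hc, hc'⟩
        refine ⟨mul_mem ha hc, fun s hs => ?_⟩
        have e : (⟨s * (a * c) * s⁻¹, hn s hs _ (mul_mem ha hc)⟩ : V) =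
            ⟨s * a * s⁻¹, hn s hs a ha⟩ * ⟨s * c * s⁻¹, hn s hs c hc⟩ := Subtype.ext (by
          show s * (a * c) * s⁻¹ = (s * a * s⁻¹) * (s * c * s⁻¹)
          group)
        rw [e, map_mul, ha' s hs, hc' s hs, one_mul]
      · refine ⟨one_mem _, fun s hs => ?_⟩
        have e : (⟨s * 1 * s⁻¹, hn s hs 1 (one_mem _)⟩ : V) = 1 := Subtype.ext (by simp)
        rw [e, map_one]
      · rintro a ⟨ha, ha'⟩
        refine ⟨inv_mem ha, fun s hs => ?_⟩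
        have e : (⟨s * a⁻¹ * s⁻¹, hn s hs _ (inv_mem ha)⟩ : V) = (⟨s * a * s⁻¹, hn s hs a ha⟩ : V)⁻¹ :=
          Subtype.ext (by
            show s * a⁻¹ * s⁻¹ = (s * a * s⁻¹)⁻¹
            group)
        rw [e, map_inv, ha' s hs, inv_one]
    have hUV : U ≤ V := fun w hw => ((hU w).mp hw).1
    have hUn : ∀ q ∈ B, ∀ u ∈ U, q * u * q⁻¹ ∈ U := by
      intro q hq u hu
      obtain ⟨hw, hw'⟩ := (hU u).mp hu
      refine (hU _).mpr ⟨hn q hq u hw, fun s hs => ?_⟩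
      have h1 := hw' (s * q) (mul_mem hs hq)
      have e : (⟨s * (q * u * q⁻¹) * s⁻¹, hn s hs _ (hn q hq u hw)⟩ : V) =
          ⟨s * q * u * (s * q)⁻¹, hn _ (mul_mem hs hq) u hw⟩ := Subtype.ext (by
        show s * (q * u * q⁻¹) * s⁻¹ = s * q * u * (s * q)⁻¹
        group)
      rw [e]
      exact h1
    have hUbot : U = ⊥ := by
      by_contra hne
      have hUP : IsPGroup 2 U := by
        intro u
        refine ⟨1, Subtype.ext ?_⟩
        have := hV.2 u (hUV u.2)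
        simpa using this
      obtain ⟨w, hw, hw1, hwf⟩ := exists_fixed_two hB hUP hUn hne
      rcases huniq w (hUV hw) hwf with rfl | rfl
      · exact hw1 rfl
      · obtain ⟨hw2, hw'⟩ := (hU _).mp hw
        have h1 := hw' 1 (one_mem _)
        have e : (⟨1 * w * 1⁻¹, hn 1 (one_mem _) w hw2⟩ : V) = ⟨w, hz⟩ := Subtype.ext (by simp)
        rw [e] at h1
        exact hlam h1
    rw [Subgroup.mem_centralizer_iff]
    intro v hv
    have hu : t * v * t⁻¹ * v⁻¹ ∈ U := by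
      refine (hU _).mpr ⟨mul_mem (hn t ht v hv) (inv_mem hv), fun s hs => ?_⟩
      have e : (⟨s * (t * v * t⁻¹ * v⁻¹) * s⁻¹, hn s hs _ (mul_mem (hn t ht v hv) (inv_mem hv))⟩ : V) =
          ⟨t * (s * v * s⁻¹) * t⁻¹, hn t ht _ (hn s hs v hv)⟩ * (⟨s * v * s⁻¹, hn s hs v hv⟩ : V)⁻¹ :=
        Subtype.ext (by
          show s * (t * v * t⁻¹ * v⁻¹) * s⁻¹ = t * (s * v * s⁻¹) * t⁻¹ * (s * v * s⁻¹)⁻¹
          have hst : s * t = t * s := hcomm s hs t ht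
          calc s * (t * v * t⁻¹ * v⁻¹) * s⁻¹ = (s * t) * v * t⁻¹ * v⁻¹ * s⁻¹ := by group
            _ = (t * s) * v * t⁻¹ * v⁻¹ * s⁻¹ := by rw [hst]
            _ = t * (s * v * s⁻¹) * (s * t⁻¹ * s⁻¹) * (s * v * s⁻¹)⁻¹ := by group
            _ = t * (s * v * s⁻¹) * t⁻¹ * (s * v * s⁻¹)⁻¹ := by
              have : s * t⁻¹ * s⁻¹ = t⁻¹ := by
                rw [hcomm s hs t⁻¹ (inv_mem ht)]
                group
              rw [this])
      rw [e, map_mul, map_inv, hlt ⟨s * v * s⁻¹, hn s hs v hv⟩, mul_inv_cancel]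
    rw [hUbot, Subgroup.mem_bot] at hu
    rw [mul_inv_eq_one, mul_inv_eq_iff_eq_mul] at hu
    exact hu.symm
  -- counting
  let C' : Subgroup B := (B ⊓ Subgroup.centralizer (V : Set G)).subgroupOf B
  have hinj : Function.Injective (fun q : B ⧸ C' => f q.out) := by
    intro q q' hqq
    have h1 : f q.out = f q'.out := hqq
    have h2 : lam.comp (cj q.out) = lam.comp (cj q'.out) :=
      mul_right_cancel (congrArg Subtype.val h1)
    set a := q.out with ha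
    set a' := q'.out with ha'
    have h3 : ∀ v : V, lam (cj a v) = lam (cj a' v) := fun v => DFunLike.congr_fun h2 v
    rw [← QuotientGroup.out_eq' q, ← QuotientGroup.out_eq' q', QuotientGroup.eq, ← ha, ← ha',
      Subgroup.mem_subgroupOf]
    have ht : ((a⁻¹ * a' : B) : G) ∈ B := (a⁻¹ * a').2
    refine Subgroup.mem_inf.mpr ⟨ht, hkey _ ht fun v => ?_⟩
    have hw : (a : G)⁻¹ * v * a ∈ V := by
      have := hn _ (inv_mem a.2) v v.2
      simpa using this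
    have h4 := h3 ⟨(a : G)⁻¹ * v * a, hw⟩
    have e1 : cj a ⟨(a : G)⁻¹ * v * a, hw⟩ = v := Subtype.ext (by
      show (a : G) * ((a : G)⁻¹ * v * a) * (a : G)⁻¹ = v
      group)
    have e2 : cj a' ⟨(a : G)⁻¹ * v * a, hw⟩ = ⟨((a⁻¹ * a' : B) : G) * v * ((a⁻¹ * a' : B) : G)⁻¹, hn _ ht v v.2⟩ :=
      Subtype.ext (by
        show (a' : G) * ((a : G)⁻¹ * v * a) * (a' : G)⁻¹ = ((a⁻¹ * a' : B) : G) * v * ((a⁻¹ * a' : B) : G)⁻¹
        have hc : (a' : G) * (a : G)⁻¹ = (a : G)⁻¹ * a' := hcomm _ a'.2 _ (inv_mem a.2)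
        simp only [Subgroup.coe_mul, Subgroup.coe_inv]
        calc (a' : G) * ((a : G)⁻¹ * v * a) * (a' : G)⁻¹ = ((a' : G) * (a : G)⁻¹) * v * ((a' : G) * (a : G)⁻¹)⁻¹ := by
              group
          _ = _ := by rw [hc])
    rw [e1, e2] at h4
    exact h4.symm
  have h1 : Nat.card (B ⧸ C') ≤ Nat.card ev.ker := Nat.card_le_card_of_injective _ hinj
  have h2 : Nat.card B = Nat.card (B ⧸ C') * Nat.card C' := Subgroup.card_eq_card_quotient_mul_card_subgroup C'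
  have h3 : Nat.card C' = Nat.card (B ⊓ Subgroup.centralizer (V : Set G) : Subgroup G) :=
    Nat.card_congr (Subgroup.subgroupOfEquivOfLe inf_le_left).toEquiv
  rw [h2, h3]
  calc Nat.card (B ⧸ C') * Nat.card (B ⊓ Subgroup.centralizer (V : Set G) : Subgroup G) * 2
      = Nat.card (B ⊓ Subgroup.centralizer (V : Set G) : Subgroup G) * (Nat.card (B ⧸ C') * 2) := by ring
    _ ≤ Nat.card (B ⊓ Subgroup.centralizer (V : Set G) : Subgroup G) * (Nat.card ev.ker * 2) :=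
        Nat.mul_le_mul_left _ (Nat.mul_le_mul_right _ h1)
    _ ≤ _ := Nat.mul_le_mul_left _ hD

theorem two_cases {H : Subgroup G} (h2 : Nat.card H ≤ 2) {z v : G} (hz : z ∈ H) (hz1 : z ≠ 1) (hv : v ∈ H) :
    v = 1 ∨ v = z := by
  classical
  by_contra hcon
  push Not at hcon
  haveI : Fintype H := Fintype.ofFinite H
  let s : Finset H := {1, ⟨z, hz⟩, ⟨v, hv⟩}
  have hs : s.card = 3 := by
    refine Finset.card_eq_three.mpr ⟨1, ⟨z, hz⟩, ⟨v, hv⟩, ?_, ?_, ?_, rfl⟩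
    · exact fun h => hz1 (congrArg Subtype.val h).symm
    · exact fun h => hcon.1 (congrArg Subtype.val h).symm
    · exact fun h => hcon.2 (congrArg Subtype.val h).symm
  have h3 := Finset.card_le_univ s
  rw [hs, ← Nat.card_eq_fintype_card] at h3
  omega

/-- The hypotheses of the bound. -/
structure SW (W A : Subgroup G) (x b : G) : Prop where
  ea : IsElementaryAbelian 2 W
  eaA : IsElementaryAbelian 2 A
  best : IsBestOffenderOn 2 W A
  nA : ∀ a ∈ A, ∀ w ∈ W, a * w * a⁻¹ ∈ W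
  nx : ∀ w ∈ W, x * w * x⁻¹ ∈ W
  x3 : x ^ 3 ∈ Subgroup.centralizer (W : Set G)
  fpf : ∀ w ∈ W, x * w * x⁻¹ = w → w = 1
  hb : b ∈ A
  hbx : b * x * b⁻¹ * x ∈ Subgroup.centralizer (W : Set G)
  hA2 : ∀ a ∈ A, a * x * a⁻¹ * x⁻¹ ∈ Subgroup.centralizer (W : Set G) ∨
    a * x * a⁻¹ * x ∈ Subgroup.centralizer (W : Set G)

namespace SW

variable {W A : Subgroup G} {x b : G} (h : SW W A x b)
include h

omit [Finite G] in
theorem comm {u v : G} (hu : u ∈ W) (hv : v ∈ W) : u * v = v * u := ea_comm h.ea hu hv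

omit [Finite G] in
theorem sq {v : G} (hv : v ∈ W) : v * v = 1 := by
  rw [← pow_two]
  exact h.ea.2 v hv

omit [Finite G] in
theorem sqA {v : G} (hv : v ∈ A) : v * v = 1 := by
  rw [← pow_two]
  exact h.eaA.2 v hv

omit [Finite G] h in
theorem cz {c v : G} (hc : c ∈ Subgroup.centralizer (W : Set G)) (hv : v ∈ W) : c * v * c⁻¹ = v := by
  have := Subgroup.mem_centralizer_iff.mp hc v hv
  rw [← this]
  group

omit [Finite G] in
theorem inv_conj {v : G} (hv : v ∈ W) : x⁻¹ * v * x = x * (x * v * x⁻¹) * x⁻¹ := by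
  have h1 := cz h.x3 hv
  calc x⁻¹ * v * x = x⁻¹ * (x ^ 3 * v * (x ^ 3)⁻¹) * x := by rw [h1]
    _ = x * (x * v * x⁻¹) * x⁻¹ := by
      rw [pow_three]
      group

omit [Finite G] in
theorem nxi {v : G} (hv : v ∈ W) : x⁻¹ * v * x ∈ W := by
  rw [h.inv_conj hv]
  exact h.nx _ (h.nx _ hv)

omit [Finite G] in
theorem conjA_C {a c : G} (ha : a ∈ A) (hc : c ∈ Subgroup.centralizer (W : Set G)) :
    a * c * a⁻¹ ∈ Subgroup.centralizer (W : Set G) := by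
  rw [Subgroup.mem_centralizer_iff] at hc ⊢
  intro v hv
  have h1 : a⁻¹ * v * a⁻¹⁻¹ ∈ W := h.nA _ (inv_mem ha) v hv
  have h2 := hc _ h1
  calc v * (a * c * a⁻¹) = a * ((a⁻¹ * v * a⁻¹⁻¹) * c) * a⁻¹ := by group
    _ = a * (c * (a⁻¹ * v * a⁻¹⁻¹)) * a⁻¹ := by rw [h2]
    _ = a * c * a⁻¹ * v := by group

omit [Finite G] in
theorem conjx_C {c : G} (hc : c ∈ Subgroup.centralizer (W : Set G)) :
    x * c * x⁻¹ ∈ Subgroup.centralizer (W : Set G) := by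
  rw [Subgroup.mem_centralizer_iff] at hc ⊢
  intro v hv
  have h2 := hc _ (h.nxi hv)
  calc v * (x * c * x⁻¹) = x * ((x⁻¹ * v * x) * c) * x⁻¹ := by group
    _ = x * (c * (x⁻¹ * v * x)) * x⁻¹ := by rw [h2]
    _ = x * c * x⁻¹ * v := by group

omit [Finite G] in
/-- `b` inverts the action of `x`. -/
theorem b_conj {u : G} (hu : u ∈ W) : b * (x * u * x⁻¹) * b⁻¹ = x⁻¹ * (b * u * b⁻¹) * x := by
  have h1 := cz h.hbx (h.nxi (h.nA b h.hb u hu))
  calc b * (x * u * x⁻¹) * b⁻¹ =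
      (b * x * b⁻¹ * x) * (x⁻¹ * (b * u * b⁻¹) * x) * (b * x * b⁻¹ * x)⁻¹ := by group
    _ = _ := h1

/-- `|X₀|² ≤ |X|`. -/
theorem card_sq {X X₀ : Subgroup G} (hXW : X ≤ W) (hX₀ : X₀ ≤ X) (hXx : ∀ v ∈ X, x * v * x⁻¹ ∈ X)
    (hb₀ : ∀ v ∈ X₀, b * v * b⁻¹ = v) : Nat.card X₀ * Nat.card X₀ ≤ Nat.card X := by
  rw [← Nat.card_prod]
  let f : X₀ × X₀ → X := fun p => ⟨p.1 * (x * p.2 * x⁻¹), mul_mem (hX₀ p.1.2) (hXx _ (hX₀ p.2.2))⟩
  refine Nat.card_le_card_of_injective f ?_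
  rintro ⟨⟨u, hu⟩, ⟨v, hv⟩⟩ ⟨⟨u', hu'⟩, ⟨v', hv'⟩⟩ heq
  have heq' : u * (x * v * x⁻¹) = u' * (x * v' * x⁻¹) := congrArg Subtype.val heq
  have ht : u'⁻¹ * u = x * (v' * v⁻¹) * x⁻¹ := by
    calc u'⁻¹ * u = u'⁻¹ * (u * (x * v * x⁻¹)) * (x * v * x⁻¹)⁻¹ := by group
      _ = u'⁻¹ * (u' * (x * v' * x⁻¹)) * (x * v * x⁻¹)⁻¹ := by rw [heq']
      _ = x * (v' * v⁻¹) * x⁻¹ := by group
  have htX : u'⁻¹ * u ∈ X₀ := mul_mem (inv_mem hu') hu
  have hsX : v' * v⁻¹ ∈ X₀ := mul_mem hv' (inv_mem hv)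
  have hsW : v' * v⁻¹ ∈ W := hXW (hX₀ hsX)
  have h1 := h.b_conj hsW
  rw [hb₀ _ hsX, h.inv_conj hsW, ← ht, hb₀ _ htX] at h1
  have ht1 : u'⁻¹ * u = 1 := h.fpf _ (hXW (hX₀ htX)) h1.symm
  have hu2 : u = u' := by
    rw [inv_mul_eq_one] at ht1
    exact ht1.symm
  rw [ht1] at ht
  have hs1 : v' * v⁻¹ = 1 := by
    have e : v' * v⁻¹ = x⁻¹ * (x * (v' * v⁻¹) * x⁻¹) * x := by group
    rw [e, ← ht]
    group
  have hv2 : v = v' := by
    rw [mul_inv_eq_one] at hs1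
    exact hs1.symm
  subst hu2
  subst hv2
  rfl

/-- **`|W| ≤ 4`**. -/
theorem card_le_four : Nat.card W ≤ 4 := by
  by_cases hW : W = ⊥
  · rw [hW]
    simp
  have hAP : IsPGroup 2 A := fun a => ⟨1, Subtype.ext (by simpa using h.eaA.2 a a.2)⟩
  have hWP : IsPGroup 2 W := fun a => ⟨1, Subtype.ext (by simpa using h.ea.2 a a.2)⟩
  have hcA : ∀ {a c : G}, a ∈ A → c ∈ A → a * c = c * a := fun ha hc => ea_comm h.eaA ha hc
  obtain ⟨A₁, hA₁⟩ : ∃ A₁ : Subgroup G, ∀ a, a ∈ A₁ ↔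
      a ∈ A ∧ a * x * a⁻¹ * x⁻¹ ∈ Subgroup.centralizer (W : Set G) := by
    refine ⟨{ carrier := {a | a ∈ A ∧ a * x * a⁻¹ * x⁻¹ ∈ Subgroup.centralizer (W : Set G)}
              mul_mem' := ?_, one_mem' := ?_, inv_mem' := ?_ }, fun a => Iff.rfl⟩
    · rintro a c ⟨ha, ha'⟩ ⟨hc, hc'⟩
      refine ⟨mul_mem ha hc, ?_⟩
      have e : (a * c) * x * (a * c)⁻¹ * x⁻¹ = (a * (c * x * c⁻¹ * x⁻¹) * a⁻¹) * (a * x * a⁻¹ * x⁻¹) := by group
      rw [e]
      exact mul_mem (h.conjA_C ha hc') ha'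
    · refine ⟨one_mem _, ?_⟩
      simp [one_mem]
    · rintro a ⟨ha, ha'⟩
      refine ⟨inv_mem ha, ?_⟩
      have e : a⁻¹ * x * a⁻¹⁻¹ * x⁻¹ = a⁻¹ * (a * x * a⁻¹ * x⁻¹)⁻¹ * a⁻¹⁻¹ := by group
      rw [e]
      exact h.conjA_C (inv_mem ha) (inv_mem ha')
  have hA₁A : A₁ ≤ A := fun a ha => ((hA₁ a).mp ha).1
  -- `b ∉ A₁`
  have hbA₁ : b ∉ A₁ := by
    intro hb1
    obtain ⟨-, h1⟩ := (hA₁ b).mp hb1
    have hx2 : x ^ 2 ∈ Subgroup.centralizer (W : Set G) := by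
      have e : x ^ 2 = (b * x * b⁻¹ * x⁻¹)⁻¹ * (b * x * b⁻¹ * x) := by
        rw [pow_two]
        group
      rw [e]
      exact mul_mem (inv_mem h1) h.hbx
    have hx1 : x ∈ Subgroup.centralizer (W : Set G) := by
      have e : x = x ^ 3 * (x ^ 2)⁻¹ := by group
      rw [e]
      exact mul_mem h.x3 (inv_mem hx2)
    apply hW
    rw [eq_bot_iff]
    intro w hw
    exact h.fpf w hw (cz hx1 hw)
  have hcases : ∀ a ∈ A, a ∈ A₁ ∨ a * b ∈ A₁ := by
    intro a ha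
    rcases h.hA2 a ha with h1 | h1
    · exact Or.inl ((hA₁ a).mpr ⟨ha, h1⟩)
    · right
      refine (hA₁ _).mpr ⟨mul_mem ha h.hb, ?_⟩
      have e : (a * b) * x * (a * b)⁻¹ * x⁻¹ =
          (a * (b * x * b⁻¹ * x) * a⁻¹) * (x * (a * x * a⁻¹ * x)⁻¹ * x⁻¹) := by group
      rw [e]
      exact mul_mem (h.conjA_C ha h.hbx) (h.conjx_C (inv_mem h1))
  -- `|A| = 2 |A₁|`
  have hcardA : Nat.card A = Nat.card A₁ * 2 := by
    have hi : (A₁.subgroupOf A).index = 2 := by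
      rw [Subgroup.index_eq_two_iff]
      refine ⟨⟨b, h.hb⟩, fun y => ?_⟩
      rw [Subgroup.mem_subgroupOf, Subgroup.mem_subgroupOf]
      show Xor' ((y : G) * b ∈ A₁) ((y : G) ∈ A₁)
      by_cases hy : (y : G) ∈ A₁
      · refine Or.inr ⟨hy, fun hyb => hbA₁ ?_⟩
        have e : b = (y : G)⁻¹ * ((y : G) * b) := by group
        rw [e]
        exact mul_mem (inv_mem hy) hyb
      · exact Or.inl ⟨(hcases y y.2).resolve_left hy, hy⟩
    have h2 := Subgroup.card_mul_index (A₁.subgroupOf A)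
    rw [hi] at h2
    rw [← h2]
    congr 1
    exact Nat.card_congr (Subgroup.subgroupOfEquivOfLe hA₁A).toEquiv
  -- `X = C_W(A₁)`
  set X : Subgroup G := W ⊓ Subgroup.centralizer (A₁ : Set G) with hX
  set W₁ : Subgroup G := W ⊓ Subgroup.centralizer (A : Set G) with hW₁
  have hW₁X : W₁ ≤ X := inf_le_inf_left _ (Subgroup.centralizer_le hA₁A)
  have hA₁x : ∀ {a u : G}, a ∈ A₁ → u ∈ W → a * (x * u * x⁻¹) * a⁻¹ = x * (a * u * a⁻¹) * x⁻¹ := by
    intro a u ha hu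
    obtain ⟨ha1, ha2⟩ := (hA₁ a).mp ha
    have h1 := cz ha2 (h.nx _ (h.nA a ha1 u hu))
    calc a * (x * u * x⁻¹) * a⁻¹ =
        (a * x * a⁻¹ * x⁻¹) * (x * (a * u * a⁻¹) * x⁻¹) * (a * x * a⁻¹ * x⁻¹)⁻¹ := by group
      _ = _ := h1
  have hfixconj : ∀ {a u : G}, u ∈ Subgroup.centralizer (A₁ : Set G) → a ∈ A₁ → a * u * a⁻¹ = u := by
    intro a u hu ha
    have := Subgroup.mem_centralizer_iff.mp hu a ha
    rw [this]
    group
  have hXx : ∀ v ∈ X, x * v * x⁻¹ ∈ X := by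
    intro v hv
    obtain ⟨hv1, hv2⟩ := Subgroup.mem_inf.mp hv
    refine Subgroup.mem_inf.mpr ⟨h.nx v hv1, ?_⟩
    rw [Subgroup.mem_centralizer_iff]
    intro a ha
    have := hA₁x ha hv1
    rw [hfixconj hv2 ha] at this
    exact mul_inv_eq_iff_eq_mul.mp this
  have hbW₁ : ∀ v ∈ W₁, b * v * b⁻¹ = v := by
    intro v hv
    have := Subgroup.mem_centralizer_iff.mp (Subgroup.mem_inf.mp hv).2 b h.hb
    rw [this]
    group
  have h1 := h.card_sq (inf_le_left : X ≤ W) hW₁X hXx hbW₁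
  have h2 := h.best.1 A₁ hA₁A
  rw [hcardA] at h2
  have hA₁pos : 0 < Nat.card A₁ := Nat.card_pos
  have hW₁pos : 0 < Nat.card W₁ := Nat.card_pos
  have hX2 : Nat.card X ≤ 2 * Nat.card W₁ := by
    refine Nat.le_of_mul_le_mul_left ?_ hA₁pos
    calc Nat.card A₁ * Nat.card X ≤ Nat.card A₁ * 2 * Nat.card W₁ := h2
      _ = Nat.card A₁ * (2 * Nat.card W₁) := by ring
  have hW₁2 : Nat.card W₁ ≤ 2 := by
    by_contra hcon
    push Not at hcon
    nlinarith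
  -- the fixed point
  obtain ⟨z, hz, hz1, hzf⟩ := exists_fixed_two hAP hWP h.nA hW
  have hzW₁ : z ∈ W₁ := by
    refine Subgroup.mem_inf.mpr ⟨hz, ?_⟩
    rw [Subgroup.mem_centralizer_iff]
    intro a ha
    exact mul_inv_eq_iff_eq_mul.mp (hzf a ha)
  have hzcases : ∀ v ∈ W₁, v = 1 ∨ v = z := fun v hv => two_cases hW₁2 hzW₁ hz1 hv
  -- `W₀ = C_W(b)`
  obtain ⟨W₀, hW₀⟩ : ∃ W₀ : Subgroup G, ∀ v, v ∈ W₀ ↔ v ∈ W ∧ b * v * b⁻¹ = v := by
    refine ⟨{ carrier := {v | v ∈ W ∧ b * v * b⁻¹ = v}, mul_mem' := ?_, one_mem' := ?_, inv_mem' := ?_ },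
      fun v => Iff.rfl⟩
    · rintro u v ⟨hu, hu'⟩ ⟨hv, hv'⟩
      refine ⟨mul_mem hu hv, ?_⟩
      have e : b * (u * v) * b⁻¹ = (b * u * b⁻¹) * (b * v * b⁻¹) := by group
      rw [e, hu', hv']
    · exact ⟨one_mem _, by simp⟩
    · rintro u ⟨hu, hu'⟩
      refine ⟨inv_mem hu, ?_⟩
      have e : b * u⁻¹ * b⁻¹ = (b * u * b⁻¹)⁻¹ := by group
      rw [e, hu']
  have hW₀W : W₀ ≤ W := fun v hv => ((hW₀ v).mp hv).1
  have hn₀ : ∀ a ∈ A₁, ∀ v ∈ W₀, a * v * a⁻¹ ∈ W₀ := by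
    intro a ha v hv
    obtain ⟨hv1, hv2⟩ := (hW₀ v).mp hv
    refine (hW₀ _).mpr ⟨h.nA a (hA₁A ha) v hv1, ?_⟩
    have hab : b * a = a * b := hcA h.hb (hA₁A ha)
    calc b * (a * v * a⁻¹) * b⁻¹ = (b * a) * v * (b * a)⁻¹ := by group
      _ = (a * b) * v * (a * b)⁻¹ := by rw [hab]
      _ = a * (b * v * b⁻¹) * a⁻¹ := by group
      _ = a * v * a⁻¹ := by rw [hv2]
  have huniq₀ : ∀ v ∈ W₀, (∀ a ∈ A₁, a * v * a⁻¹ = v) → v = 1 ∨ v = z := by
    intro v hv hfix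
    obtain ⟨hv1, hv2⟩ := (hW₀ v).mp hv
    refine hzcases v (Subgroup.mem_inf.mpr ⟨hv1, ?_⟩)
    rw [Subgroup.mem_centralizer_iff]
    intro a ha
    rcases hcases a ha with h3 | h3
    · exact mul_inv_eq_iff_eq_mul.mp (hfix a h3)
    · have h4 := hfix _ h3
      have e : (a * b) * v * (a * b)⁻¹ = a * (b * v * b⁻¹) * a⁻¹ := by group
      rw [e, hv2] at h4
      exact mul_inv_eq_iff_eq_mul.mp h4
  have hbound := card_bound (V := W₀) (B := A₁) (z := z) (ea_mono h.ea hW₀W) (IsPGroup.to_le hAP hA₁A)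
    (fun a ha c hc => hcA (hA₁A ha) (hA₁A hc)) hn₀ ((hW₀ z).mpr ⟨hz, hzf b h.hb⟩) hz1
    (fun a ha => hzf a (hA₁A ha)) huniq₀
  -- `A₀ = A₁ ⊓ C(W₀)` centralizes `W`
  set A₀ : Subgroup G := A₁ ⊓ Subgroup.centralizer (W₀ : Set G) with hA₀
  have hA₀W₀ : ∀ {t v : G}, t ∈ A₀ → v ∈ W₀ → t * v * t⁻¹ = v := by
    intro t v ht hv
    have := Subgroup.mem_centralizer_iff.mp (Subgroup.mem_inf.mp ht).2 v hv
    rw [← this]
    group
  have hN : ∀ {u : G}, u ∈ W → u * (b * u * b⁻¹) ∈ W₀ := by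
    intro u hu
    have hu' : b * u * b⁻¹ ∈ W := h.nA b h.hb u hu
    refine (hW₀ _).mpr ⟨mul_mem hu hu', ?_⟩
    have hb2 : b * b = 1 := h.sqA h.hb
    have e : b * (u * (b * u * b⁻¹)) * b⁻¹ = (b * u * b⁻¹) * ((b * b) * u * (b * b)⁻¹) := by group
    rw [e, hb2]
    simp only [one_mul, inv_one, mul_one]
    exact h.comm hu' hu
  have htrace : ∀ {v : G}, v ∈ W → v * (x * v * x⁻¹) * (x * (x * v * x⁻¹) * x⁻¹) = 1 := by
    intro v hv
    have h1' := h.nx v hv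
    have h2' := h.nx _ h1'
    refine h.fpf _ (mul_mem (mul_mem hv h1') h2') ?_
    have h3' : x * (x * (x * v * x⁻¹) * x⁻¹) * x⁻¹ = v := by
      calc x * (x * (x * v * x⁻¹) * x⁻¹) * x⁻¹ = x ^ 3 * v * (x ^ 3)⁻¹ := by
            rw [pow_three]
            group
        _ = v := cz h.x3 hv
    calc x * (v * (x * v * x⁻¹) * (x * (x * v * x⁻¹) * x⁻¹)) * x⁻¹ =
        (x * v * x⁻¹) * (x * (x * v * x⁻¹) * x⁻¹) * (x * (x * (x * v * x⁻¹) * x⁻¹) * x⁻¹) := by group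
      _ = (x * v * x⁻¹) * (x * (x * v * x⁻¹) * x⁻¹) * v := by rw [h3']
      _ = v * ((x * v * x⁻¹) * (x * (x * v * x⁻¹) * x⁻¹)) := h.comm (mul_mem h1' h2') hv
      _ = _ := by group
  have hA₀W : ∀ {t v : G}, t ∈ A₀ → v ∈ W → t * v * t⁻¹ = v := by
    intro t v ht hv
    have htA₁ : t ∈ A₁ := (Subgroup.mem_inf.mp ht).1
    have h1' := h.nx v hv
    have h2' := h.nx _ h1'
    have hv' : b * v * b⁻¹ ∈ W := h.nA b h.hb v hv
    have hv'1 := h.nx _ hv'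
    have hv'2 := h.nx _ hv'1
    set v₁ := x * v * x⁻¹ with hv₁
    set v₂ := x * v₁ * x⁻¹ with hv₂
    set u := b * v * b⁻¹ with hu
    set u₂ := x * (x * u * x⁻¹) * x⁻¹ with hu₂
    have hN₁ := hN h1'
    have hN₀ := hN hv
    have e1 : b * v₁ * b⁻¹ = u₂ := by
      rw [hv₁, h.b_conj hv, h.inv_conj hv', hu₂]
    rw [e1] at hN₁
    rw [← hu] at hN₀
    have hf1 := hA₀W₀ ht hN₁
    have hf0 := hA₀W₀ ht hN₀
    have e2 : x * (x * (v * u) * x⁻¹) * x⁻¹ = v₂ * u₂ := by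
      rw [hv₂, hv₁, hu₂]
      group
    have hf2 : t * (v₂ * u₂) * t⁻¹ = v₂ * u₂ := by
      rw [← e2, hA₁x htA₁ (h.nx _ (mul_mem hv hv')), hA₁x htA₁ (mul_mem hv hv'), hf0]
    have e3 : v = (v₁ * u₂) * (v₂ * u₂) := by
      have h5 : u₂ * u₂ = 1 := h.sq hv'2
      have h6 := htrace hv
      have h7 : v * v = 1 := h.sq hv
      have h8 : v₁ * v₂ = v := by
        calc v₁ * v₂ = v * v * (v₁ * v₂) := by rw [h7, one_mul]
          _ = v * (v * v₁ * v₂) := by group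
          _ = v := by rw [h6, mul_one]
      calc v = v₁ * v₂ := h8.symm
        _ = v₁ * (u₂ * u₂) * v₂ := by rw [h5, mul_one]
        _ = v₁ * u₂ * (u₂ * v₂) := by group
        _ = v₁ * u₂ * (v₂ * u₂) := by rw [h.comm hv'2 h2']
    calc t * v * t⁻¹ = t * ((v₁ * u₂) * (v₂ * u₂)) * t⁻¹ := by rw [← e3]
      _ = (t * (v₁ * u₂) * t⁻¹) * (t * (v₂ * u₂) * t⁻¹) := by group
      _ = (v₁ * u₂) * (v₂ * u₂) := by rw [hf1, hf2]
      _ = v := e3.symm
  have hA₀A : A₀ ≤ A := inf_le_left.trans hA₁A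
  have h3 := h.best.1 A₀ hA₀A
  have hWeq : W ⊓ Subgroup.centralizer (A₀ : Set G) = W := by
    refine inf_eq_left.mpr fun v hv => ?_
    rw [Subgroup.mem_centralizer_iff]
    intro t ht
    exact mul_inv_eq_iff_eq_mul.mp (hA₀W ht hv)
  rw [hWeq, hcardA] at h3
  have hA₀pos : 0 < Nat.card A₀ := Nat.card_pos
  have hW₀pos : 0 < Nat.card W₀ := Nat.card_pos
  have h4 : Nat.card W ≤ 2 * Nat.card W₀ := by
    refine Nat.le_of_mul_le_mul_left ?_ hA₀pos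
    calc Nat.card A₀ * Nat.card W ≤ Nat.card A₁ * 2 * Nat.card W₁ := h3
      _ ≤ Nat.card A₁ * 2 * 2 := Nat.mul_le_mul_left _ hW₁2
      _ ≤ Nat.card A₀ * Nat.card W₀ * 2 := Nat.mul_le_mul_right _ hbound
      _ = Nat.card A₀ * (2 * Nat.card W₀) := by ring
  have h5 := h.card_sq (le_refl W) hW₀W (fun v hv => h.nx v hv) (fun v hv => ((hW₀ v).mp hv).2)
  have h6 : Nat.card W₀ ≤ 2 := by
    by_contra hcon
    push Not at hcon
    nlinarith
  omega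

end SW

end Cfsg.Agent.Lib.Amalgam.SmallW
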