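import Mathlib
import Cfsg.Agent.Lib.Amalgam.JSub
import Cfsg.Agent.Lib.Amalgam.SmallW

/-!
# Existence of `J(T)`-components
-/

set_option autoImplicit false

namespace Cfsg.Agent.Lib.Amalgam.JExist

open Cfsg Cfsg.Agent.Lib.PGroup.ThompsonG Cfsg.Agent.Lib.Amalgam.JComp Cfsg.Agent.Lib.Amalgam.JLocal
open Cfsg.Agent.Lib.Amalgam.FFLocal Cfsg.Agent.Lib.Amalgam.JZero Cfsg.Agent.Lib.Amalgam.JSub
open Cfsg.Agent.Lib.Amalgam.Vertex (conj_mem_pCoreOf pCoreOf_le le_normalizer_pCoreOf)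

variable {G : Type*} [Group G] [Finite G]

/-- `K₁ = P ⟨x⟩`. -/
def k1 (P : Subgroup G) (x : G) : Subgroup G := P ⊔ Subgroup.zpowers x

/-- `K` is generated by the elements of odd order of `K₁`. -/
def kOf (P : Subgroup G) (x : G) : Subgroup G := Subgroup.closure {g | g ∈ k1 P x ∧ Odd (orderOf g)}

/-- `P` is a normal 2-subgroup of `P ⟨x⟩`, `x` of order 3. -/
structure Pre (P : Subgroup G) (x : G) : Prop where
  hP : IsPGroup 2 P
  hxP : x ∈ Subgroup.normalizer (P : Set G)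
  hx3 : x ^ 3 = 1
  hx1 : x ∉ P

namespace Pre

variable {P : Subgroup G} {x : G} (h : Pre P x)
include h

theorem x_ne_one : x ≠ 1 := fun e => h.hx1 (e ▸ one_mem _)

theorem order_x : orderOf x = 3 := by
  haveI : Fact (Nat.Prime 3) := ⟨by norm_num⟩
  exact orderOf_eq_prime h.hx3 h.x_ne_one

theorem conj_x {p : G} (hp : p ∈ P) : x * p * x⁻¹ ∈ P := (Subgroup.mem_normalizer_iff.mp h.hxP p).mp hp

theorem conj_xi {p : G} (hp : p ∈ P) : x⁻¹ * p * x ∈ P := by
  have := (Subgroup.mem_normalizer_iff.mp (inv_mem h.hxP) p).mp hp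
  simpa using this

theorem inv_eq : x⁻¹ = x * x := by
  have h3 : x * x * x = 1 := by
    have := h.hx3
    rwa [pow_three, ← mul_assoc] at this
  exact inv_eq_of_mul_eq_one_left h3

omit h in
theorem P_le_k1 : P ≤ k1 P x := le_sup_left

omit h in
theorem x_mem_k1 : x ∈ k1 P x := Subgroup.mem_sup_right (Subgroup.mem_zpowers x)

theorem k1_form {g : G} (hg : g ∈ k1 P x) : ∃ p ∈ P, g = p ∨ g = p * x ∨ g = p * x⁻¹ := by
  have hz : Subgroup.zpowers x ≤ Subgroup.normalizer (P : Set G) := Subgroup.zpowers_le.mpr h.hxP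
  obtain ⟨p, hp, j, hj, rfl⟩ := Cfsg.Agent.S2941.exists_mul_of_mem_sup (K := P) (J := Subgroup.zpowers x)
    (fun j hj k hk => (Subgroup.mem_normalizer_iff.mp (hz hj) k).mp hk) hg
  refine ⟨p, hp, ?_⟩
  obtain ⟨i, rfl⟩ := hj
  have hi : x ^ i = x ^ (i % 3) := by
    have hxz : x ^ (3 : ℤ) = 1 := by exact_mod_cast h.hx3
    conv_lhs => rw [← Int.emod_add_mul_ediv i 3, zpow_add, zpow_mul, hxz, one_zpow, mul_one]
  simp only [hi]
  have h3 : i % 3 = 0 ∨ i % 3 = 1 ∨ i % 3 = 2 := by omega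
  rcases h3 with h3 | h3 | h3
  · left; rw [h3]; simp
  · right; left; rw [h3]; simp
  · right; right
    rw [h3, h.inv_eq]
    simp [pow_two]

theorem cube_mem {g : G} (hg : g ∈ k1 P x) : g ^ 3 ∈ P := by
  obtain ⟨p, hp, rfl | rfl | rfl⟩ := h.k1_form hg
  · exact pow_mem hp 3
  · have e : (p * x) ^ 3 = p * (x * p * x⁻¹) * (x * (x * p * x⁻¹) * x⁻¹) * x ^ 3 := by
      rw [pow_three, pow_three]
      group
    rw [e, h.hx3, mul_one]
    exact mul_mem (mul_mem hp (h.conj_x hp)) (h.conj_x (h.conj_x hp))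
  · have e : (p * x⁻¹) ^ 3 = p * (x⁻¹ * p * x) * (x⁻¹ * (x⁻¹ * p * x) * x) * (x ^ 3)⁻¹ := by
      rw [pow_three, pow_three]
      group
    rw [e, h.hx3, inv_one, mul_one]
    exact mul_mem (mul_mem hp (h.conj_xi hp)) (h.conj_xi (h.conj_xi hp))

/-- A 2-element of `K₁` lies in `P`. -/
theorem mem_of_two {g : G} (hg : g ∈ k1 P x) {n : ℕ} (hn : g ^ 2 ^ n = 1) : g ∈ P :=
  mem_of_coprime_pow (a := 3) (b := 2 ^ n) (Nat.Coprime.pow_right n (by norm_num)) (h.cube_mem hg)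
    (by rw [hn]; exact one_mem _)

omit h in
theorem k_le : kOf P x ≤ k1 P x := (Subgroup.closure_le _).mpr fun _ hg => hg.1

theorem x_mem : x ∈ kOf P x := by
  refine Subgroup.subset_closure ⟨x_mem_k1, ?_⟩
  rw [h.order_x]
  decide

theorem xi_mem : x⁻¹ ∈ kOf P x := inv_mem h.x_mem

theorem k_form {g : G} (hg : g ∈ kOf P x) : ∃ p ∈ kOf P x ⊓ P, g = p ∨ g = p * x ∨ g = p * x⁻¹ := by
  obtain ⟨p, hp, h1⟩ := h.k1_form (k_le hg)
  refine ⟨p, Subgroup.mem_inf.mpr ⟨?_, hp⟩, h1⟩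
  rcases h1 with rfl | rfl | rfl
  · exact hg
  · have e : p = p * x * x⁻¹ := by group
    rw [e]
    exact mul_mem hg h.xi_mem
  · have e : p = p * x⁻¹ * x := by group
    rw [e]
    exact mul_mem hg h.x_mem

omit [Finite G] h in
/-- An element normalizing `K₁` normalizes `K`. -/
theorem conj_k [Finite G] {n : G} (hn : n ∈ Subgroup.normalizer (k1 P x : Set G)) :
    n ∈ Subgroup.normalizer (kOf P x : Set G) := by
  refine mem_normalizer_of_conj_le ?_
  have hle : kOf P x ≤ (kOf P x).comap (MulAut.conj n).toMonoidHom := by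
    refine (Subgroup.closure_le _).mpr ?_
    rintro g ⟨hg, hodd⟩
    refine Subgroup.subset_closure ⟨(Subgroup.mem_normalizer_iff.mp hn g).mp hg, ?_⟩
    have : orderOf (n * g * n⁻¹) = orderOf g := (MulAut.conj n).orderOf_eq g
    show Odd (orderOf (n * g * n⁻¹))
    rwa [this]
  exact fun k hk => hle hk

theorem k1_le_normalizer : k1 P x ≤ Subgroup.normalizer (P : Set G) :=
  sup_le Subgroup.le_normalizer (Subgroup.zpowers_le.mpr h.hxP)

omit h in
theorem P_le_normalizer_k : P ≤ Subgroup.normalizer (kOf P x : Set G) := fun _ hp =>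
  conj_k (Subgroup.le_normalizer (P_le_k1 hp))

theorem k_le_normalizer : kOf P x ≤ Subgroup.normalizer (P : Set G) := k_le.trans h.k1_le_normalizer

/-- `O₂(K) = K ∩ P`. -/
theorem core_eq : pCoreOf 2 (kOf P x) = kOf P x ⊓ P := by
  apply le_antisymm
  · intro z hz
    refine Subgroup.mem_inf.mpr ⟨pCoreOf_le hz, ?_⟩
    obtain ⟨a, ha⟩ := (IsPGroup.iff_orderOf.mp (core_isP (K := kOf P x))) ⟨z, hz⟩
    rw [Subgroup.orderOf_mk] at ha
    exact h.mem_of_two (k_le (pCoreOf_le hz)) (n := a) (by rw [← ha, pow_orderOf_eq_one])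
  · refine le_pCoreOf inf_le_left (IsPGroup.to_le h.hP inf_le_right) fun l hl q hq => ?_
    obtain ⟨h1, h2⟩ := Subgroup.mem_inf.mp hq
    exact Subgroup.mem_inf.mpr ⟨mul_mem (mul_mem hl h1) (inv_mem hl),
      (Subgroup.mem_normalizer_iff.mp (h.k_le_normalizer hl) q).mp h2⟩

theorem index3 : (pCoreOf 2 (kOf P x)).relIndex (kOf P x) = 3 := by
  rw [h.core_eq]
  set K := kOf P x with hK
  have hn : ((K ⊓ P).subgroupOf K).Normal := by
    constructor
    intro n hn c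
    rw [Subgroup.mem_subgroupOf] at hn ⊢
    obtain ⟨h1, h2⟩ := Subgroup.mem_inf.mp hn
    exact Subgroup.mem_inf.mpr ⟨mul_mem (mul_mem c.2 h1) (inv_mem c.2),
      (Subgroup.mem_normalizer_iff.mp (h.k_le_normalizer c.2) n).mp h2⟩
  let π := QuotientGroup.mk' ((K ⊓ P).subgroupOf K)
  have hπ : ∀ k : K, π k = 1 ↔ (k : G) ∈ K ⊓ P := fun k => by
    rw [QuotientGroup.mk'_apply, QuotientGroup.eq_one_iff, Subgroup.mem_subgroupOf]
  let X : K := ⟨x, h.x_mem⟩
  have hX1 : π X ≠ 1 := fun e => h.hx1 (Subgroup.mem_inf.mp ((hπ X).mp e)).2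
  have hX3 : π X ^ 3 = 1 := by
    rw [← map_pow]
    have : X ^ 3 = 1 := Subtype.ext (by simpa [X] using h.hx3)
    rw [this, map_one]
  haveI : Fact (Nat.Prime 3) := ⟨by norm_num⟩
  have hord : orderOf (π X) = 3 := orderOf_eq_prime hX3 hX1
  have htop : Subgroup.zpowers (π X) = ⊤ := by
    rw [eq_top_iff]
    intro q _
    obtain ⟨k, rfl⟩ := QuotientGroup.mk'_surjective _ q
    have hkeq : π k = π X ^ 0 ∨ π k = π X ^ 1 ∨ π k = π X ^ 2 := by
      obtain ⟨p, hp, h1⟩ := h.k_form k.2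
      have hpK : (p : G) ∈ K := (Subgroup.mem_inf.mp hp).1
      have hpi : π ⟨p, hpK⟩ = 1 := (hπ _).mpr hp
      rcases h1 with h1 | h1 | h1
      · left
        have : k = ⟨p, hpK⟩ := Subtype.ext h1
        rw [this, hpi, pow_zero]
      · right; left
        have : k = ⟨p, hpK⟩ * X := Subtype.ext h1
        rw [this, map_mul, hpi, one_mul, pow_one]
      · right; right
        have : k = ⟨p, hpK⟩ * X⁻¹ := Subtype.ext h1
        rw [this, map_mul, hpi, one_mul, map_inv]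
        refine inv_eq_of_mul_eq_one_right ?_
        rw [← pow_succ']
        exact hX3
    show π k ∈ Subgroup.zpowers (π X)
    rcases hkeq with e | e | e <;> rw [e] <;> exact pow_mem (Subgroup.mem_zpowers _) _
  have hcard : Nat.card (K ⧸ ((K ⊓ P).subgroupOf K)) = 3 := by
    rw [← hord, ← Nat.card_zpowers, htop]
    exact Subgroup.card_top.symm
  exact hcard

omit h [Finite G] in
theorem closure_odd : Subgroup.closure {g : G | g ∈ kOf P x ∧ Odd (orderOf g)} = kOf P x := by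
  apply le_antisymm
  · exact (Subgroup.closure_le _).mpr fun g hg => hg.1
  · refine Subgroup.closure_mono ?_
    rintro g ⟨hg, hodd⟩
    exact ⟨Subgroup.subset_closure ⟨hg, hodd⟩, hodd⟩

/-- `K = [K, J]`. -/
theorem comm_eq {Jn : Subgroup G} (hJ : Jn ≤ Subgroup.normalizer (kOf P x : Set G)) {b : G} (hb : b ∈ Jn)
    (hbx : b * x * b⁻¹ = x⁻¹) : ⁅kOf P x, Jn⁆ = kOf P x := by
  set K := kOf P x with hK
  apply le_antisymm
  · rw [Subgroup.commutator_le]
    intro k hk j hj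
    rw [commutatorElement_def]
    have e : k * j * k⁻¹ * j⁻¹ = k * (j * k⁻¹ * j⁻¹) := by group
    rw [e]
    exact mul_mem hk ((Subgroup.mem_normalizer_iff.mp (hJ hj) _).mp (inv_mem hk))
  · -- `x ∈ [K, J]`
    have hxc : x ∈ ⁅K, Jn⁆ := by
      have h1 := Subgroup.commutator_mem_commutator h.x_mem hb
      rw [commutatorElement_def] at h1
      have e1 : x * b * x⁻¹ * b⁻¹ = x * x := by
        have e2 : b * x⁻¹ * b⁻¹ = x := by
          have : b * x⁻¹ * b⁻¹ = (b * x * b⁻¹)⁻¹ := by group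
          rw [this, hbx, inv_inv]
        calc x * b * x⁻¹ * b⁻¹ = x * (b * x⁻¹ * b⁻¹) := by group
          _ = x * x := by rw [e2]
      rw [e1] at h1
      have e3 : x = (x * x) * (x * x) := by
        have h4 : (x * x) * (x * x) = x ^ 3 * x := by
          rw [pow_three]
          group
        rw [h4, h.hx3, one_mul]
      rw [e3]
      exact mul_mem h1 h1
    -- the core normalizes `[K, J]`
    have hYn : ∀ y ∈ K ⊓ P, ∀ c ∈ ⁅K, Jn⁆, y * c * y⁻¹ ∈ ⁅K, Jn⁆ := by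
      intro y hy c hc
      have hyK := (Subgroup.mem_inf.mp hy).1
      have hc' : c ∈ ⁅Jn, K⁆ := by
        rw [Subgroup.commutator_comm]
        exact hc
      have := conj_mem_commutator_right hyK hc'
      rw [Subgroup.commutator_comm] at this
      exact this
    have hYP : IsPGroup 2 (↥(K ⊓ P)) := IsPGroup.to_le h.hP inf_le_right
    conv_lhs => rw [hK]
    refine (Subgroup.closure_le _).mpr ?_
    rintro g ⟨hg, hodd⟩
    have hgK : g ∈ K := Subgroup.subset_closure ⟨hg, hodd⟩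
    obtain ⟨p, hp, h1⟩ := h.k_form hgK
    refine Cfsg.Agent.S2941.mem_of_odd_of_mem_sup hYP hYn ?_ hodd
    rcases h1 with rfl | rfl | rfl
    · exact Subgroup.mem_sup_right hp
    · have e : p * x = (p * x * p⁻¹) * p := by group
      rw [e]
      exact mul_mem (Subgroup.mem_sup_left (hYn p hp x hxc)) (Subgroup.mem_sup_right hp)
    · have e : p * x⁻¹ = (p * x⁻¹ * p⁻¹) * p := by group
      rw [e]
      exact mul_mem (Subgroup.mem_sup_left (hYn p hp _ (inv_mem hxc))) (Subgroup.mem_sup_right hp)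

theorem w_sq {w : G} (hw : w ∈ wOf (kOf P x)) : w * w = 1 := by
  rw [← pow_two]
  exact (mem_omegaCenterOf_iff.mp (w_le_omega hw)).2.2

omit h in
theorem w_ea : IsElementaryAbelian 2 (wOf (kOf P x)) := by
  refine ⟨⟨⟨?_⟩⟩, fun a ha => (mem_omegaCenterOf_iff.mp (w_le_omega ha)).2.2⟩
  rintro ⟨a, ha⟩ ⟨b, hb⟩
  apply Subtype.ext
  show a * b = b * a
  exact omega_comm (w_le_omega hb) (w_le_core ha)

/-- `x` has no fixed point on `W`. -/
theorem fpf_w {w : G} (hw : w ∈ wOf (kOf P x)) (hfix : x * w * x⁻¹ = w) : w = 1 := by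
  set K := kOf P x with hK
  set U := omegaCenterOf (pCoreOf 2 K) with hU
  have hxK : x ∈ K := h.x_mem
  have hxU : ∀ v ∈ U, x * v * x⁻¹ ∈ U := fun v hv =>
    conj_mem_omegaCenterOf (normalizer_pCoreOf (Subgroup.le_normalizer hxK)) hv
  have hcomm : ∀ a ∈ U, ∀ b ∈ U, a * b = b * a := fun a ha b hb => omega_comm hb (omega_le ha)
  have hsq : ∀ a ∈ U, a * a = 1 := fun a ha => by
    rw [← pow_two]
    exact (mem_omegaCenterOf_iff.mp ha).2.2
  let _ : CommGroup U := { (inferInstance : Group U) with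
    mul_comm := fun a b => Subtype.ext (hcomm a a.2 b b.2) }
  let c : U →* U :=
    { toFun := fun v => ⟨x * v * x⁻¹, hxU v v.2⟩
      map_one' := Subtype.ext (by simp)
      map_mul' := fun a b => Subtype.ext (by
        show x * (a * b) * x⁻¹ = (x * a * x⁻¹) * (x * b * x⁻¹)
        group) }
  have hc3 : ∀ v : U, c (c (c v)) = v := by
    intro v
    apply Subtype.ext
    show x * (x * (x * v * x⁻¹) * x⁻¹) * x⁻¹ = v
    have e : x * (x * (x * (v : G) * x⁻¹) * x⁻¹) * x⁻¹ = x ^ 3 * v * (x ^ 3)⁻¹ := by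
      rw [pow_three]
      group
    rw [e, h.hx3]
    simp
  let τ : U →* U :=
    { toFun := fun v => v * c v * c (c v)
      map_one' := by simp
      map_mul' := fun a b => by
        simp only [map_mul]
        rw [mul_mul_mul_comm a b, mul_mul_mul_comm (a * c a)] }
  have hτc : ∀ v : U, τ (c v) = τ v := by
    intro v
    show c v * c (c v) * c (c (c v)) = v * c v * c (c v)
    rw [hc3, mul_comm, mul_assoc]
  have hle : wOf K ≤ τ.ker.map U.subtype := by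
    unfold wOf
    rw [Subgroup.commutator_le]
    intro u hu k hk
    have hcore : ∀ {p v : G}, p ∈ K ⊓ P → v ∈ U → p * v * p⁻¹ = v := by
      intro p v hp hv
      have hp' : p ∈ pCoreOf 2 K := by rw [h.core_eq]; exact hp
      rw [omega_comm hv hp']
      group
    have hmem : ∀ v : U, (⟨u, hu⟩ : U) * v⁻¹ ∈ τ.ker → (u * (v : G)⁻¹) ∈ τ.ker.map U.subtype := fun v hv =>
      ⟨_, hv, rfl⟩
    obtain ⟨p, hp, h1 | h1 | h1⟩ := h.k_form hk
    · rw [h1, commutatorElement_def]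
      have e : u * p * u⁻¹ * p⁻¹ = u * (p * u⁻¹ * p⁻¹) := by group
      rw [e, hcore hp (inv_mem hu), mul_inv_cancel]
      exact one_mem _
    · rw [h1, commutatorElement_def]
      have e : u * (p * x) * u⁻¹ * (p * x)⁻¹ = u * (p * (x * u * x⁻¹) * p⁻¹)⁻¹ := by group
      rw [e, hcore hp (hxU u hu)]
      refine hmem (c ⟨u, hu⟩) ?_
      rw [MonoidHom.mem_ker, map_mul, map_inv, hτc, mul_inv_cancel]
    · rw [h1, commutatorElement_def]
      have e : u * (p * x⁻¹) * u⁻¹ * (p * x⁻¹)⁻¹ = u * (p * (x⁻¹ * u * x) * p⁻¹)⁻¹ := by group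
      have e2 : x⁻¹ * u * x = x * (x * u * x⁻¹) * x⁻¹ := by
        have h4 : x * x = x⁻¹ := h.inv_eq.symm
        have h5 : x⁻¹ * x⁻¹ = x := by rw [← mul_inv_rev, h4, inv_inv]
        calc x⁻¹ * u * x = (x * x) * u * (x⁻¹ * x⁻¹) := by rw [h4, h5]
          _ = _ := by group
      rw [e, e2, hcore hp (hxU _ (hxU u hu))]
      refine hmem (c (c ⟨u, hu⟩)) ?_
      rw [MonoidHom.mem_ker, map_mul, map_inv, hτc, hτc, mul_inv_cancel]
  obtain ⟨w', hw', rfl⟩ := hle hw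
  have hcw : c w' = w' := Subtype.ext hfix
  have h1 : τ w' = 1 := hw'
  have h2 : τ w' = w' * w' * w' := by
    show w' * c w' * c (c w') = _
    rw [hcw, hcw]
  have h3 : w' * w' = 1 := Subtype.ext (hsq w' w'.2)
  rw [h2, h3, one_mul] at h1
  exact congrArg Subtype.val h1

/-- `W ≠ 1` if `x` acts nontrivially on a central section of `P`. -/
theorem w_ne_bot {Om : Subgroup G} (hOm : ∀ v ∈ Om, v ∈ P ∧ (∀ p ∈ P, p * v = v * p) ∧ v ^ 2 = 1)
    (hxOm : ∀ v ∈ Om, x * v * x⁻¹ ∈ Om) (hne : ∃ v ∈ Om, x * v * x⁻¹ ≠ v) : wOf (kOf P x) ≠ ⊥ := by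
  intro hbot
  obtain ⟨v, hv, hvx⟩ := hne
  apply hvx
  set K := kOf P x with hK
  have hxK : x ∈ K := h.x_mem
  have hv2 : v⁻¹ = v := inv_eq_of_mul_eq_one_left (by rw [← pow_two]; exact (hOm v hv).2.2)
  set v₁ := x * v * x⁻¹ with hv₁
  set v₂ := x * v₁ * x⁻¹ with hv₂
  have hv₁O : v₁ ∈ Om := hxOm v hv
  have hv₂O : v₂ ∈ Om := hxOm _ hv₁O
  have hv₁2 : v₁ * v₁ = 1 := by rw [← pow_two]; exact (hOm _ hv₁O).2.2
  have hv3 : x * v₂ * x⁻¹ = v := by
    have e : x * v₂ * x⁻¹ = x ^ 3 * v * (x ^ 3)⁻¹ := by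
      rw [hv₂, hv₁, pow_three]
      group
    rw [e, h.hx3]
    simp
  set u := v * x * v⁻¹ * x⁻¹ with hu
  have hu1 : u = v * v₁ := by
    rw [hu, hv₁, hv2]
    group
  have huO : u ∈ Om := hu1 ▸ mul_mem hv hv₁O
  have huK : u ∈ K := by
    have h1 : v * x * v⁻¹ ∈ K :=
      (Subgroup.mem_normalizer_iff.mp (P_le_normalizer_k (hOm v hv).1) x).mp hxK
    exact mul_mem h1 (inv_mem hxK)
  have huY : u ∈ pCoreOf 2 K := by
    rw [h.core_eq]
    exact Subgroup.mem_inf.mpr ⟨huK, (hOm u huO).1⟩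
  have huU : u ∈ omegaCenterOf (pCoreOf 2 K) := by
    refine mem_omegaCenterOf_iff.mpr ⟨huY, fun y hy => ?_, (hOm u huO).2.2⟩
    rw [h.core_eq] at hy
    exact (hOm u huO).2.1 y (Subgroup.mem_inf.mp hy).2
  have h1 := Subgroup.commutator_mem_commutator huU hxK
  rw [commutatorElement_def] at h1
  have h2 : u * x * u⁻¹ * x⁻¹ ∈ wOf K := h1
  rw [hbot, Subgroup.mem_bot] at h2
  have hu2 : u⁻¹ = u := inv_eq_of_mul_eq_one_left (by rw [← pow_two]; exact (hOm u huO).2.2)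
  have e1 : u * x * u⁻¹ * x⁻¹ = v * v₂ := by
    have e2 : u * x * u⁻¹ * x⁻¹ = u * (x * u * x⁻¹) := by
      rw [hu2]
      group
    have e3 : x * u * x⁻¹ = v₁ * v₂ := by
      rw [hu1]
      calc x * (v * v₁) * x⁻¹ = (x * v * x⁻¹) * (x * v₁ * x⁻¹) := by group
        _ = v₁ * v₂ := by rw [← hv₁, ← hv₂]
    rw [e2, e3, hu1]
    calc v * v₁ * (v₁ * v₂) = v * (v₁ * v₁) * v₂ := by group
      _ = v * v₂ := by rw [hv₁2]; group
  rw [e1] at h2
  have h3 : v₂ = v := by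
    have : v₂ = v⁻¹ := eq_inv_of_mul_eq_one_right h2
    rw [this, hv2]
  rw [h3] at hv3
  exact hv3

end Pre

/-! ### Conjugating into `T` -/

section ConjT

variable {T S A : Subgroup G} {l : G}

omit [Finite G] in
theorem le_of_conj_le (hl : ∀ s ∈ S, l⁻¹ * s * l ∈ T) : S.map (MulAut.conj l⁻¹).toMonoidHom ≤ T := by
  rintro _ ⟨s, hs, rfl⟩
  have := hl s hs
  simpa using this

omit [Finite G] in
/-- A member of `𝒜(T)` inside a group conjugate into `T` is a member of `𝒜` of this group. -/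
theorem mem_gMaxEA_of_conj_le (hA : A ∈ gMaxEA 2 T) (hAS : A ≤ S) (hl : ∀ s ∈ S, l⁻¹ * s * l ∈ T) :
    A ∈ gMaxEA 2 S := by
  refine ⟨hAS, hA.2.1, fun B hB hBe => ?_⟩
  have h1 : B.map (MulAut.conj l⁻¹).toMonoidHom ≤ T := (Subgroup.map_mono hB).trans (le_of_conj_le hl)
  have h2 := hA.2.2 _ h1 (ea_map _ hBe)
  rwa [card_map_conj] at h2

/-- `J(S) = J(T)` if `J(T) ≤ S` and `S` is conjugate into `T`. -/
theorem thompson_eq_of_conj_le (hJS : thompsonSubgroupOf 2 T ≤ S) (hl : ∀ s ∈ S, l⁻¹ * s * l ∈ T) :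
    thompsonSubgroupOf 2 S = thompsonSubgroupOf 2 T := by
  have hA : ∀ A ∈ gMaxEA 2 T, A ∈ gMaxEA 2 S := fun A hA =>
    mem_gMaxEA_of_conj_le hA ((le_thompsonSubgroupOf hA).trans hJS) hl
  have h1 : thompsonSubgroupOf 2 T ≤ thompsonSubgroupOf 2 S := by
    rw [thompsonSubgroupOf_le_iff]
    exact fun A h => le_thompsonSubgroupOf (hA A h)
  refine (Subgroup.eq_of_le_of_card_ge h1 ?_).symm
  have h2 : (thompsonSubgroupOf 2 S).map (MulAut.conj l⁻¹).toMonoidHom ≤ thompsonSubgroupOf 2 T := by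
    rw [Subgroup.map_le_iff_le_comap, thompsonSubgroupOf_le_iff]
    intro B hB
    rw [← Subgroup.map_le_iff_le_comap]
    refine le_thompsonSubgroupOf ?_
    obtain ⟨A₀, hA₀⟩ := exists_mem_gMaxEA (p := 2) T
    refine ⟨(Subgroup.map_mono hB.1).trans (le_of_conj_le hl), ea_map _ hB.2.1, fun C hC hCe => ?_⟩
    rw [card_map_conj]
    exact (hA₀.2.2 C hC hCe).trans (hB.2.2 A₀ ((le_thompsonSubgroupOf hA₀).trans hJS) hA₀.2.1)
  calc Nat.card (thompsonSubgroupOf 2 S) =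
      Nat.card ((thompsonSubgroupOf 2 S).map (MulAut.conj l⁻¹).toMonoidHom) := (card_map_conj _ _).symm
    _ ≤ Nat.card (thompsonSubgroupOf 2 T) := Subgroup.card_le_of_le h2

end ConjT

/-! ### The set-up for the construction of a `J(T)`-component -/

/-- The data from which a `J(T)`-component is built. -/
structure XSetup (T L : Subgroup G) (F : Set (Subgroup G)) (E A : Subgroup G) (b x : G) : Prop where
  hL : LSetup T L
  hF : IsFF (omL L) L F
  hE : E ∈ F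
  hA : A ∈ gMaxEA 2 T
  hb : b ∈ A
  hbE : b ∈ E
  hbZ : b ∉ Subgroup.centralizer (omL L : Set G)
  hxE : x ∈ E
  hx1 : x ∉ Subgroup.centralizer (omL L : Set G)
  hx3 : x ^ 3 = 1
  hbx : b * x * b⁻¹ = x⁻¹

namespace XSetup

variable {T L : Subgroup G} {F : Set (Subgroup G)} {E A : Subgroup G} {b x : G} (h : XSetup T L F E A b x)
include h

theorem xL : x ∈ L := h.hF.le E h.hE h.hxE

theorem bL : b ∈ L := h.hF.le E h.hE h.hbE

theorem pre : Pre (pCoreOf 2 L) x :=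
  ⟨core_isP, le_normalizer_pCoreOf h.xL, h.hx3, fun hx => h.hx1 (Subgroup.mem_inf.mp (core_le_cL hx)).2⟩

theorem b_sq : b ^ 2 = 1 := h.hA.2.1.2 b h.hb

/-- `b` centralizes `C` modulo `O₂(L)`. -/
theorem comm_b_C {c : L} (hc : (c : G) ∈ cL L) : Commute (bar L c) (bar L ⟨b, h.bL⟩) :=
  bar_comm_of_mem (h.hL.comm_mem_core hc h.bL ⟨1, by simpa using h.b_sq⟩)

/-- `x` centralizes `C` modulo `O₂(L)`. -/
theorem comm_x_C {c : L} (hc : (c : G) ∈ cL L) : Commute (bar L ⟨x, h.xL⟩) (bar L c) := by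
  set X : L := ⟨x, h.xL⟩ with hX
  set B : L := ⟨b, h.bL⟩ with hB
  have h1 : B * X * B⁻¹ = X⁻¹ := Subtype.ext h.hbx
  have h2 : bar L B * bar L X * (bar L B)⁻¹ = (bar L X)⁻¹ := by
    have := congrArg (bar L) h1
    simpa [map_mul, map_inv] using this
  have h3 : bar L X ^ 3 = 1 := by
    rw [← map_pow]
    have : X ^ 3 = 1 := Subtype.ext (by simpa [hX] using h.hx3)
    rw [this, map_one]
  have hc1 := h.comm_b_C hc
  have hc2 : ((X * c * X⁻¹ : L) : G) ∈ cL L := conj_mem_cL h.xL hc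
  have hc3 := h.comm_b_C hc2
  rw [← hB, map_mul, map_mul, map_inv] at hc3
  rw [← hB] at hc1
  set X' := bar L X
  set B' := bar L B
  set C' := bar L c
  have hc1' : B' * C' * B'⁻¹ = C' := by
    rw [mul_inv_eq_iff_eq_mul]
    exact hc1.eq.symm
  have hc3' : B' * (X' * C' * X'⁻¹) * B'⁻¹ = X' * C' * X'⁻¹ := by
    rw [mul_inv_eq_iff_eq_mul]
    exact hc3.eq.symm
  have e1 : B' * (X' * C' * X'⁻¹) * B'⁻¹ = X'⁻¹ * C' * X' := by
    calc B' * (X' * C' * X'⁻¹) * B'⁻¹ =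
        (B' * X' * B'⁻¹) * (B' * C' * B'⁻¹) * (B' * X' * B'⁻¹)⁻¹ := by group
      _ = X'⁻¹ * C' * X' := by rw [h2, hc1']; group
  rw [e1] at hc3'
  have hx4 : X' * X' = X'⁻¹ := by
    refine eq_inv_of_mul_eq_one_left ?_
    rw [pow_three, ← mul_assoc] at h3
    exact h3
  have e3 : X' * X' * C' * (X' * X')⁻¹ = C' := by
    calc X' * X' * C' * (X' * X')⁻¹ = X' * (X' * C' * X'⁻¹) * X'⁻¹ := by group
      _ = X' * (X'⁻¹ * C' * X') * X'⁻¹ := by rw [← hc3']
      _ = C' := by group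
  rw [hx4, inv_inv] at e3
  have e4 : C' * X' = X' * (X'⁻¹ * C' * X') := by group
  show X' * C' = C' * X'
  rw [e4, e3]

/-- An element of `L` normalizing `E` moves `x` to `x^{±1}` modulo `O₂(L)`. -/
theorem conj_form {g : G} (hg : g ∈ L) (hgE : E.map (MulAut.conj g).toMonoidHom = E) :
    ∃ c ∈ pCoreOf 2 L, ∃ y : G, (y = x ∨ y = x⁻¹) ∧ g * x * g⁻¹ = c * y := by
  have hxL := h.xL
  have hbL := h.bL
  have hFZ := fun {r z : G} (hr : r ∈ L) (hz : z ∈ Subgroup.centralizer (omL L : Set G)) =>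
    h.hF.conj_mem_Z (r := r) (z := z) hr hz
  have hconjE : ∀ e ∈ E, g * e * g⁻¹ ∈ E := fun e he => by
    rw [← hgE]
    exact Subgroup.mem_map_of_mem _ he
  have hx'E := hconjE x h.hxE
  have hx3 : x ^ 3 ∈ Subgroup.centralizer (omL L : Set G) := by
    rw [h.hx3]
    exact one_mem _
  have hx1 := h.hx1
  have hx'3 : (g * x * g⁻¹) ^ 3 ∈ Subgroup.centralizer (omL L : Set G) := by
    rw [conj_pow]
    exact hFZ hg hx3
  have hnc : ∀ e : G, e ∉ Subgroup.centralizer (omL L : Set G) →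
      g * e * g⁻¹ ∉ Subgroup.centralizer (omL L : Set G) := by
    intro e he hc
    apply he
    have := hFZ (inv_mem hg) hc
    simpa [mul_assoc] using this
  have hEL := h.hF.le E h.hE
  have hfac : ∃ c ∈ cL L, ∃ y : G, (y = x ∨ y = x⁻¹) ∧ g * x * g⁻¹ = c * y := by
    rcases h.hF.cube_cases h.hE h.hxE hx'E hx3 hx1 hx'3 with h1 | h1 | h1
    · exact absurd h1 (hnc x hx1)
    · refine ⟨g * x * g⁻¹ * x⁻¹, Subgroup.mem_inf.mpr ⟨?_, h1⟩, x, Or.inl rfl, by group⟩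
      exact mul_mem (hEL hx'E) (inv_mem hxL)
    · refine ⟨g * x * g⁻¹ * x, Subgroup.mem_inf.mpr ⟨?_, h1⟩, x⁻¹, Or.inr rfl, by group⟩
      exact mul_mem (hEL hx'E) hxL
  obtain ⟨c, hc, y, hy, hxy⟩ := hfac
  have hbZ := h.hbZ
  have hb'E := hconjE b h.hbE
  have hb2 : b ^ 2 = 1 := h.b_sq
  have hb'2 : (g * b * g⁻¹) ^ 2 = 1 := by
    rw [conj_pow, hb2]
    group
  have hbi2 : b⁻¹ ^ 2 ∈ Subgroup.centralizer (omL L : Set G) := by
    rw [inv_pow, hb2, inv_one]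
    exact one_mem _
  have hbi1 : b⁻¹ ∉ Subgroup.centralizer (omL L : Set G) := fun hc' => hbZ (by simpa using inv_mem hc')
  have hcube := h.hF.cube_mul h.hE hb'E (inv_mem h.hbE) (by rw [hb'2]; exact one_mem _) (hnc b hbZ) hbi2 hbi1
  have hb'bL : g * b * g⁻¹ * b⁻¹ ∈ L := hEL (mul_mem hb'E (inv_mem h.hbE))
  have hfac2 : ∃ c' ∈ cL L, ∃ z : G, (z = 1 ∨ z = x ∨ z = x⁻¹) ∧ g * b * g⁻¹ = c' * z * b := by
    rcases h.hF.cube_cases h.hE h.hxE (mul_mem hb'E (inv_mem h.hbE)) hx3 hx1 hcube with h1 | h1 | h1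
    · exact ⟨g * b * g⁻¹ * b⁻¹, Subgroup.mem_inf.mpr ⟨hb'bL, h1⟩, 1, Or.inl rfl, by group⟩
    · refine ⟨g * b * g⁻¹ * b⁻¹ * x⁻¹, Subgroup.mem_inf.mpr ⟨mul_mem hb'bL (inv_mem hxL), h1⟩, x,
        Or.inr (Or.inl rfl), by group⟩
    · refine ⟨g * b * g⁻¹ * b⁻¹ * x, Subgroup.mem_inf.mpr ⟨mul_mem hb'bL hxL, h1⟩, x⁻¹,
        Or.inr (Or.inr rfl), by group⟩
  obtain ⟨c', hc', z, hz, hbz⟩ := hfac2
  have hyL : y ∈ L := by
    rcases hy with rfl | rfl
    · exact hxL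
    · exact inv_mem hxL
  have hzL : z ∈ L := by
    rcases hz with rfl | rfl | rfl
    · exact one_mem _
    · exact hxL
    · exact inv_mem hxL
  -- Pass to `L / O₂(L)`.
  set X : L := ⟨x, hxL⟩ with hX
  set B : L := ⟨b, hbL⟩ with hB
  set Gg : L := ⟨g, hg⟩ with hGg
  set Cc : L := ⟨c, cL_le hc⟩ with hCc
  set Cd : L := ⟨c', cL_le hc'⟩ with hCd
  set Yy : L := ⟨y, hyL⟩ with hYy
  set Zz : L := ⟨z, hzL⟩ with hZz
  have h1 : B * X * B⁻¹ = X⁻¹ := Subtype.ext h.hbx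
  have hbX : bar L B * bar L X * (bar L B)⁻¹ = (bar L X)⁻¹ := by
    have := congrArg (bar L) h1
    simpa [map_mul, map_inv] using this
  have hcX : Commute (bar L X) (bar L Cc) := h.comm_x_C hc
  have hdX : Commute (bar L X) (bar L Cd) := h.comm_x_C hc'
  have hzX : Commute (bar L Zz) (bar L X) := by
    rcases hz with rfl | rfl | rfl
    · have : Zz = 1 := rfl
      rw [this, map_one]
      exact Commute.one_left _
    · have : Zz = X := rfl
      rw [this]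
    · have : Zz = X⁻¹ := rfl
      rw [this, map_inv]
      exact (Commute.refl _).inv_left
  have hu : bar L (Gg * B * Gg⁻¹) = bar L Cd * bar L Zz * bar L B := by
    have : Gg * B * Gg⁻¹ = Cd * Zz * B := Subtype.ext hbz
    rw [this, map_mul, map_mul]
  set u := bar L (Gg * B * Gg⁻¹) with hudef
  have huX : u * bar L X * u⁻¹ = (bar L X)⁻¹ := by
    rw [hu]
    set D' := bar L Cd
    set Z' := bar L Zz
    set B' := bar L B
    set X' := bar L X
    have hdX' : X' * D' = D' * X' := hdX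
    have hzX' : Z' * X' = X' * Z' := hzX
    have hdXi : D' * X'⁻¹ = X'⁻¹ * D' := (Commute.symm hdX).inv_right
    have hzXi : Z' * X'⁻¹ = X'⁻¹ * Z' := hzX.inv_right
    calc D' * Z' * B' * X' * (D' * Z' * B')⁻¹ = D' * Z' * (B' * X' * B'⁻¹) * Z'⁻¹ * D'⁻¹ := by group
      _ = D' * (Z' * X'⁻¹) * Z'⁻¹ * D'⁻¹ := by rw [hbX]; group
      _ = D' * (X'⁻¹ * Z') * Z'⁻¹ * D'⁻¹ := by rw [hzXi]
      _ = (D' * X'⁻¹) * D'⁻¹ := by group
      _ = (X'⁻¹ * D') * D'⁻¹ := by rw [hdXi]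
      _ = X'⁻¹ := by group
  have hb'P : ∃ n : ℕ, ((Gg * B * Gg⁻¹ : L) : G) ^ 2 ^ n = 1 := ⟨1, by
    show (g * b * g⁻¹) ^ 2 ^ 1 = 1
    simpa using hb'2⟩
  have hcu : Commute (bar L Cc) u := bar_comm_of_mem (h.hL.comm_mem_core hc (Gg * B * Gg⁻¹).2 hb'P)
  have hcY : bar L Cc * bar L Yy = bar L Yy * bar L Cc := by
    rcases hy with rfl | rfl
    · have : Yy = X := rfl
      rw [this]
      exact hcX.symm
    · have : Yy = X⁻¹ := rfl
      rw [this, map_inv]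
      exact (hcX.inv_left).symm
  have huY : u * bar L Yy * u⁻¹ = (bar L Yy)⁻¹ := by
    rcases hy with rfl | rfl
    · have : Yy = X := rfl
      rw [this]
      exact huX
    · have : Yy = X⁻¹ := rfl
      rw [this, map_inv, inv_inv]
      have : u * (bar L X)⁻¹ * u⁻¹ = (u * bar L X * u⁻¹)⁻¹ := by group
      rw [this, huX, inv_inv]
  have hx' : bar L Gg * bar L X * (bar L Gg)⁻¹ = bar L Cc * bar L Yy := by
    have : Gg * X * Gg⁻¹ = Cc * Yy := Subtype.ext hxy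
    have h2 := congrArg (bar L) this
    simpa [map_mul, map_inv] using h2
  have huX' : u * (bar L Gg * bar L X * (bar L Gg)⁻¹) * u⁻¹ = (bar L Gg * bar L X * (bar L Gg)⁻¹)⁻¹ := by
    rw [hudef]
    simp only [map_mul, map_inv]
    calc bar L Gg * bar L B * (bar L Gg)⁻¹ * (bar L Gg * bar L X * (bar L Gg)⁻¹) *
          (bar L Gg * bar L B * (bar L Gg)⁻¹)⁻¹
        = bar L Gg * (bar L B * bar L X * (bar L B)⁻¹) * (bar L Gg)⁻¹ := by group
      _ = _ := by rw [hbX]; group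
  rw [hx'] at huX'
  have hcc : bar L Cc * bar L Cc = 1 := by
    have hcu' : u * bar L Cc = bar L Cc * u := hcu.symm
    have e1 : u * (bar L Cc * bar L Yy) * u⁻¹ = bar L Cc * (u * bar L Yy * u⁻¹) := by
      calc u * (bar L Cc * bar L Yy) * u⁻¹ = (u * bar L Cc) * bar L Yy * u⁻¹ := by group
        _ = (bar L Cc * u) * bar L Yy * u⁻¹ := by rw [hcu']
        _ = _ := by group
    rw [e1, huY] at huX'
    have e2 : (bar L Cc * bar L Yy)⁻¹ = (bar L Cc)⁻¹ * (bar L Yy)⁻¹ := by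
      rw [hcY, mul_inv_rev]
    rw [e2] at huX'
    have e3 := mul_right_cancel huX'
    calc bar L Cc * bar L Cc = bar L Cc * (bar L Cc)⁻¹ := congrArg (bar L Cc * ·) e3
      _ = 1 := mul_inv_cancel _
  have hcP : c ∈ pCoreOf 2 L := by
    refine h.hL.mem_core_of_two_element hc ?_
    have h2 : c ^ 2 ∈ pCoreOf 2 L := by
      have : bar L (Cc ^ 2) = 1 := by
        rw [map_pow, pow_two, hcc]
      exact bar_eq_one.mp this
    obtain ⟨n, hn⟩ := (IsPGroup.iff_orderOf.mp (core_isP (K := L))) ⟨_, h2⟩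
    rw [Subgroup.orderOf_mk] at hn
    refine ⟨n + 1, ?_⟩
    rw [pow_succ', pow_mul, ← hn, pow_orderOf_eq_one]
  exact ⟨c, hcP, y, hy, hxy⟩

theorem best {B : Subgroup G} (hB : B ∈ gMaxEA 2 T) : IsBestOffenderOn 2 (omL L) B :=
  best_of_gMaxEA hB (om_le_core.trans (pCoreOf_le_of_sylow h.hL.syl))
    (h.hL.syl.1.trans h.hF.norm) JMain.om_ea

/-- `J ≤ ⟨F⟩`. -/
theorem J_le_sSup : thompsonSubgroupOf 2 T ≤ sSup F := by
  rw [thompsonSubgroupOf_le_iff]
  intro B hB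
  refine (h.hF.gen B (hB.1.trans h.hL.syl.1) (h.best hB)).trans ((Subgroup.closure_le _).mpr ?_)
  rintro y (⟨-, E', hE', hyE⟩ | hy)
  · exact le_sSup hE' hyE
  · exact le_sSup h.hE (h.hF.ge E h.hE hy)

/-- `J` normalizes `E`. -/
theorem J_le_N_E : thompsonSubgroupOf 2 T ≤ Subgroup.normalizer (E : Set G) :=
  h.J_le_sSup.trans (h.hF.sSup_le_normalizer h.hE)

theorem k1_le_L : k1 (pCoreOf 2 L) x ≤ L :=
  sup_le pCoreOf_le (Subgroup.zpowers_le.mpr h.xL)

/-- Elements of `L` normalizing `E` normalize `K₁`. -/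
theorem norm_k1 {g : G} (hg : g ∈ L) (hgE : E.map (MulAut.conj g).toMonoidHom = E) :
    g ∈ Subgroup.normalizer (k1 (pCoreOf 2 L) x : Set G) := by
  refine mem_normalizer_of_conj_le ?_
  have hle : k1 (pCoreOf 2 L) x ≤ (k1 (pCoreOf 2 L) x).comap (MulAut.conj g).toMonoidHom := by
    refine sup_le ?_ ?_
    · intro p hp
      rw [Subgroup.mem_comap]
      exact Subgroup.mem_sup_left (conj_mem_core hg hp)
    · rw [Subgroup.zpowers_le, Subgroup.mem_comap]
      obtain ⟨c, hc, y, hy, e⟩ := h.conj_form hg hgE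
      show g * x * g⁻¹ ∈ _
      rw [e]
      refine mul_mem (Subgroup.mem_sup_left hc) (Subgroup.mem_sup_right ?_)
      rcases hy with hy | hy
      · rw [hy]
        exact Subgroup.mem_zpowers x
      · rw [hy]
        exact inv_mem (Subgroup.mem_zpowers x)
  exact fun k hk => hle hk

theorem J_le_L : thompsonSubgroupOf 2 T ≤ L := (thompsonSubgroupOf_le_self T).trans h.hL.syl.1

theorem J_E {j : G} (hj : j ∈ thompsonSubgroupOf 2 T) : E.map (MulAut.conj j).toMonoidHom = E :=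
  map_conj_eq_of_mem_normalizer (h.J_le_N_E hj)

/-- `J` normalizes `K`. -/
theorem J_le_N : thompsonSubgroupOf 2 T ≤ Subgroup.normalizer (kOf (pCoreOf 2 L) x : Set G) := fun _ hj =>
  Pre.conj_k (h.norm_k1 (h.J_le_L hj) (h.J_E hj))

theorem K_le_L : kOf (pCoreOf 2 L) x ≤ L := Pre.k_le.trans h.k1_le_L

theorem J_isP : IsPGroup 2 (thompsonSubgroupOf 2 T) := thompson_isP h.hL.syl.2.1

/-- `|W_K| = 4`. -/
theorem card_w : Nat.card (wOf (kOf (pCoreOf 2 L) x)) = 4 := by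
  have hpre := h.pre
  set K := kOf (pCoreOf 2 L) x with hK
  set Y := pCoreOf 2 K with hY
  -- the bound
  have hJ := h.J_isP
  have hJY : thompsonSubgroupOf 2 T ≤ Subgroup.normalizer (Y : Set G) := fun _ hj =>
    normalizer_pCoreOf (h.J_le_N hj)
  have hS₀ : IsPGroup 2 (Y ⊔ thompsonSubgroupOf 2 T : Subgroup G) :=
    IsPGroup.to_sup_of_normal_left' core_isP hJ hJY
  have hS₀L : Y ⊔ thompsonSubgroupOf 2 T ≤ L :=
    sup_le (core_le.trans h.K_le_L) h.J_le_L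
  obtain ⟨l, hl, hl2⟩ := exists_conj_le h.hL.syl hS₀L hS₀
  have hAJ : A ≤ thompsonSubgroupOf 2 T := le_thompsonSubgroupOf h.hA
  have hAS : A ∈ gMaxEA 2 (Y ⊔ thompsonSubgroupOf 2 T) :=
    mem_gMaxEA_of_conj_le h.hA (hAJ.trans le_sup_right) hl2
  have hWS : wOf K ≤ Y ⊔ thompsonSubgroupOf 2 T := w_le_core.trans le_sup_left
  have hSN : Y ⊔ thompsonSubgroupOf 2 T ≤ Subgroup.normalizer (wOf K : Set G) :=
    sup_le (core_le.trans (Subgroup.le_normalizer.trans normalizer_le_w)) (h.J_le_N.trans normalizer_le_w)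
  have hea : IsElementaryAbelian 2 (wOf K) := Pre.w_ea
  have hbest : IsBestOffenderOn 2 (wOf K) A := best_of_gMaxEA hAS hWS hSN hea
  have hxK : x ∈ K := hpre.x_mem
  have hAN : ∀ a ∈ A, a ∈ Subgroup.normalizer (K : Set G) := fun a ha => h.J_le_N (hAJ ha)
  have hYW : ∀ {c : G}, c ∈ Y → c ∈ Subgroup.centralizer (wOf K : Set G) := by
    intro c hc
    rw [Subgroup.mem_centralizer_iff]
    intro w hw
    exact (core_comm_w hc hw).symm
  have hSW : Cfsg.Agent.Lib.Amalgam.SmallW.SW (wOf K) A x b := by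
    refine ⟨hea, h.hA.2.1, hbest, fun a ha w hw => conj_mem_wOf (hAN a ha) hw,
      fun w hw => conj_mem_wOf (Subgroup.le_normalizer hxK) hw, ?_, fun w hw hfix => hpre.fpf_w hw hfix, h.hb, ?_, ?_⟩
    · rw [h.hx3]
      exact one_mem _
    · rw [h.hbx, inv_mul_cancel]
      exact one_mem _
    · intro a ha
      obtain ⟨c, hc, y, hy, e⟩ := h.conj_form (h.J_le_L (hAJ ha)) (h.J_E (hAJ ha))
      have haxK : a * x * a⁻¹ ∈ K := (Subgroup.mem_normalizer_iff.mp (hAN a ha) x).mp hxK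
      rcases hy with hy | hy
      · left
        have e2 : a * x * a⁻¹ * x⁻¹ = c := by rw [e, hy]; group
        rw [e2]
        refine hYW ?_
        rw [hY, hpre.core_eq]
        refine Subgroup.mem_inf.mpr ⟨?_, hc⟩
        rw [← e2]
        exact mul_mem haxK (inv_mem hxK)
      · right
        have e2 : a * x * a⁻¹ * x = c := by rw [e, hy]; group
        rw [e2]
        refine hYW ?_
        rw [hY, hpre.core_eq]
        refine Subgroup.mem_inf.mpr ⟨?_, hc⟩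
        rw [← e2]
        exact mul_mem haxK hxK
  have hle := hSW.card_le_four
  -- the lower bound
  have hne : wOf K ≠ ⊥ := by
    refine hpre.w_ne_bot (Om := omL L) (fun v hv => ?_) (fun v hv => conj_mem_om h.xL hv) ?_
    · exact ⟨om_le_core hv, fun p hp => om_comm hp hv, om_sq hv⟩
    · by_contra hcon
      push Not at hcon
      apply h.hx1
      rw [Subgroup.mem_centralizer_iff]
      intro v hv
      exact (mul_inv_eq_iff_eq_mul.mp (hcon v hv)).symm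
  have hP : IsPGroup 2 (wOf K) := fun a => ⟨1, Subtype.ext (by simpa using hea.2 a a.2)⟩
  obtain ⟨n, hn⟩ := IsPGroup.iff_card.mp hP
  rw [hn] at hle ⊢
  have hn3 : n ≤ 2 := by
    by_contra hcon
    push Not at hcon
    have : 2 ^ 3 ≤ 2 ^ n := Nat.pow_le_pow_right (by norm_num) hcon
    omega
  interval_cases n
  · exfalso
    apply hne
    exact (Subgroup.eq_bot_iff_card _).mpr (by simpa using hn)
  · exfalso
    obtain ⟨w, hw, hw1⟩ := (Subgroup.bot_or_exists_ne_one _).resolve_left hne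
    have h2 : Nat.card (wOf K) ≤ 2 := by rw [hn]; norm_num
    have h3 : x * w * x⁻¹ ∈ wOf K := conj_mem_wOf (Subgroup.le_normalizer hxK) hw
    rcases Cfsg.Agent.Lib.Amalgam.SmallW.two_cases h2 hw hw1 h3 with h4 | h4
    · apply hw1
      have e : w = x⁻¹ * (x * w * x⁻¹) * x := by group
      rw [e, h4]
      group
    · exact hw1 (hpre.fpf_w hw h4)
  · norm_num

/-- `K` is a `J(T)`-component. -/
theorem isJComponent : IsJComponent T (kOf (pCoreOf 2 L) x) := by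
  have hpre := h.pre
  have hbJ : b ∈ thompsonSubgroupOf 2 T := le_thompsonSubgroupOf h.hA h.hb
  refine ⟨Pre.closure_odd, hpre.comm_eq h.J_le_N hbJ h.hbx, hpre.index3, ?_, h.card_w, fun w hw => hpre.w_sq hw⟩
  intro S hS hJS
  have hSL : S ≤ L := hS.1.trans (sup_le h.K_le_L h.J_le_L)
  obtain ⟨l, hl, hl2⟩ := exists_conj_le h.hL.syl hSL hS.2.1
  exact thompson_eq_of_conj_le hJS hl2

end XSetup

section Exist

variable {T L : Subgroup G} {F : Set (Subgroup G)}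

theorem sq_aux2 {b x : SL22} (h : b * x * b⁻¹ * x = 1) : x * b * x⁻¹ * b⁻¹ = x * x := by
  have h1 : b * x * b⁻¹ = x⁻¹ := eq_inv_of_mul_eq_one_left h
  have h2 : b * x⁻¹ * b⁻¹ = x := by
    have : b * x⁻¹ * b⁻¹ = (b * x * b⁻¹)⁻¹ := by group
    rw [this, h1, inv_inv]
  calc x * b * x⁻¹ * b⁻¹ = x * (b * x⁻¹ * b⁻¹) := by group
    _ = x * x := by rw [h2]

/-- From `b ∈ A ∩ E` outside `C` we obtain `x`. -/
theorem exists_x {E A : Subgroup G} {b : G} (hL : LSetup T L) (hF : IsFF (omL L) L F) (hE : E ∈ F)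
    (hA : A ∈ gMaxEA 2 T) (hb : b ∈ A) (hbE : b ∈ E)
    (hbZ : b ∉ Subgroup.centralizer (omL L : Set G)) : ∃ x, XSetup T L F E A b x := by
  obtain ⟨ψ, hs, hψ⟩ := hF.s3 E hE
  have hb2 : b ^ 2 = 1 := hA.2.1.2 b hb
  have hbL : b ∈ L := hF.le E hE hbE
  have hbi : b⁻¹ = b := inv_eq_of_mul_eq_one_left (by rw [← pow_two]; exact hb2)
  set B : E := ⟨b, hbE⟩ with hB
  have hB2 : ψ B ^ 2 = 1 := by
    rw [← map_pow]
    have : B ^ 2 = 1 := Subtype.ext (by simpa [hB] using hb2)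
    rw [this, map_one]
  have hB1 : ψ B ≠ 1 := by
    rw [Ne, hψ]
    exact hbZ
  obtain ⟨xh, hx3, hx1, hxb⟩ := sl_exists_inv (ψ B) hB2 hB1
  obtain ⟨X₀, rfl⟩ := hs xh
  set Z : E := X₀ * B * X₀⁻¹ * B⁻¹ with hZ
  have hψz : ψ Z = ψ X₀ * ψ X₀ := by
    rw [hZ, map_mul, map_mul, map_mul, map_inv, map_inv]
    exact sq_aux2 hxb
  set z : G := Subtype.val Z with hz
  have hzE : z ∈ E := Z.2
  have hzeq : z = (X₀ : G) * b * (X₀ : G)⁻¹ * b⁻¹ := rfl
  have hbz : b * z * b⁻¹ = z⁻¹ := by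
    rw [hzeq, hbi]
    have e : ((X₀ : G) * b * (X₀ : G)⁻¹ * b)⁻¹ = b⁻¹ * (X₀ : G) * b⁻¹ * (X₀ : G)⁻¹ := by group
    rw [e, hbi]
    have hbb : b * b = 1 := by rw [← pow_two]; exact hb2
    calc b * ((X₀ : G) * b * (X₀ : G)⁻¹ * b) * b = b * (X₀ : G) * b * (X₀ : G)⁻¹ * (b * b) := by group
      _ = b * (X₀ : G) * b * (X₀ : G)⁻¹ := by rw [hbb, mul_one]
  obtain ⟨k, m, hm, hord⟩ := Nat.exists_eq_two_pow_mul_odd (orderOf_pos z).ne'
  have hpsi : ∀ n : ℕ, ψ (Z ^ n) = (ψ X₀ * ψ X₀) ^ n := fun n => by rw [map_pow, hψz]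
  have hZnE : ∀ n : ℕ, ((Z ^ n : E) : G) = z ^ n := fun n => by simp [hz]
  haveI hf3 : Fact (Nat.Prime 3) := ⟨by norm_num⟩
  have hordx : orderOf (ψ X₀) = 3 := orderOf_eq_prime hx3 hx1
  have hxmem : z ^ 2 ^ k ∈ E := pow_mem hzE _
  refine ⟨z ^ 2 ^ k, hL, hF, hE, hA, hb, hbE, hbZ, hxmem, ?_, ?_, ?_⟩
  · intro hc
    have h1 : ψ (Z ^ 2 ^ k) = 1 := (hψ _).mpr (by rw [hZnE]; exact hc)
    rw [hpsi, ← pow_two, ← pow_mul, ← pow_succ'] at h1
    have h2 := orderOf_dvd_of_pow_eq_one h1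
    rw [hordx] at h2
    have h3 := (Nat.prime_dvd_prime_iff_eq (by norm_num) Nat.prime_two).mp
      (Nat.Prime.dvd_of_dvd_pow (by norm_num) h2)
    omega
  · -- `x ^ 3 = 1`
    have hcZ : (z ^ 2 ^ k) ^ 3 ∈ Subgroup.centralizer (omL L : Set G) := by
      have h1 : ψ (Z ^ 2 ^ k * Z ^ 2 ^ k * Z ^ 2 ^ k) = 1 := by
        have e1 : (Z ^ 2 ^ k * Z ^ 2 ^ k * Z ^ 2 ^ k) = (Z ^ 2 ^ k) ^ 3 := by
          rw [pow_three, mul_assoc]
        have hy : (ψ X₀ * ψ X₀) ^ 3 = 1 := by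
          rw [← pow_two, ← pow_mul, mul_comm, pow_mul, hx3, one_pow]
        rw [e1, map_pow, hpsi, ← pow_mul, mul_comm, pow_mul, hy, one_pow]
      have h2 := (hψ _).mp h1
      have e2 : ((Z ^ 2 ^ k * Z ^ 2 ^ k * Z ^ 2 ^ k : E) : G) = (z ^ 2 ^ k) ^ 3 := by
        simp only [Subgroup.coe_mul, hZnE]
        rw [pow_three, mul_assoc]
      rwa [e2] at h2
    set c := (z ^ 2 ^ k) ^ 3 with hc
    have hcL : c ∈ L := by
      rw [hc]
      exact hF.le E hE (pow_mem hxmem 3)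
    have hcC : c ∈ cL L := Subgroup.mem_inf.mpr ⟨hcL, hcZ⟩
    have hbc : b * c * b⁻¹ = c⁻¹ := by
      rw [hc, ← conj_pow, ← conj_pow, hbz, inv_pow, inv_pow]
    have h1 := hL.comm_mem_core hcC hbL ⟨1, by simpa using hb2⟩
    have e1 : c * b * c⁻¹ * b⁻¹ = c * c := by
      have h3 : b * c⁻¹ * b⁻¹ = c := by
        have : b * c⁻¹ * b⁻¹ = (b * c * b⁻¹)⁻¹ := by group
        rw [this, hbc, inv_inv]
      calc c * b * c⁻¹ * b⁻¹ = c * (b * c⁻¹ * b⁻¹) := by group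
        _ = c * c := by rw [h3]
    rw [e1] at h1
    obtain ⟨n, hn⟩ := (IsPGroup.iff_orderOf.mp (core_isP (K := L))) ⟨_, h1⟩
    rw [Subgroup.orderOf_mk] at hn
    have h2 : c ^ 2 ^ (n + 1) = 1 := by
      rw [pow_succ', pow_mul, pow_two, ← hn, pow_orderOf_eq_one]
    have h3 : c ^ m = 1 := by
      have e3 : c ^ m = (z ^ (2 ^ k * m)) ^ 3 := by
        rw [hc, ← pow_mul, ← pow_mul, ← pow_mul]
        congr 1
        ring
      rw [e3, ← hord, pow_orderOf_eq_one, one_pow]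
    have h4 : c ∈ (⊥ : Subgroup G) := mem_of_coprime_pow (a := 2 ^ (n + 1)) (b := m)
      (Nat.Coprime.pow_left _ (Nat.coprime_two_left.mpr hm)) (by rw [h2]; exact one_mem _)
      (by rw [h3]; exact one_mem _)
    exact h4
  · rw [← conj_pow, hbz, inv_pow]

/-- A generator outside `C`. -/
theorem exists_gen (hL : LSetup T L) (hF : IsFF (omL L) L F)
    (hJ : ¬ thompsonSubgroupOf 2 T ≤ pCoreOf 2 L) :
    ∃ A ∈ gMaxEA 2 T, ∃ b ∈ A, ∃ E ∈ F, b ∈ E ∧ b ∉ Subgroup.centralizer (omL L : Set G) := by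
  by_contra hcon
  push Not at hcon
  apply hJ
  have hle : thompsonSubgroupOf 2 T ≤ cL L := by
    rw [thompsonSubgroupOf_le_iff]
    intro A hA
    have hAL : A ≤ L := hA.1.trans hL.syl.1
    have hbest : IsBestOffenderOn 2 (omL L) A :=
      best_of_gMaxEA hA (om_le_core.trans (pCoreOf_le_of_sylow hL.syl)) (hL.syl.1.trans hF.norm) JMain.om_ea
    refine (hF.gen A hAL hbest).trans ((Subgroup.closure_le _).mpr ?_)
    rintro y (⟨hyA, E, hE, hyE⟩ | hy)
    · exact Subgroup.mem_inf.mpr ⟨hAL hyA, hcon A hA y hyA E hE hyE⟩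
    · exact hy
  intro j hj
  refine hL.mem_core_of_two_element (hle hj) ?_
  obtain ⟨a, ha⟩ := (IsPGroup.iff_orderOf.mp (thompson_isP hL.syl.2.1)) ⟨_, hj⟩
  rw [Subgroup.orderOf_mk] at ha
  exact ⟨a, by rw [← ha, pow_orderOf_eq_one]⟩

/-- **Existence of `J(T)`-components.** -/
theorem exists_component (hL : LSetup T L) (hF : IsFF (omL L) L F)
    (hJ : ¬ thompsonSubgroupOf 2 T ≤ pCoreOf 2 L) : ∃ K, IsJComponent T K ∧ K ≤ L := by
  obtain ⟨A, hA, b, hb, E, hE, hbE, hbZ⟩ := exists_gen hL hF hJ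
  obtain ⟨x, hx⟩ := exists_x hL hF hE hA hb hbE hbZ
  exact ⟨_, hx.isJComponent, hx.K_le_L⟩

end Exist

end Cfsg.Agent.Lib.Amalgam.JExist
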