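import Mathlib
import Cfsg.Agent.Lib.Amalgam.JExist

/-!
# The family `𝒯*(M)`
-/

set_option autoImplicit false

namespace Cfsg.Agent.Lib.Amalgam.JMax

open Cfsg Cfsg.Agent.Lib.PGroup.ThompsonG Cfsg.Agent.Lib.Amalgam.JComp Cfsg.Agent.Lib.Amalgam.JLocal
open Cfsg.Agent.Lib.Amalgam.FFLocal Cfsg.Agent.Lib.Amalgam.JZero Cfsg.Agent.Lib.Amalgam.JSub
open Cfsg.Agent.Lib.Amalgam.JExist
open Cfsg.Agent.Lib.Amalgam.Vertex (conj_mem_pCoreOf pCoreOf_le le_normalizer_pCoreOf)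

variable {G : Type*} [Group G] [Finite G]

omit [Finite G] in
/-- The order of the largest elementary abelian subgroups. -/
theorem maxElemAbelianOrder_eq {T A : Subgroup G} (hA : A ∈ gMaxEA 2 T) :
    maxElemAbelianOrder T = Nat.card A := by
  unfold maxElemAbelianOrder
  have hset : ((fun A : Subgroup ↥T => Nat.card ↥A) '' maxElementaryAbelianSubgroups 2 ↥T) = {Nat.card A} := by
    ext n
    simp only [Set.mem_image, Set.mem_singleton_iff]
    constructor
    · rintro ⟨B, hB, rfl⟩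
      have h1 := hA.2.2 _ (Subgroup.map_subtype_le B) (ea_map _ hB.1)
      rw [card_map_subtype] at h1
      have h2 := hB.2 _ (subgroupOf_mem_of_mem_gMaxEA hA).1
      rw [← card_map_subtype (A.subgroupOf T), map_subgroupOf hA.1] at h2
      exact le_antisymm h1 h2
    · rintro rfl
      refine ⟨A.subgroupOf T, subgroupOf_mem_of_mem_gMaxEA hA, ?_⟩
      rw [← card_map_subtype (A.subgroupOf T), map_subgroupOf hA.1]
  rw [hset, csSup_singleton]

/-- A 2-group in which a subgroup is self-normalizing equals it. -/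
theorem eq_of_normalizer_le {T S : Subgroup G} (hS : IsPGroup 2 S) (hTS : T ≤ S)
    (hN : ∀ u ∈ S, u ∈ Subgroup.normalizer (T : Set G) → u ∈ T) : T = S := by
  by_contra hne
  haveI : Group.IsNilpotent S := hS.isNilpotent
  have hlt : T.subgroupOf S < ⊤ := by
    refine lt_top_iff_ne_top.mpr fun h => hne (le_antisymm hTS ?_)
    intro s hs
    have : (⟨s, hs⟩ : S) ∈ T.subgroupOf S := h ▸ Subgroup.mem_top _
    exact Subgroup.mem_subgroupOf.mp this
  have h1 := normalizerCondition_of_isNilpotent (G := S) _ hlt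
  obtain ⟨y, hy, hy2⟩ := SetLike.exists_of_lt h1
  apply hy2
  refine Subgroup.mem_subgroupOf.mpr (hN y y.2 ?_)
  rw [Subgroup.mem_normalizer_iff] at hy ⊢
  intro t
  by_cases ht : t ∈ S
  · have := hy ⟨t, ht⟩
    simpa [Subgroup.mem_subgroupOf] using this
  · constructor
    · intro h2
      exact absurd (hTS h2) ht
    · intro h2
      exact absurd (by
        have := mul_mem (mul_mem (inv_mem y.2) (hTS h2)) y.2
        simpa [mul_assoc] using this) ht

/-- `J(T) ≠ 1` for a nontrivial 2-group `T`. -/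
theorem thompson_ne_bot {T : Subgroup G} (hT : IsPGroup 2 T) (hT1 : T ≠ ⊥) : thompsonSubgroupOf 2 T ≠ ⊥ := by
  intro hbot
  obtain ⟨A, hA⟩ := exists_mem_gMaxEA (p := 2) T
  have hA1 : A = ⊥ := by
    rw [eq_bot_iff, ← hbot]
    exact le_thompsonSubgroupOf hA
  obtain ⟨t, ht, ht1⟩ := (Subgroup.bot_or_exists_ne_one _).resolve_left hT1
  -- an involution of `T`
  obtain ⟨n, hn⟩ := (IsPGroup.iff_orderOf.mp hT) ⟨t, ht⟩
  rw [Subgroup.orderOf_mk] at hn
  have hord : orderOf t ≠ 1 := fun h => ht1 (orderOf_eq_one_iff.mp h)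
  have hn0 : n ≠ 0 := by
    rintro rfl
    simp at hn
    exact ht1 hn
  obtain ⟨m, rfl⟩ := Nat.exists_eq_succ_of_ne_zero hn0
  set u := t ^ 2 ^ m with hu
  have hu2 : u ^ 2 = 1 := by
    rw [hu, ← pow_mul, ← pow_succ, ← hn, pow_orderOf_eq_one]
  have hu1 : u ≠ 1 := by
    intro h
    have := orderOf_dvd_of_pow_eq_one h
    rw [hn] at this
    have h2 := (Nat.pow_dvd_pow_iff_le_right (by norm_num : 1 < 2)).mp this
    omega
  have huT : u ∈ T := pow_mem ht _
  have hB : IsElementaryAbelian 2 (Subgroup.zpowers u) := by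
    refine ⟨⟨⟨?_⟩⟩, ?_⟩
    · rintro ⟨_, i, rfl⟩ ⟨_, j, rfl⟩
      apply Subtype.ext
      exact (Commute.zpow_zpow_self u i j)
    · rintro _ ⟨i, rfl⟩
      show (u ^ i) ^ 2 = 1
      rw [← zpow_natCast, ← zpow_mul, mul_comm, zpow_mul]
      simp [hu2]
  have h1 := hA.2.2 _ (Subgroup.zpowers_le.mpr huT) hB
  rw [hA1, Subgroup.card_bot, Nat.card_zpowers] at h1
  have h2 : orderOf u = 1 := by
    have := orderOf_pos u
    omega
  exact hu1 (orderOf_eq_one_iff.mp h2)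

section Max

variable {M T : Subgroup G} (hT : T ∈ maxStraddlingTwoSubgroups M)
include hT

theorem T_isP : IsPGroup 2 T := hT.1.1

theorem T_ne_bot : T ≠ ⊥ := hT.1.2.1

theorem T_le_M : T ≤ M := hT.1.2.2.1

theorem J_ne_bot : thompsonSubgroupOf 2 T ≠ ⊥ := thompson_ne_bot (T_isP hT) (T_ne_bot hT)

/-- Overgroups of `J(T)` in `𝒮(M)` have the same Thompson subgroup. -/
theorem thompson_eq {T' : Subgroup G} (hT' : T' ∈ straddlingTwoSubgroups M)
    (hJ : thompsonSubgroupOf 2 T ≤ T') : thompsonSubgroupOf 2 T' = thompsonSubgroupOf 2 T := by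
  obtain ⟨A, hA⟩ := exists_mem_gMaxEA (p := 2) T
  obtain ⟨A', hA'⟩ := exists_mem_gMaxEA (p := 2) T'
  have hAT' : A ≤ T' := (le_thompsonSubgroupOf hA).trans hJ
  obtain ⟨h1, h2⟩ := hT.2 T' hT'
  rw [maxElemAbelianOrder_eq hA', maxElemAbelianOrder_eq hA] at h1 h2
  have h3 := hA'.2.2 A hAT' hA.2.1
  have heq : Nat.card A' = Nat.card A := le_antisymm h1 h3
  have hAm : ∀ B ∈ gMaxEA 2 T, B ∈ gMaxEA 2 T' := by
    intro B hB
    have hBT' : B ≤ T' := (le_thompsonSubgroupOf hB).trans hJ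
    refine ⟨hBT', hB.2.1, fun C hC hCe => ?_⟩
    have h4 := hA'.2.2 C hC hCe
    have h5 := hB.2.2 A hA.1 hA.2.1
    omega
  have hle : thompsonSubgroupOf 2 T ≤ thompsonSubgroupOf 2 T' := by
    rw [thompsonSubgroupOf_le_iff]
    exact fun B hB => le_thompsonSubgroupOf (hAm B hB)
  exact (Subgroup.eq_of_le_of_card_ge hle (h2 heq).1).symm

/-- Overgroups of `T` in `𝒮(M)` equal `T`. -/
theorem eq_of_ge {T' : Subgroup G} (hT' : T' ∈ straddlingTwoSubgroups M) (hTT' : T ≤ T') : T' = T := by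
  obtain ⟨A, hA⟩ := exists_mem_gMaxEA (p := 2) T
  obtain ⟨A', hA'⟩ := exists_mem_gMaxEA (p := 2) T'
  have hJ := thompson_eq hT hT' ((thompsonSubgroupOf_le_self T).trans hTT')
  obtain ⟨h1, h2⟩ := hT.2 T' hT'
  rw [maxElemAbelianOrder_eq hA', maxElemAbelianOrder_eq hA] at h1 h2
  have h3 := hA'.2.2 A (hA.1.trans hTT') hA.2.1
  have heq : Nat.card A' = Nat.card A := le_antisymm h1 h3
  have h4 := (h2 heq).2 (by rw [hJ])
  exact (Subgroup.eq_of_le_of_card_ge hTT' h4).symm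

/-- **Lemma 1**: `N(J(T)) ≤ M`. -/
theorem normalizer_J_le (S : Sylow 2 G)
    (hMJ : Subgroup.normalizer (thompsonSubgroupOf 2 (S : Subgroup G) : Set G) ≤ M) :
    Subgroup.normalizer (thompsonSubgroupOf 2 T : Set G) ≤ M := by
  by_contra hN
  have hTp := T_isP hT
  set D := thompsonSubgroupOf 2 T with hD
  have hDp : IsPGroup 2 D := thompson_isP hTp
  have hloc : IsTwoLocal (Subgroup.normalizer (D : Set G)) := ⟨D, hDp, J_ne_bot hT, rfl⟩
  have hTN : T ≤ Subgroup.normalizer (D : Set G) :=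
    Subgroup.le_normalizer.trans (normalizer_le_normalizer_thompson T)
  -- `T` is a Sylow subgroup of `N_M(D)`
  have hTsyl : IsSylowTwoIn T (Subgroup.normalizer (D : Set G) ⊓ M) := by
    obtain ⟨T', hT', hTT'⟩ := exists_sylowIn (le_inf hTN (T_le_M hT)) hTp
    have hT'S : T' ∈ straddlingTwoSubgroups M := by
      refine ⟨hT'.2.1, fun h => T_ne_bot hT ?_, hT'.1.trans inf_le_right,
        _, hloc, hT'.1.trans inf_le_left, hN⟩
      rw [eq_bot_iff, ← h]
      exact hTT'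
    rwa [eq_of_ge hT hT'S hTT'] at hT'
  -- `S ≤ M`
  have hSM : (S : Subgroup G) ≤ M :=
    (Subgroup.le_normalizer.trans (normalizer_le_normalizer_thompson _)).trans hMJ
  have hSsyl : IsSylowTwoIn (S : Subgroup G) M := by
    refine ⟨hSM, S.isPGroup', ?_⟩
    have h1 : ¬ 2 ∣ (S : Subgroup G).index := S.not_dvd_index
    have h2 : (S : Subgroup G).relIndex M ∣ (S : Subgroup G).index :=
      ⟨M.index, (Subgroup.relIndex_mul_index hSM).symm⟩
    rw [Nat.odd_iff]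
    have h3 : ¬ 2 ∣ (S : Subgroup G).relIndex M := fun h4 => h1 (h4.trans h2)
    omega
  obtain ⟨m, hm, hm2⟩ := exists_conj_le hSsyl (T_le_M hT) hTp
  set S₁ : Subgroup G := (S : Subgroup G).map (MulAut.conj m).toMonoidHom with hS₁
  have hS₁p : IsPGroup 2 S₁ := IsPGroup.iff_card.mpr (by
    rw [hS₁, card_map_conj]
    exact IsPGroup.iff_card.mp S.isPGroup')
  have hTS₁ : T ≤ S₁ := by
    intro q hq
    refine ⟨m⁻¹ * q * m, hm2 q hq, ?_⟩
    simp only [MulEquiv.coe_toMonoidHom, MulAut.conj_apply]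
    group
  have hS₁M : S₁ ≤ M := by
    rintro _ ⟨s, hs, rfl⟩
    exact mul_mem (mul_mem hm (hSM hs)) (inv_mem hm)
  have hTeq : T = S₁ := eq_of_normalizer_le hS₁p hTS₁ fun u hu hun => by
    refine mem_of_normalizes hTsyl (Subgroup.mem_inf.mpr ⟨normalizer_le_normalizer_thompson T hun, hS₁M hu⟩) ?_ hun
    obtain ⟨a, ha⟩ := (IsPGroup.iff_orderOf.mp hS₁p) ⟨u, hu⟩
    rw [Subgroup.orderOf_mk] at ha
    exact ⟨a, by rw [← ha, pow_orderOf_eq_one]⟩
  apply hN
  intro g hg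
  have hDeq : D = (thompsonSubgroupOf 2 (S : Subgroup G)).map (MulAut.conj m).toMonoidHom := by
    rw [hD, hTeq, hS₁, map_conj_thompsonSubgroupOf]
  have h1 : m⁻¹ * g * m ∈ Subgroup.normalizer (thompsonSubgroupOf 2 (S : Subgroup G) : Set G) := by
    refine mem_normalizer_of_conj_le fun j hj => ?_
    have h2 : m * j * m⁻¹ ∈ D := by
      rw [hDeq]
      exact ⟨j, hj, rfl⟩
    have h3 : g * (m * j * m⁻¹) * g⁻¹ ∈ D := (Subgroup.mem_normalizer_iff.mp hg _).mp h2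
    rw [hDeq] at h3
    obtain ⟨j', hj', e⟩ := h3
    have e2 : j' = (m⁻¹ * g * m) * j * (m⁻¹ * g * m)⁻¹ := by
      have e3 : m * j' * m⁻¹ = g * (m * j * m⁻¹) * g⁻¹ := e
      calc j' = m⁻¹ * (m * j' * m⁻¹) * m := by group
        _ = _ := by rw [e3]; group
    rw [← e2]
    exact hj'
  have h2 := hMJ h1
  have e : g = m * (m⁻¹ * g * m) * m⁻¹ := by group
  rw [e]
  exact mul_mem (mul_mem hm h2) (inv_mem hm)

end Max

/-- `C_G(O₂(L)) ≤ O₂(L)` for 2-local `L`. -/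
theorem core_cent (hG : IsCharacteristicTwoType G) {L : Subgroup G} (hL : IsTwoLocal L) :
    Subgroup.centralizer (pCoreOf 2 L : Set G) ≤ pCoreOf 2 L := by
  obtain ⟨X, hX, hX1, rfl⟩ := hL
  intro c hc
  set H := Subgroup.normalizer (X : Set G) with hH
  have hXQ : X ≤ pCoreOf 2 H :=
    le_pCoreOf Subgroup.le_normalizer hX fun l hl q hq => (Subgroup.mem_normalizer_iff.mp hl q).mp hq
  have hcH : c ∈ H := by
    refine mem_normalizer_of_conj_le fun w hw => ?_
    have := Subgroup.mem_centralizer_iff.mp hc w (hXQ hw)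
    rw [← this]
    simpa using hw
  have h1 : (⟨c, hcH⟩ : H) ∈ Subgroup.centralizer (pCore 2 H : Set H) := by
    rw [Subgroup.mem_centralizer_iff]
    intro q hq
    apply Subtype.ext
    exact Subgroup.mem_centralizer_iff.mp hc q ⟨q, hq, rfl⟩
  exact ⟨_, hG.2 _ hX hX1 h1, rfl⟩

variable {M T : Subgroup G}

/-- The first three statements. -/
theorem straddle (hG : IsCharacteristicTwoType G) (S : Sylow 2 G)
    (hMJ : Subgroup.normalizer (thompsonSubgroupOf 2 (S : Subgroup G) : Set G) ≤ M)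
    (hT : T ∈ maxStraddlingTwoSubgroups M) {L T₀ : Subgroup G} (hL2 : IsTwoLocal L) (hLM : ¬ L ≤ M)
    (hT₀ : IsSylowTwoIn T₀ L) (hJ : thompsonSubgroupOf 2 T ≤ T₀) :
    thompsonSubgroupOf 2 T = thompsonSubgroupOf 2 T₀ ∧ T₀ ∈ straddlingTwoSubgroups M ∧ L ∈ jOvergroups T₀ := by
  have hJM : thompsonSubgroupOf 2 T ≤ M := (thompsonSubgroupOf_le_self T).trans (T_le_M hT)
  have hne : ∀ {X : Subgroup G}, thompsonSubgroupOf 2 T ≤ X → X ≠ ⊥ := by
    intro X hX h0
    apply J_ne_bot hT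
    rw [eq_bot_iff, ← h0]
    exact hX
  have hT₁S : T₀ ⊓ M ∈ straddlingTwoSubgroups M :=
    ⟨IsPGroup.to_le hT₀.2.1 inf_le_left, hne (le_inf hJ hJM), inf_le_right, L, hL2,
      inf_le_left.trans hT₀.1, hLM⟩
  have hJ1 := thompson_eq hT hT₁S (le_inf hJ hJM)
  have hN1 := normalizer_J_le hT S hMJ
  have hT₀M : T₀ ⊓ M = T₀ := eq_of_normalizer_le hT₀.2.1 inf_le_left fun u hu hun => by
    refine Subgroup.mem_inf.mpr ⟨hu, hN1 ?_⟩
    rw [← hJ1]
    exact normalizer_le_normalizer_thompson _ hun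
  rw [hT₀M] at hT₁S hJ1
  refine ⟨hJ1.symm, hT₁S, hT₀, ?_, core_cent hG hL2⟩
  intro hle
  rw [hJ1] at hle
  have hQT : pCoreOf 2 L ≤ T₀ := pCoreOf_le_of_sylow hT₀
  have h1 : thompsonSubgroupOf 2 (pCoreOf 2 L) = thompsonSubgroupOf 2 T₀ :=
    thompsonSubgroupOf_eq_of_le hQT (by rw [hJ1]; exact hle)
  rw [hJ1] at h1
  apply hLM
  intro l hl
  apply hN1
  rw [← h1]
  exact normalizer_le_normalizer_thompson _ (le_normalizer_pCoreOf hl)

/-- If `T ≤ L`, then `T` is a Sylow subgroup of `L`. -/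
theorem sylow_of_le (hG : IsCharacteristicTwoType G) (S : Sylow 2 G)
    (hMJ : Subgroup.normalizer (thompsonSubgroupOf 2 (S : Subgroup G) : Set G) ≤ M)
    (hT : T ∈ maxStraddlingTwoSubgroups M) {L : Subgroup G} (hL2 : IsTwoLocal L) (hLM : ¬ L ≤ M)
    (hTL : T ≤ L) : L ∈ jOvergroups T := by
  obtain ⟨T₀, hT₀, hTT₀⟩ := exists_sylowIn hTL (T_isP hT)
  obtain ⟨-, h2, h3⟩ := straddle hG S hMJ hT hL2 hLM hT₀ ((thompsonSubgroupOf_le_self T).trans hTT₀)
  rwa [eq_of_ge hT h2 hTT₀] at h3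

end Cfsg.Agent.Lib.Amalgam.JMax
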