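import Mathlib
import Cfsg.Agent.Lib.Amalgam.JMax

/-!
# Generation of members of `ℒ(T)` by `J(T)`-components and `N_G(J(T))`
-/

set_option autoImplicit false

namespace Cfsg.Agent.Lib.Amalgam.JGen

open Cfsg Cfsg.Agent.Lib.PGroup.ThompsonG Cfsg.Agent.Lib.Amalgam.JComp Cfsg.Agent.Lib.Amalgam.JLocal
open Cfsg.Agent.Lib.Amalgam.FFLocal Cfsg.Agent.Lib.Amalgam.JZero Cfsg.Agent.Lib.Amalgam.JSub
open Cfsg.Agent.Lib.Amalgam.JExist Cfsg.Agent.Lib.Amalgam.JMax
open Cfsg.Agent.Lib.Amalgam.Vertex (conj_mem_pCoreOf pCoreOf_le le_normalizer_pCoreOf)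

variable {G : Type*} [Group G] [Finite G]

/-- A Sylow subgroup of `L` meets a normal subgroup of `L` in a Sylow subgroup. -/
theorem sylow_inf_normal {T L H : Subgroup G} (hT : IsSylowTwoIn T L) (hHL : H ≤ L)
    (hn : ∀ l ∈ L, ∀ h ∈ H, l * h * l⁻¹ ∈ H) : IsSylowTwoIn (T ⊓ H) H := by
  refine ⟨inf_le_right, IsPGroup.to_inf_left hT.2.1, ?_⟩
  rw [Subgroup.inf_relIndex_right, ← Subgroup.relIndex_subgroupOf hHL]
  set T' := T.subgroupOf L with hT'
  set H' := H.subgroupOf L with hH'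
  haveI hnorm : H'.Normal := by
    constructor
    intro n hn' c
    rw [hH', Subgroup.mem_subgroupOf] at hn' ⊢
    exact hn c c.2 n hn'
  have a := Subgroup.relIndex_mul_relIndex (T' ⊓ H') T' (T' ⊔ H') inf_le_left le_sup_left
  have b := Subgroup.relIndex_mul_relIndex (T' ⊓ H') H' (T' ⊔ H') inf_le_right le_sup_right
  have c : H'.relIndex (T' ⊔ H') = H'.relIndex T' := Subgroup.relIndex_sup_right _ _
  have d : (T' ⊓ H').relIndex T' = H'.relIndex T' := Subgroup.inf_relIndex_left _ _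
  have e : (T' ⊓ H').relIndex H' = T'.relIndex H' := Subgroup.inf_relIndex_right _ _
  rw [c, e] at b
  rw [d, ← b, mul_comm] at a
  have hpos : H'.relIndex T' ≠ 0 := (Nat.card_pos (α := T' ⧸ H'.subgroupOf T')).ne'
  have f : T'.relIndex (T' ⊔ H') = T'.relIndex H' := Nat.eq_of_mul_eq_mul_right (Nat.pos_of_ne_zero hpos) a
  rw [← f]
  have g : T'.relIndex (T' ⊔ H') ∣ T'.index := Subgroup.relIndex_dvd_index_of_le le_sup_left
  have h2 : Odd T'.index := hT.2.2
  exact Odd.of_dvd_nat h2 g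

variable {T L H : Subgroup G}

/-- The Frattini argument with `J(T)`. -/
theorem frattini_J (hT : IsSylowTwoIn T L) (hHL : H ≤ L) (hn : ∀ l ∈ L, ∀ h ∈ H, l * h * l⁻¹ ∈ H)
    (hJ : thompsonSubgroupOf 2 T ≤ H) {l : G} (hl : l ∈ L) :
    ∃ h ∈ H, h⁻¹ * l ∈ Subgroup.normalizer (thompsonSubgroupOf 2 T : Set G) := by
  have hS := sylow_inf_normal hT hHL hn
  have hQH : (T ⊓ H).map (MulAut.conj l).toMonoidHom ≤ H := by
    rintro _ ⟨t, ht, rfl⟩
    exact hn l hl t (Subgroup.mem_inf.mp ht).2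
  have hQp : IsPGroup 2 ((T ⊓ H).map (MulAut.conj l).toMonoidHom) :=
    IsPGroup.iff_card.mpr (by
      rw [card_map_conj]
      exact IsPGroup.iff_card.mp hS.2.1)
  obtain ⟨h, hh, hh2⟩ := exists_conj_le hS hQH hQp
  refine ⟨h, hh, ?_⟩
  have hN : h⁻¹ * l ∈ Subgroup.normalizer ((T ⊓ H : Subgroup G) : Set G) := by
    refine mem_normalizer_of_conj_le fun t ht => ?_
    have := hh2 _ (Subgroup.mem_map_of_mem _ ht)
    simp only [MulEquiv.coe_toMonoidHom, MulAut.conj_apply] at this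
    have e : h⁻¹ * l * t * (h⁻¹ * l)⁻¹ = h⁻¹ * (l * t * l⁻¹) * h := by group
    rw [e]
    exact this
  have h3 := normalizer_le_normalizer_thompson (p := 2) (T ⊓ H) hN
  rwa [thompsonSubgroupOf_eq_of_le (p := 2) inf_le_left (le_inf (thompsonSubgroupOf_le_self T) hJ)] at h3

variable {F : Set (Subgroup G)} {E : Subgroup G}

/-- If no generator of `J(T)` lies in `E` outside `C`, then `E` normalizes `J(T)`. -/
theorem E_le_normalizer (hL : LSetup T L) (hF : IsFF (omL L) L F) (hE : E ∈ F)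
    (hno : ∀ A ∈ gMaxEA 2 T, ∀ b ∈ A, b ∈ E → b ∈ Subgroup.centralizer (omL L : Set G)) :
    E ≤ Subgroup.normalizer (thompsonSubgroupOf 2 T : Set G) := by
  intro e he
  have heL : e ∈ L := hF.le E hE he
  set J := thompsonSubgroupOf 2 T with hJ
  set D := J ⊔ cL L with hD
  have hJT : J ≤ T := thompsonSubgroupOf_le_self T
  have hDL : D ≤ L := sup_le (hJT.trans hL.syl.1) cL_le
  have hDN : D ≤ Subgroup.normalizer (T : Set G) :=
    sup_le (hJT.trans Subgroup.le_normalizer) fun _ hc => hL.cL_norm hc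
  have hZc : ∀ {c : G}, c ∈ Subgroup.centralizer (omL L : Set G) → c ∈ L → c ∈ cL L :=
    fun hc hcL => Subgroup.mem_inf.mpr ⟨hcL, hc⟩
  -- `e` normalizes `D`
  have hcomm : ∀ A ∈ gMaxEA 2 T, ∀ b ∈ A, ∀ E' ∈ F, b ∈ E' → e * b * e⁻¹ * b⁻¹ ∈ cL L := by
    intro A hA b hb E' hE' hbE'
    have hbL : b ∈ L := hF.le E' hE' hbE'
    have hmem : e * b * e⁻¹ * b⁻¹ ∈ L := mul_mem (mul_mem (mul_mem heL hbL) (inv_mem heL)) (inv_mem hbL)
    refine hZc ?_ hmem
    by_cases hEE : E = E'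
    · subst hEE
      have h1 : b ∈ cL L := hZc (hno A hA b hb hbE') hbL
      exact (Subgroup.mem_inf.mp (mul_mem (conj_mem_cL heL h1) (inv_mem h1))).2
    · exact hF.comm E hE E' hE' hEE e he b hbE'
  have hDe : D ≤ D.comap (MulAut.conj e).toMonoidHom := by
    refine sup_le ?_ ?_
    · rw [hJ, thompsonSubgroupOf_le_iff]
      intro A hA
      have hAL : A ≤ L := hA.1.trans hL.syl.1
      have hbest : IsBestOffenderOn 2 (omL L) A :=
        best_of_gMaxEA hA (om_le_core.trans (pCoreOf_le_of_sylow hL.syl)) (hL.syl.1.trans hF.norm) JMain.om_ea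
      have hgen := hF.gen A hAL hbest
      have hcl : Subgroup.closure ({b | b ∈ A ∧ ∃ E ∈ F, b ∈ E} ∪
          (L ⊓ Subgroup.centralizer (omL L : Set G) : Subgroup G)) ≤ D.comap (MulAut.conj e).toMonoidHom := by
        refine (Subgroup.closure_le _).mpr ?_
        rintro y (⟨hyA, E', hE', hyE'⟩ | hy)
        · rw [SetLike.mem_coe, Subgroup.mem_comap]
          simp only [MulEquiv.coe_toMonoidHom, MulAut.conj_apply]
          have e1 : e * y * e⁻¹ = (e * y * e⁻¹ * y⁻¹) * y := by group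
          rw [e1]
          exact mul_mem (Subgroup.mem_sup_right (hcomm A hA y hyA E' hE' hyE'))
            (Subgroup.mem_sup_left (le_thompsonSubgroupOf hA hyA))
        · rw [SetLike.mem_coe, Subgroup.mem_comap]
          exact Subgroup.mem_sup_right (conj_mem_cL heL hy)
      exact fun a ha => hcl (hgen ha)
    · intro c hc
      rw [Subgroup.mem_comap]
      exact Subgroup.mem_sup_right (conj_mem_cL heL hc)
  have hT₀ : e ∈ Subgroup.normalizer ((T ⊓ D : Subgroup G) : Set G) := by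
    refine mem_normalizer_of_conj_le fun t ht => ?_
    obtain ⟨htT, htD⟩ := Subgroup.mem_inf.mp ht
    have h1 : e * t * e⁻¹ ∈ D := hDe htD
    refine Subgroup.mem_inf.mpr ⟨?_, h1⟩
    refine mem_of_normalizes hL.syl (hDL h1) ?_ (hDN h1)
    obtain ⟨a, ha⟩ := (IsPGroup.iff_orderOf.mp hL.syl.2.1) ⟨t, htT⟩
    rw [Subgroup.orderOf_mk] at ha
    refine ⟨a, ?_⟩
    rw [conj_pow, ← ha, pow_orderOf_eq_one]
    simp
  have h3 := normalizer_le_normalizer_thompson (p := 2) (T ⊓ D) hT₀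
  rwa [thompsonSubgroupOf_eq_of_le (p := 2) inf_le_left (le_inf hJT le_sup_left)] at h3

/-- The family of `J(T)`-components of `L` constructed from generators of `J(T)`. -/
def comps (T L : Subgroup G) (F : Set (Subgroup G)) : Set (Subgroup G) :=
  {K | ∃ E A b x, XSetup T L F E A b x ∧ K = kOf (pCoreOf 2 L) x}

/-- The subgroup `⟨𝒞, N_L(J(T))⟩`. -/
def genGroup (T L : Subgroup G) (F : Set (Subgroup G)) : Subgroup G :=
  sSup (comps T L F) ⊔ (L ⊓ Subgroup.normalizer (thompsonSubgroupOf 2 T : Set G))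

theorem C_le_gen (hL : LSetup T L) : cL L ≤ genGroup T L F := fun _ hc =>
  Subgroup.mem_sup_right (Subgroup.mem_inf.mpr ⟨cL_le hc,
    normalizer_le_normalizer_thompson (p := 2) T (hL.cL_norm hc)⟩)

theorem J_le_gen (hL : LSetup T L) : thompsonSubgroupOf 2 T ≤ genGroup T L F :=
  (le_inf ((thompsonSubgroupOf_le_self T).trans hL.syl.1)
    (thompsonSubgroupOf_le_self T |>.trans Subgroup.le_normalizer |>.trans
    (normalizer_le_normalizer_thompson (p := 2) T))).trans le_sup_right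

theorem E_le_gen (hL : LSetup T L) (hF : IsFF (omL L) L F) (hE : E ∈ F) : E ≤ genGroup T L F := by
  by_cases hno : ∀ A ∈ gMaxEA 2 T, ∀ b ∈ A, b ∈ E → b ∈ Subgroup.centralizer (omL L : Set G)
  · exact (le_inf (hF.le E hE) (E_le_normalizer hL hF hE hno)).trans le_sup_right
  push Not at hno
  obtain ⟨A, hA, b, hb, hbE, hbZ⟩ := hno
  obtain ⟨x, hx⟩ := exists_x hL hF hE hA hb hbE hbZ
  have hxK : x ∈ genGroup T L F :=
    Subgroup.mem_sup_left ((le_sSup (show kOf (pCoreOf 2 L) x ∈ comps T L F from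
      ⟨E, A, b, x, hx, rfl⟩)) hx.pre.x_mem)
  have hbJ : b ∈ genGroup T L F := J_le_gen hL (le_thompsonSubgroupOf hA hb)
  have hx3 : x ^ 3 ∈ Subgroup.centralizer (omL L : Set G) := by
    rw [hx.hx3]
    exact one_mem _
  have key : ∀ e ∈ E, e ^ 3 ∈ Subgroup.centralizer (omL L : Set G) → e ∈ genGroup T L F := by
    intro e he he3
    have heL := hF.le E hE he
    rcases hF.cube_cases hE hx.hxE he hx3 hx.hx1 he3 with h | h | h
    · exact C_le_gen hL (Subgroup.mem_inf.mpr ⟨heL, h⟩)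
    · have h1 : e * x⁻¹ ∈ genGroup T L F :=
        C_le_gen hL (Subgroup.mem_inf.mpr ⟨mul_mem heL (inv_mem hx.xL), h⟩)
      have e1 : e = e * x⁻¹ * x := by group
      rw [e1]
      exact mul_mem h1 hxK
    · have h1 : e * x ∈ genGroup T L F :=
        C_le_gen hL (Subgroup.mem_inf.mpr ⟨mul_mem heL hx.xL, h⟩)
      have e1 : e = e * x * x⁻¹ := by group
      rw [e1]
      exact mul_mem h1 (inv_mem hxK)
  intro e he
  have heL := hF.le E hE he
  rcases hF.sq_or_cube hE he with h | h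
  · exact key e he h
  · by_cases he1 : e ∈ Subgroup.centralizer (omL L : Set G)
    · exact C_le_gen hL (Subgroup.mem_inf.mpr ⟨heL, he1⟩)
    · have hb2 : b ^ 2 ∈ Subgroup.centralizer (omL L : Set G) := by
        rw [hx.b_sq]
        exact one_mem _
      have h3 := hF.cube_mul hE he hx.hbE h he1 hb2 hx.hbZ
      have h4 := key (e * b) (mul_mem he hx.hbE) h3
      have e1 : e = e * b * b⁻¹ := by group
      rw [e1]
      exact mul_mem h4 (inv_mem hbJ)

/-- `⟨F⟩` contains `J(T)`. -/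
theorem J_le_sSup (hL : LSetup T L) (hF : IsFF (omL L) L F)
    (hJ : ¬ thompsonSubgroupOf 2 T ≤ pCoreOf 2 L) : thompsonSubgroupOf 2 T ≤ sSup F := by
  obtain ⟨_, _, _, _, E₀, hE₀, _, _⟩ := exists_gen hL hF hJ
  rw [thompsonSubgroupOf_le_iff]
  intro A hA
  have hAL : A ≤ L := hA.1.trans hL.syl.1
  have hbest : IsBestOffenderOn 2 (omL L) A :=
    best_of_gMaxEA hA (om_le_core.trans (pCoreOf_le_of_sylow hL.syl)) (hL.syl.1.trans hF.norm) JMain.om_ea
  refine (hF.gen A hAL hbest).trans ((Subgroup.closure_le _).mpr ?_)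
  rintro y (⟨hyA, E', hE', hyE'⟩ | hy)
  · exact (le_sSup hE') hyE'
  · exact (le_sSup hE₀) (hF.ge E₀ hE₀ hy)

/-- **Generation**: `L = ⟨𝒞(L), N_L(J(T))⟩`. -/
theorem L_le_gen (hL : LSetup T L) (hF : IsFF (omL L) L F)
    (hJ : ¬ thompsonSubgroupOf 2 T ≤ pCoreOf 2 L) : L ≤ genGroup T L F := by
  intro l hl
  obtain ⟨h, hh, hh2⟩ := frattini_J hL.syl hF.sSup_le_R (fun l hl h hh => hF.conj_mem_sSup hl hh)
    (J_le_sSup hL hF hJ) hl
  have hhX : h ∈ genGroup T L F := (sSup_le fun E hE => E_le_gen hL hF hE : sSup F ≤ _) hh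
  have e1 : l = h * (h⁻¹ * l) := by group
  rw [e1]
  exact mul_mem hhX (Subgroup.mem_sup_right (Subgroup.mem_inf.mpr
    ⟨mul_mem (inv_mem (hF.sSup_le_R hh)) hl, hh2⟩))

/-- All the components in `comps` lie in `L`. -/
theorem comps_le {K : Subgroup G} (hK : K ∈ comps T L F) : K ≤ L := by
  obtain ⟨E, A, b, x, hx, rfl⟩ := hK
  exact hx.K_le_L

theorem comps_isJ {K : Subgroup G} (hK : K ∈ comps T L F) : IsJComponent T K := by
  obtain ⟨E, A, b, x, hx, rfl⟩ := hK
  exact hx.isJComponent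

end Cfsg.Agent.Lib.Amalgam.JGen
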