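import Mathlib
import Cfsg.Agent.Lib.Amalgam.JGen

/-!
# The unique maximal 2-local overgroup of `K J(T)`
-/

set_option autoImplicit false

namespace Cfsg.Agent.Lib.Amalgam.JUnique

open Cfsg Cfsg.Agent.Lib.PGroup.ThompsonG Cfsg.Agent.Lib.Amalgam.JComp Cfsg.Agent.Lib.Amalgam.JLocal
open Cfsg.Agent.Lib.Amalgam.FFLocal Cfsg.Agent.Lib.Amalgam.JZero Cfsg.Agent.Lib.Amalgam.JSub
open Cfsg.Agent.Lib.Amalgam.JExist Cfsg.Agent.Lib.Amalgam.JMax Cfsg.Agent.Lib.Amalgam.JGen
open Cfsg.Agent.Lib.Amalgam.Vertex (conj_mem_pCoreOf pCoreOf_le le_normalizer_pCoreOf)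

variable {G : Type*} [Group G] [Finite G]

/-- Conjugation as a homomorphism. -/
abbrev cj (g : G) : G →* G := (MulAut.conj g).toMonoidHom

omit [Finite G] in
theorem cj_apply (g x : G) : cj g x = g * x * g⁻¹ := rfl

/-! ### Transport under conjugation -/

section Conj

variable (g : G) (K X : Subgroup G)

theorem pCoreOf_conj_le : (pCoreOf 2 K).map (cj g) ≤ pCoreOf 2 (K.map (cj g)) := by
  refine le_pCoreOf (Subgroup.map_mono pCoreOf_le) ?_ ?_
  · exact IsPGroup.iff_card.mpr (by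
      rw [card_map_conj]
      exact IsPGroup.iff_card.mp core_isP)
  · rintro _ ⟨k, hk, rfl⟩ _ ⟨p, hp, rfl⟩
    refine ⟨k * p * k⁻¹, conj_mem_pCoreOf hk hp, ?_⟩
    simp only [cj_apply]
    group

omit [Finite G] in
theorem map_cj_inv : (X.map (cj g)).map (cj g⁻¹) = X := by
  have := map_conj_map_conj_inv g⁻¹ X
  rwa [inv_inv] at this

theorem pCoreOf_map_conj : pCoreOf 2 (K.map (cj g)) = (pCoreOf 2 K).map (cj g) := by
  refine le_antisymm ?_ (pCoreOf_conj_le g K)
  have h := pCoreOf_conj_le g⁻¹ (K.map (cj g))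
  rw [map_cj_inv] at h
  have h2 := Subgroup.map_mono (f := cj g) h
  rwa [map_conj_map_conj_inv] at h2

omit [Finite G] in
theorem omega_conj_le : (omegaCenterOf X).map (cj g) ≤ omegaCenterOf (X.map (cj g)) := by
  rintro _ ⟨v, hv, rfl⟩
  obtain ⟨h1, h2, h3⟩ := mem_omegaCenterOf_iff.mp hv
  refine mem_omegaCenterOf_iff.mpr ⟨Subgroup.mem_map_of_mem _ h1, ?_, ?_⟩
  · rintro _ ⟨u, hu, rfl⟩
    rw [← map_mul, ← map_mul, h2 u hu]
  · rw [← map_pow, h3, map_one]

omit [Finite G] in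
theorem omega_map_conj : omegaCenterOf (X.map (cj g)) = (omegaCenterOf X).map (cj g) := by
  refine le_antisymm ?_ (omega_conj_le g X)
  have h := omega_conj_le g⁻¹ (X.map (cj g))
  rw [map_cj_inv] at h
  have h2 := Subgroup.map_mono (f := cj g) h
  rwa [map_conj_map_conj_inv] at h2

theorem wOf_map_conj : wOf (K.map (cj g)) = (wOf K).map (cj g) := by
  unfold wOf
  rw [Subgroup.map_commutator, pCoreOf_map_conj, omega_map_conj]

end Conj

variable {T K : Subgroup G}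

/-- `J(T)`-components are transported by conjugation. -/
theorem isJComponent_map_conj (g : G) (hK : IsJComponent T K) :
    IsJComponent (T.map (cj g)) (K.map (cj g)) := by
  obtain ⟨h1, h2, h3, h4, h5, h6⟩ := hK
  refine ⟨?_, ?_, ?_, ?_, ?_, ?_⟩
  · conv_rhs => rw [← h1]
    rw [MonoidHom.map_closure]
    congr 1
    ext y
    constructor
    · rintro ⟨⟨k, hk, rfl⟩, hodd⟩
      refine ⟨k, ⟨hk, ?_⟩, rfl⟩
      rwa [orderOf_injective (cj g) (MulAut.conj g).injective k] at hodd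
    · rintro ⟨k, ⟨hk, hodd⟩, rfl⟩
      refine ⟨Subgroup.mem_map_of_mem _ hk, ?_⟩
      rwa [orderOf_injective (cj g) (MulAut.conj g).injective k]
  · rw [← map_conj_thompsonSubgroupOf, ← Subgroup.map_commutator, h2]
  · rw [pCoreOf_map_conj, Subgroup.relIndex_map_map_of_injective _ _ (MulAut.conj g).injective]
    exact h3
  · intro R hR hJR
    rw [← map_conj_thompsonSubgroupOf] at hR hJR ⊢
    rw [← Subgroup.map_sup] at hR
    have hR' := isSylowTwoIn_map_conj g⁻¹ hR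
    have e1 : ∀ X : Subgroup G, (X.map (MulAut.conj g).toMonoidHom).map (MulAut.conj g⁻¹).toMonoidHom = X :=
      map_cj_inv g
    rw [e1] at hR'
    have hJR' : thompsonSubgroupOf 2 T ≤ R.map (MulAut.conj g⁻¹).toMonoidHom := by
      have := Subgroup.map_mono (f := (MulAut.conj g⁻¹).toMonoidHom) hJR
      rwa [e1] at this
    have h7 := h4 _ hR' hJR'
    have h8 := congrArg (Subgroup.map (MulAut.conj g).toMonoidHom) h7
    rw [map_conj_thompsonSubgroupOf, map_conj_map_conj_inv] at h8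
    exact h8
  · rw [wOf_map_conj, card_map_conj]
    exact h5
  · rw [wOf_map_conj]
    rintro _ ⟨w, hw, rfl⟩
    rw [← map_mul, h6 w hw, map_one]

/-- Conjugating by an element of `N(J(T))`. -/
theorem isJComponent_of_normalizer {g : G} (hg : g ∈ Subgroup.normalizer (thompsonSubgroupOf 2 T : Set G))
    (hK : IsJComponent T K) : IsJComponent T (K.map (cj g)) := by
  refine isJComponent_congr ?_ (isJComponent_map_conj g hK)
  rw [← map_conj_thompsonSubgroupOf]
  exact map_conj_eq_of_mem_normalizer hg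

/-- `N(K)^g = N(K^g)`. -/
theorem conj_mem_normalizer_map {g t : G} (ht : t ∈ Subgroup.normalizer (K : Set G)) :
    g * t * g⁻¹ ∈ Subgroup.normalizer ((K.map (cj g) : Subgroup G) : Set G) := by
  refine mem_normalizer_of_conj_le ?_
  rintro _ ⟨k, hk, rfl⟩
  refine ⟨t * k * t⁻¹, (Subgroup.mem_normalizer_iff.mp ht k).mp hk, ?_⟩
  simp only [cj_apply]
  group

/-! ### The family of components outside `M` -/

/-- The set-up of the theorem: the hypotheses on `G`, `M`, `T`. -/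
structure Setup (M T : Subgroup G) (S : Sylow 2 G) : Prop where
  hG : IsCharacteristicTwoType G
  hN : ∀ N : Subgroup G, IsTwoLocal N → Group.IsSolvable N
  hZ : ZNHyp G
  hMJ : Subgroup.normalizer (thompsonSubgroupOf 2 (S : Subgroup G) : Set G) ≤ M
  hT : T ∈ maxStraddlingTwoSubgroups M

/-- `J(T)`-components outside `M`. -/
def outside (M T : Subgroup G) : Set (Subgroup G) := {K | IsJComponent T K ∧ ¬ K ≤ M}

/-- Members of `𝒞(K)`. -/
def cl (M T K : Subgroup G) : Set (Subgroup G) :=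
  {K' | K' ∈ outside M T ∧ K' ≤ Subgroup.normalizer (K : Set G)}

/-- `⟨𝒞(K)⟩`. -/
def nStar (M T K : Subgroup G) : Subgroup G := sSup (cl M T K)

variable {M : Subgroup G} {S : Sylow 2 G} (h : Setup M T S)
include h

theorem zero_of_outside (hK : K ∈ outside M T) : K ∈ jComponentsZero T :=
  ⟨hK.1, fun _ hJR hR => (straddle h.hG S h.hMJ h.hT (twoLocal_w hK.1)
    (fun h' => hK.2 ((le_sup_left.trans (sup_le_w hK.1)).trans h')) hR hJR).1.symm⟩

theorem norm_eq (hK : K ∈ outside M T) :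
    Subgroup.normalizer (K : Set G) = Subgroup.normalizer (wOf K : Set G) :=
  normalizer_eq h.hG h.hN h.hZ (T_isP h.hT) (T_ne_bot h.hT) (zero_of_outside h hK)

theorem exists_data {L : Subgroup G} (hL : IsTwoLocal L) (hLM : ¬ L ≤ M)
    (hD : thompsonSubgroupOf 2 T ≤ L) :
    ∃ T' F, thompsonSubgroupOf 2 T' = thompsonSubgroupOf 2 T ∧ L ∈ jOvergroups T' ∧
      IsFF (omL L) L F ∧ IsPGroup 2 T' ∧ T' ≠ ⊥ := by
  obtain ⟨T', hT', hJT'⟩ := exists_sylowIn hD (thompson_isP (T_isP h.hT))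
  obtain ⟨e, -, hLT'⟩ := straddle h.hG S h.hMJ h.hT hL hLM hT' hJT'
  have hne : T' ≠ ⊥ := by
    intro h0
    apply J_ne_bot h.hT
    rw [eq_bot_iff, ← h0]
    exact hJT'
  obtain ⟨F, hF⟩ := JMain.exists_family h.hN h.hZ hne hLT'
  exact ⟨T', F, e.symm, hLT', hF, hT'.2.1, hne⟩

/-- The set-up for a component inside `L`, with prescribed family. -/
theorem kSetup_of {T' L K : Subgroup G} {F : Set (Subgroup G)} (hT' : IsPGroup 2 T') (hT'1 : T' ≠ ⊥)
    (hLT : L ∈ jOvergroups T') (hF : IsFF (omL L) L F) (hK : IsJComponent T' K) (hKL : K ≤ L) :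
    KSetup T' L K F := by
  refine ⟨JMain.lSetup_of h.hZ hLT, hLT.2.1, hK, hKL, ?_, hF⟩
  refine Cfsg.Agent.S2941.result h.hG h.hN h.hZ T' hT' hT'1 K hK _ ?_ ?_
  · refine le_trans (sup_le hKL ?_) le_normalizer_pCoreOf
    exact (thompsonSubgroupOf_le_self T').trans hLT.1.1
  · exact (pCoreOf_le_of_sylow hLT.1).trans
      (Subgroup.le_normalizer.trans (normalizer_le_normalizer_thompson T'))

/-- Components inside `L` normalize the four-groups of each other. -/
theorem clique_w {T' L K₁ K₂ : Subgroup G} {F : Set (Subgroup G)} (hT' : IsPGroup 2 T') (hT'1 : T' ≠ ⊥)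
    (hLT : L ∈ jOvergroups T') (hF : IsFF (omL L) L F) (hK₁ : IsJComponent T' K₁) (hK₁L : K₁ ≤ L)
    (hK₂ : IsJComponent T' K₂) (hK₂L : K₂ ≤ L) : K₁ ≤ Subgroup.normalizer (wOf K₂ : Set G) := by
  have h1 := kSetup_of h hT' hT'1 hLT hF hK₁ hK₁L
  have h2 := kSetup_of h hT' hT'1 hLT hF hK₂ hK₂L
  obtain ⟨x, hx, -, hxY⟩ := exists_odd hK₂
  obtain ⟨A, hA, b, hb, E, hE, hbE, hbZ, hbx, hxE⟩ := h2.exists_factor hx hxY
  rw [← h2.com_eq_w hx hxY hE hxE]
  intro k hk
  have hkF := h1.K_le_sSup hk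
  have hkL := hK₁L hk
  have hkE := hF.sSup_le_normalizer hE hkF
  have e1 : (omL L).map (cj k) = omL L := map_conj_eq_of_mem_normalizer (hF.norm hkL)
  have e2 : E.map (cj k) = E := map_conj_eq_of_mem_normalizer hkE
  refine mem_normalizer_of_conj_le fun w hw => ?_
  have h3 : cj k w ∈ (⁅omL L, E⁆ : Subgroup G).map (cj k) := Subgroup.mem_map_of_mem _ hw
  rw [Subgroup.map_commutator, e1, e2] at h3
  exact h3

/-- A component in a 2-local subgroup outside `M` normalizes any member of `outside M T` in it. -/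
theorem clique_out {L K₁ K₂ : Subgroup G} (hL : IsTwoLocal L) (hLM : ¬ L ≤ M)
    (hD : thompsonSubgroupOf 2 T ≤ L) (hK₁ : IsJComponent T K₁) (hK₁L : K₁ ≤ L)
    (hK₂ : K₂ ∈ outside M T) (hK₂L : K₂ ≤ L) : K₁ ≤ Subgroup.normalizer (K₂ : Set G) := by
  obtain ⟨T', F, e, hLT, hF, hT', hT'1⟩ := exists_data h hL hLM hD
  rw [norm_eq h hK₂]
  exact clique_w h hT' hT'1 hLT hF (isJComponent_congr e.symm hK₁) hK₁L
    (isJComponent_congr e.symm hK₂.1) hK₂L

/-- Data on `N(K)`. -/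
theorem twoLocal_N (hK : K ∈ outside M T) : IsTwoLocal (Subgroup.normalizer (K : Set G)) := by
  rw [norm_eq h hK]
  exact twoLocal_w hK.1

omit h in
theorem not_N_le (hK : K ∈ outside M T) : ¬ Subgroup.normalizer (K : Set G) ≤ M :=
  fun h' => hK.2 (Subgroup.le_normalizer.trans h')

omit h in
theorem J_le_NK (hK : K ∈ outside M T) : thompsonSubgroupOf 2 T ≤ Subgroup.normalizer (K : Set G) :=
  J_le_N hK.1

theorem cl_subset {K₁ : Subgroup G} (hK : K ∈ outside M T) (hK₁ : K₁ ∈ cl M T K) :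
    cl M T K ⊆ cl M T K₁ := by
  intro K₂ hK₂
  exact ⟨hK₂.1, clique_out h (twoLocal_N h hK) (not_N_le hK) (J_le_NK hK) hK₂.1.1 hK₂.2 hK₁.1 hK₁.2⟩

theorem self_mem_cl_of {K₁ : Subgroup G} (hK : K ∈ outside M T) (hK₁ : K₁ ∈ cl M T K) :
    K ∈ cl M T K₁ :=
  ⟨hK, clique_out h (twoLocal_N h hK) (not_N_le hK) (J_le_NK hK) hK.1 Subgroup.le_normalizer hK₁.1 hK₁.2⟩

/-- `𝒞(K₁) = 𝒞(K)` for `K₁ ∈ 𝒞(K)`. -/
theorem cl_eq {K₁ : Subgroup G} (hK : K ∈ outside M T) (hK₁ : K₁ ∈ cl M T K) : cl M T K₁ = cl M T K :=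
  Set.Subset.antisymm (cl_subset h hK₁.1 (self_mem_cl_of h hK hK₁)) (cl_subset h hK hK₁)

/-- `outside M T` is preserved by `N(J(T))`. -/
theorem conj_outside {g : G} (hg : g ∈ Subgroup.normalizer (thompsonSubgroupOf 2 T : Set G))
    (hK : K ∈ outside M T) : K.map (cj g) ∈ outside M T := by
  refine ⟨isJComponent_of_normalizer hg hK.1, fun hle => hK.2 fun k hk => ?_⟩
  have hgM : g ∈ M := normalizer_J_le h.hT S h.hMJ hg
  have h1 : g * k * g⁻¹ ∈ M := hle (Subgroup.mem_map_of_mem _ hk)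
  have e : k = g⁻¹ * (g * k * g⁻¹) * g := by group
  rw [e]
  exact mul_mem (mul_mem (inv_mem hgM) h1) hgM

/-- An element of `L` normalizing `J(T)` normalizes `⟨𝒞(K)⟩`. -/
theorem normalize_of_NJ {L : Subgroup G} (hK : K ∈ outside M T) (hL : IsTwoLocal L)
    (hKL : K ≤ L) (hD : thompsonSubgroupOf 2 T ≤ L) {g : G} (hgL : g ∈ L)
    (hg : g ∈ Subgroup.normalizer (thompsonSubgroupOf 2 T : Set G)) :
    g ∈ Subgroup.normalizer (nStar M T K : Set G) := by
  have hLM : ¬ L ≤ M := fun h' => hK.2 (hKL.trans h')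
  have hK' : K.map (cj g) ∈ outside M T := conj_outside h hg hK
  have hK'L : K.map (cj g) ≤ L := by
    rintro _ ⟨k, hk, rfl⟩
    exact mul_mem (mul_mem hgL (hKL hk)) (inv_mem hgL)
  have hK'N : K.map (cj g) ≤ Subgroup.normalizer (K : Set G) :=
    clique_out h hL hLM hD hK'.1 hK'L hK hKL
  have hcl : cl M T (K.map (cj g)) = cl M T K := cl_eq h hK ⟨hK', hK'N⟩
  refine mem_normalizer_of_conj_le ?_
  have hle : nStar M T K ≤ (nStar M T K).comap (cj g) := by
    refine sSup_le fun K₂ hK₂ k hk => ?_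
    rw [Subgroup.mem_comap]
    have hmem : K₂.map (cj g) ∈ cl M T K := by
      rw [← hcl]
      refine ⟨conj_outside h hg hK₂.1, ?_⟩
      rintro _ ⟨k', hk', rfl⟩
      exact conj_mem_normalizer_map (hK₂.2 hk')
    exact (le_sSup hmem) (Subgroup.mem_map_of_mem _ hk)
  exact fun z hz => hle hz

/-- A component in `N(K)` normalizes `⟨𝒞(K)⟩`. -/
theorem comp_normalizes {K₁ : Subgroup G} (hK : K ∈ outside M T) (hK₁ : IsJComponent T K₁)
    (hK₁N : K₁ ≤ Subgroup.normalizer (K : Set G)) :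
    K₁ ≤ Subgroup.normalizer (nStar M T K : Set G) := by
  intro k hk
  refine mem_normalizer_of_conj_le ?_
  have hle : nStar M T K ≤ (nStar M T K).comap (cj k) := by
    refine sSup_le fun K₂ hK₂ y hy => ?_
    rw [Subgroup.mem_comap]
    have h1 := clique_out h (twoLocal_N h hK) (not_N_le hK) (J_le_NK hK) hK₁ hK₁N hK₂.1 hK₂.2 hk
    exact (le_sSup hK₂) ((Subgroup.mem_normalizer_iff.mp h1 y).mp hy)
  exact fun z hz => hle hz

/-- `N(K)` normalizes `⟨𝒞(K)⟩`. -/
theorem N_le (hK : K ∈ outside M T) :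
    Subgroup.normalizer (K : Set G) ≤ Subgroup.normalizer (nStar M T K : Set G) := by
  have hL := twoLocal_N h hK
  obtain ⟨T', F, e, hLT, hF, hT', hT'1⟩ := exists_data h hL (not_N_le hK) (J_le_NK hK)
  have hgen := L_le_gen (JMain.lSetup_of h.hZ hLT) hF hLT.2.1
  refine hgen.trans (sup_le (sSup_le fun K₁ hK₁ => ?_) ?_)
  · exact comp_normalizes h hK (isJComponent_congr e (comps_isJ hK₁)) (comps_le hK₁)
  · rintro g ⟨hg1, hg2⟩
    rw [e] at hg2
    exact normalize_of_NJ h hK hL Subgroup.le_normalizer (J_le_NK hK) hg1 hg2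

/-- Every 2-local subgroup over `K J(T)` normalizes `⟨𝒞(K)⟩`. -/
theorem L_le {L : Subgroup G} (hK : K ∈ outside M T) (hL : IsTwoLocal L) (hKL : K ≤ L)
    (hD : thompsonSubgroupOf 2 T ≤ L) : L ≤ Subgroup.normalizer (nStar M T K : Set G) := by
  have hLM : ¬ L ≤ M := fun h' => hK.2 (hKL.trans h')
  obtain ⟨T', F, e, hLT, hF, hT', hT'1⟩ := exists_data h hL hLM hD
  have hgen := L_le_gen (JMain.lSetup_of h.hZ hLT) hF hLT.2.1
  refine hgen.trans (sup_le (sSup_le fun K₁ hK₁ => ?_) ?_)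
  · have hK₁J := isJComponent_congr e (comps_isJ hK₁)
    exact (clique_out h hL hLM hD hK₁J (comps_le hK₁) hK hKL).trans (N_le h hK)
  · rintro g ⟨hg1, hg2⟩
    rw [e] at hg2
    exact normalize_of_NJ h hK hL hKL hD hg1 hg2

/-- The subgroup `L₀ = N(O₂(⟨𝒞(K)⟩))`. -/
noncomputable abbrev lZero (M T K : Subgroup G) : Subgroup G :=
  Subgroup.normalizer (pCoreOf 2 (nStar M T K) : Set G)

theorem twoLocal_lZero (hK : K ∈ outside M T) : IsTwoLocal (lZero M T K) := by
  refine ⟨_, core_isP, ?_, rfl⟩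
  have hle : wOf K ≤ pCoreOf 2 (nStar M T K) := by
    have hmem : K ∈ cl M T K := ⟨hK, Subgroup.le_normalizer⟩
    have hWK : wOf K ≤ K := by
      unfold wOf
      rw [Subgroup.commutator_le]
      intro a ha k hk
      rw [commutatorElement_def]
      have haK : a ∈ K := pCoreOf_le (mem_omegaCenterOf_iff.mp ha).1
      exact mul_mem (mul_mem (mul_mem haK hk) (inv_mem haK)) (inv_mem hk)
    refine le_pCoreOf (hWK.trans (le_sSup hmem)) (w_isP hK.1) ?_
    intro l hl q hq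
    have hl2 : nStar M T K ≤ Subgroup.normalizer (wOf K : Set G) := by
      refine sSup_le fun K₂ hK₂ => ?_
      rw [← norm_eq h hK]
      exact hK₂.2
    exact (Subgroup.mem_normalizer_iff.mp (hl2 hl) q).mp hq
  intro hbot
  rw [hbot, le_bot_iff] at hle
  exact w_ne_bot hK.1 hle

theorem le_lZero {L : Subgroup G} (hK : K ∈ outside M T) (hL : IsTwoLocal L) (hKL : K ≤ L)
    (hD : thompsonSubgroupOf 2 T ≤ L) : L ≤ lZero M T K :=
  fun _ hg => normalizer_pCoreOf (L_le h hK hL hKL hD hg)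

theorem sup_le_lZero (hK : K ∈ outside M T) : K ⊔ thompsonSubgroupOf 2 T ≤ lZero M T K :=
  (sup_le (Subgroup.le_normalizer) (J_le_NK hK)).trans
    (le_lZero h hK (twoLocal_N h hK) Subgroup.le_normalizer (J_le_NK hK))

/-- **The theorem.** -/
theorem main (hK : K ∈ jComponentsOutside M T) :
    ∃ L : Subgroup G, IsMaximalTwoLocal L ∧ K ⊔ thompsonSubgroupOf 2 T ≤ L ∧
      (∀ L' : Subgroup G, IsMaximalTwoLocal L' → K ⊔ thompsonSubgroupOf 2 T ≤ L' → L' = L) ∧
      (K.subgroupOf L).IsSubnormal ∧ IsSylowTwoIn T L := by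
  have hK' : K ∈ outside M T := ⟨hK.1.1, hK.2.1⟩
  have hL₀ := twoLocal_lZero h hK'
  have hsup := sup_le_lZero h hK'
  have hKL : K ≤ lZero M T K := le_sup_left.trans hsup
  have hDL : thompsonSubgroupOf 2 T ≤ lZero M T K := le_sup_right.trans hsup
  have hLM : ¬ lZero M T K ≤ M := fun h' => hK'.2 (hKL.trans h')
  refine ⟨lZero M T K, ⟨hL₀, fun N hN hle => le_antisymm ?_ hle⟩, hsup, ?_, ?_, ?_⟩
  · exact le_lZero h hK' hN (hKL.trans hle) (hDL.trans hle)
  · intro L' hL' hle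
    refine hL'.2 _ hL₀ (le_lZero h hK' hL'.1 (le_sup_left.trans hle) (le_sup_right.trans hle)) |>.symm
  · obtain ⟨T', F, e, hLT, hF, hT', hT'1⟩ := exists_data h hL₀ hLM hDL
    exact JMain.subnormal h.hG h.hN h.hZ hT' hT'1 hLT (isJComponent_congr e.symm hK.1.1) hKL
  · have hTL : T ≤ lZero M T K := by
      have hq : IsTwoLocal (Subgroup.normalizer (pCoreOf 2 (K ⊔ T) : Set G)) :=
        ⟨_, core_isP, hK.2.2, rfl⟩
      have hle : K ⊔ T ≤ Subgroup.normalizer (pCoreOf 2 (K ⊔ T) : Set G) := le_normalizer_pCoreOf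
      have h1 := le_lZero h hK' hq (le_sup_left.trans hle)
        ((thompsonSubgroupOf_le_self T).trans (le_sup_right.trans hle))
      exact (le_sup_right.trans hle).trans h1
    exact (sylow_of_le h.hG S h.hMJ h.hT hL₀ hLM hTL).1

end Cfsg.Agent.Lib.Amalgam.JUnique
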