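import Mathlib
import Cfsg.Agent.Lib.Amalgam.GoldInst

/-!
# The amalgam theorem for a pair of subgroups of a group
-/

set_option autoImplicit false

namespace Cfsg.Agent.Lib.Amalgam.Strad

open Cfsg
open Cfsg.Agent.Lib.Amalgam.Gold

variable {G : Type*} [Group G]

theorem hypQ_subgroupOf {X T P Q : Subgroup G} (hP : P ≤ X) (h : HypQ T P Q) :
    HypQ (T.subgroupOf X) (P.subgroupOf X) (Q.subgroupOf X) where
  le := fun x hx => Subgroup.mem_subgroupOf.mpr (h.le (Subgroup.mem_subgroupOf.mp hx))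
  qle := fun x hx => Subgroup.mem_subgroupOf.mpr (h.qle (Subgroup.mem_subgroupOf.mp hx))
  idx3 := by rw [Subgroup.relIndex_subgroupOf hP]; exact h.idx3
  idx2 := by
    rw [Subgroup.relIndex_subgroupOf (h.le.trans hP)]; exact h.idx2
  core := by
    intro g hg hc
    refine Subgroup.mem_subgroupOf.mpr (h.core g (Subgroup.mem_subgroupOf.mp hg) fun p hp => ?_)
    have := hc ⟨p, hP hp⟩ (Subgroup.mem_subgroupOf.mpr hp)
    exact Subgroup.mem_subgroupOf.mp this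
  qcore := by
    intro g hg p hp
    exact Subgroup.mem_subgroupOf.mpr
      (h.qcore g (Subgroup.mem_subgroupOf.mp hg) p (Subgroup.mem_subgroupOf.mp hp))
  cen := by
    intro g hg hc
    refine Subgroup.mem_subgroupOf.mpr (h.cen g (Subgroup.mem_subgroupOf.mp hg) fun q hq => ?_)
    have := hc ⟨q, hP (h.le (h.qle hq))⟩ (Subgroup.mem_subgroupOf.mpr hq)
    exact congrArg Subtype.val this
  nc := by
    obtain ⟨g, hg, z, hz, hc, hs, hn⟩ := h.nc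
    refine ⟨⟨g, hP hg⟩, Subgroup.mem_subgroupOf.mpr hg, ⟨z, hP (h.le hz)⟩, Subgroup.mem_subgroupOf.mpr hz,
      ?_, Subtype.ext hs, fun e => hn (congrArg Subtype.val e)⟩
    intro t ht
    exact Subtype.ext (hc t (Subgroup.mem_subgroupOf.mp ht))

variable [Finite G]

/-- **The amalgam theorem**, for two subgroups of a finite group. -/
theorem amalgam_facts {T P₁ P₂ Q₁ Q₂ : Subgroup G} (hT : T = P₁ ⊓ P₂) (hT2 : IsPGroup 2 T)
    (H₁ : HypQ T P₁ Q₁) (H₂ : HypQ T P₂ Q₂)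
    (hcore : ∀ N : Subgroup G, N ≤ T → P₁ ≤ Subgroup.normalizer (N : Set G) →
      P₂ ≤ Subgroup.normalizer (N : Set G) → N = ⊥) :
    (∀ e ∈ Q₁, e * e = 1) ∧ (∀ e ∈ Q₂, e * e = 1) ∧
    ((Nat.card Q₁ = 4 ∧ Nat.card Q₂ = 4 ∧ Nonempty (P₁ ≃* Equiv.Perm (Fin 4)) ∧
        Nonempty (P₂ ≃* Equiv.Perm (Fin 4))) ∨
      (Nat.card Q₁ = 8 ∧ Nat.card Q₂ = 8 ∧ Nonempty (P₁ ≃* Multiplicative (ZMod 2) × Equiv.Perm (Fin 4)) ∧
        Nonempty (P₂ ≃* Multiplicative (ZMod 2) × Equiv.Perm (Fin 4)))) := by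
  set X : Subgroup G := P₁ ⊔ P₂ with hX
  have h1X : P₁ ≤ X := le_sup_left
  have h2X : P₂ ≤ X := le_sup_right
  have hTX : T ≤ X := H₁.le.trans h1X
  have hgen : P₁.subgroupOf X ⊔ P₂.subgroupOf X = ⊤ := by
    rw [← Subgroup.subgroupOf_sup h1X h2X, Subgroup.subgroupOf_self]
  have hinf : P₁.subgroupOf X ⊓ P₂.subgroupOf X = T.subgroupOf X := by
    ext x
    simp [Subgroup.mem_subgroupOf, hT]
  have hT2' : IsPGroup 2 (P₁.subgroupOf X ⊓ P₂.subgroupOf X : Subgroup X) := by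
    rw [hinf]
    exact hT2.of_equiv (Subgroup.subgroupOfEquivOfLe hTX).symm
  have H₁' : HypQ (P₁.subgroupOf X ⊓ P₂.subgroupOf X) (P₁.subgroupOf X) (Q₁.subgroupOf X) := by
    rw [hinf]
    exact hypQ_subgroupOf h1X H₁
  have H₂' : HypQ (P₁.subgroupOf X ⊓ P₂.subgroupOf X) (P₂.subgroupOf X) (Q₂.subgroupOf X) := by
    rw [hinf]
    exact hypQ_subgroupOf h2X H₂
  have hcore' : ∀ N : Subgroup X, N.Normal → N ≤ P₁.subgroupOf X ⊓ P₂.subgroupOf X → N = ⊥ := by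
    intro N hN hle
    have hno : ∀ {P : Subgroup G}, P ≤ X → P ≤ Subgroup.normalizer ((N.map X.subtype : Subgroup G) : Set G) := by
      intro P hPX p hp
      refine Subgroup.mem_normalizer_iff.mpr fun n => ?_
      constructor
      · rintro ⟨m, hm, rfl⟩
        refine ⟨⟨p, hPX hp⟩ * m * (⟨p, hPX hp⟩ : X)⁻¹, hN.conj_mem m hm _, ?_⟩
        simp
      · rintro ⟨m, hm, e⟩
        refine ⟨(⟨p, hPX hp⟩ : X)⁻¹ * m * (⟨p, hPX hp⟩ : X), ?_, ?_⟩
        · have := hN.conj_mem m hm (⟨p, hPX hp⟩ : X)⁻¹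
          simpa using this
        · have e' : (m : G) = p * n * p⁻¹ := e
          simp [e']
          group
    have hbot := hcore (N.map X.subtype) ?_ (hno h1X) (hno h2X)
    · rw [Subgroup.map_eq_bot_iff_of_injective _ X.subtype_injective] at hbot
      exact hbot
    · rintro _ ⟨m, hm, rfl⟩
      have := hle hm
      rw [hinf] at this
      exact Subgroup.mem_subgroupOf.mp this
  obtain ⟨e₁, e₂, hc⟩ := amalgam_Q hgen hT2' H₁' H₂' hcore'
  have hc₁ : Nat.card (Q₁.subgroupOf X) = Nat.card Q₁ :=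
    Nat.card_congr (Subgroup.subgroupOfEquivOfLe (H₁.qle.trans hTX)).toEquiv
  have hc₂ : Nat.card (Q₂.subgroupOf X) = Nat.card Q₂ :=
    Nat.card_congr (Subgroup.subgroupOfEquivOfLe (H₂.qle.trans hTX)).toEquiv
  have f₁ : P₁ ≃* P₁.subgroupOf X := (Subgroup.subgroupOfEquivOfLe h1X).symm
  have f₂ : P₂ ≃* P₂.subgroupOf X := (Subgroup.subgroupOfEquivOfLe h2X).symm
  refine ⟨?_, ?_, ?_⟩
  · intro e he
    have := e₁ ⟨e, H₁.le (H₁.qle he) |> h1X⟩ (Subgroup.mem_subgroupOf.mpr he)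
    exact congrArg Subtype.val this
  · intro e he
    have := e₂ ⟨e, H₂.le (H₂.qle he) |> h2X⟩ (Subgroup.mem_subgroupOf.mpr he)
    exact congrArg Subtype.val this
  · rw [hc₁, hc₂] at hc
    rcases hc with ⟨a, b, ⟨g₁⟩, ⟨g₂⟩⟩ | ⟨a, b, ⟨g₁⟩, ⟨g₂⟩⟩
    · exact Or.inl ⟨a, b, ⟨f₁.trans g₁⟩, ⟨f₂.trans g₂⟩⟩
    · exact Or.inr ⟨a, b, ⟨f₁.trans g₁⟩, ⟨f₂.trans g₂⟩⟩

end Cfsg.Agent.Lib.Amalgam.Strad
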