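import Mathlib
import Cfsg.Agent.Lib.Amalgam.JUnique
import Cfsg.Agent.Lib.Amalgam.StradAm

/-!
# `𝒯*(M)`: basic facts on `J(T)`-components outside `M`
-/

set_option autoImplicit false
set_option linter.unusedSectionVars false
set_option linter.style.haveILetI false

namespace Cfsg.Agent.Lib.Amalgam.Strad

open Cfsg Cfsg.Agent.Lib.PGroup.ThompsonG Cfsg.Agent.Lib.Amalgam.JComp Cfsg.Agent.Lib.Amalgam.JLocal
open Cfsg.Agent.Lib.Amalgam.FFLocal Cfsg.Agent.Lib.Amalgam.JZero Cfsg.Agent.Lib.Amalgam.JSub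
open Cfsg.Agent.Lib.Amalgam.JExist Cfsg.Agent.Lib.Amalgam.JMax Cfsg.Agent.Lib.Amalgam.JGen
open Cfsg.Agent.Lib.Amalgam.JUnique
open Cfsg.Agent.Lib.Amalgam.Vertex (conj_mem_pCoreOf pCoreOf_le le_normalizer_pCoreOf)

variable {G : Type*} [Group G] [Finite G]

/-! ### Generalities -/

/-- An element commuting with `c` normalizes `⟨c⟩`. -/
theorem mem_norm_zpowers {c g : G} (h : g * c = c * g) :
    g ∈ Subgroup.normalizer ((Subgroup.zpowers c : Subgroup G) : Set G) := by
  refine mem_normalizer_of_conj_le ?_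
  rintro _ ⟨i, rfl⟩
  refine ⟨i, ?_⟩
  have e : g * c * g⁻¹ = c := by rw [h]; group
  show c ^ i = g * c ^ i * g⁻¹
  rw [← MulAut.conj_apply, map_zpow, MulAut.conj_apply, e]

theorem isP_zpowers {c : G} (hc : c * c = 1) : IsPGroup 2 (Subgroup.zpowers c) := by
  rw [IsPGroup.iff_card, Nat.card_zpowers]
  have h1 : c ^ 2 ^ 1 = 1 := by rw [pow_one, pow_two, hc]
  obtain ⟨m, -, hm⟩ := (Nat.dvd_prime_pow Nat.prime_two).mp (_root_.orderOf_dvd_of_pow_eq_one h1)
  exact ⟨m, hm⟩

theorem twoLocal_zpowers {c : G} (hc1 : c ≠ 1) (hc : c * c = 1) :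
    IsTwoLocal (Subgroup.normalizer ((Subgroup.zpowers c : Subgroup G) : Set G)) := by
  refine ⟨_, isP_zpowers hc, ?_, rfl⟩
  intro h
  exact hc1 (Subgroup.zpowers_eq_bot.mp h)

/-- The normalizer of a nontrivial 2-subgroup is 2-local. -/
theorem twoLocal_of {N : Subgroup G} (h2 : IsPGroup 2 N) (h1 : N ≠ ⊥) :
    IsTwoLocal (Subgroup.normalizer (N : Set G)) := ⟨N, h2, h1, rfl⟩

/-- Conjugates of 2-local subgroups are 2-local. -/
theorem twoLocal_map_conj (g : G) {L : Subgroup G} (hL : IsTwoLocal L) : IsTwoLocal (L.map (cj g)) := by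
  obtain ⟨X, h2, h1, rfl⟩ := hL
  refine ⟨X.map (cj g), IsPGroup.iff_card.mpr ?_, ?_, ?_⟩
  · rw [card_map_conj]
    exact IsPGroup.iff_card.mp h2
  · intro h
    apply h1
    rwa [Subgroup.map_eq_bot_iff_of_injective _ (MulAut.conj g).injective] at h
  · ext x
    constructor
    · rintro ⟨y, hy, rfl⟩
      exact conj_mem_normalizer_map hy
    · intro hx
      refine ⟨g⁻¹ * x * g, ?_, by simp [mul_assoc]⟩
      have := conj_mem_normalizer_map (K := X.map (cj g)) (g := g⁻¹) hx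
      rw [map_cj_inv] at this
      simpa using this

/-- A maximal 2-local subgroup is the normalizer of its 2-core. -/
theorem core_ne_bot_of_twoLocal {L : Subgroup G} (hL : IsTwoLocal L) : pCoreOf 2 L ≠ ⊥ := by
  obtain ⟨X, h2, h1, rfl⟩ := hL
  intro hbot
  have hle : X ≤ pCoreOf 2 (Subgroup.normalizer (X : Set G)) :=
    le_pCoreOf Subgroup.le_normalizer h2 fun l hl q hq => (Subgroup.mem_normalizer_iff.mp hl q).mp hq
  rw [hbot, le_bot_iff] at hle
  exact h1 hle

theorem normalizer_core_eq {L : Subgroup G} (hL : IsMaximalTwoLocal L) :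
    Subgroup.normalizer (pCoreOf 2 L : Set G) = L :=
  hL.2 _ ⟨_, core_isP, core_ne_bot_of_twoLocal hL.1, rfl⟩ le_normalizer_pCoreOf

/-- If `L` is maximal 2-local and `g` normalizes it, `g ∈ L`. -/
theorem mem_of_map_eq {L : Subgroup G} (hL : IsMaximalTwoLocal L) {g : G} (h : L.map (cj g) = L) : g ∈ L := by
  rw [← normalizer_core_eq hL]
  refine mem_normalizer_of_conj_le fun y hy => ?_
  have h1 : cj g y ∈ (pCoreOf 2 L).map (cj g) := Subgroup.mem_map_of_mem _ hy
  rw [← pCoreOf_map_conj, h] at h1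
  exact h1

/-- A nontrivial 2-group has a central involution. -/
theorem omega_ne_bot {T : Subgroup G} (hT : IsPGroup 2 T) (hT1 : T ≠ ⊥) : omegaCenterOf T ≠ ⊥ := by
  haveI : Fact (Nat.Prime 2) := ⟨Nat.prime_two⟩
  haveI : Nontrivial T := (Subgroup.nontrivial_iff_ne_bot T).mpr hT1
  haveI := hT.center_nontrivial
  obtain ⟨z, hz⟩ := exists_ne (1 : Subgroup.center T)
  have hz2 : IsPGroup 2 (Subgroup.center T) := hT.to_subgroup _
  obtain ⟨n, hn⟩ := (IsPGroup.iff_orderOf.mp hz2) z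
  have hn0 : n ≠ 0 := by
    rintro rfl
    simp at hn
    exact hz hn
  obtain ⟨m, rfl⟩ := Nat.exists_eq_succ_of_ne_zero hn0
  set u := z ^ 2 ^ m with hu
  have hu2 : u ^ 2 = 1 := by
    rw [hu, ← pow_mul, ← pow_succ, ← hn, pow_orderOf_eq_one]
  have hu1 : u ≠ 1 := by
    intro h
    have := _root_.orderOf_dvd_of_pow_eq_one h
    rw [hn] at this
    have h2 := (Nat.pow_dvd_pow_iff_le_right (by norm_num : 1 < 2)).mp this
    omega
  intro hbot
  apply hu1
  have hmem : (((u : Subgroup.center T) : T) : G) ∈ omegaCenterOf T := by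
    rw [mem_omegaCenterOf_iff]
    refine ⟨((u : Subgroup.center T) : T).2, fun v hv => ?_, ?_⟩
    · have := Subgroup.mem_center_iff.mp u.2 ⟨v, hv⟩
      exact congrArg Subtype.val this
    · have e := congrArg (fun x : Subgroup.center T => ((x : T) : G)) hu2
      simpa using e
  rw [hbot, Subgroup.mem_bot] at hmem
  apply Subtype.ext
  apply Subtype.ext
  simpa using hmem

/-- `Ω₁(Z(T)) ≤ Ω₁(Z(J(T)))`. -/
theorem omega_le_omega_J {T : Subgroup G} : omegaCenterOf T ≤ omegaCenterOf (thompsonSubgroupOf 2 T) := by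
  intro z hz
  obtain ⟨h1, h2, h3⟩ := mem_omegaCenterOf_iff.mp hz
  obtain ⟨A, hA⟩ := exists_mem_gMaxEA (p := 2) T
  refine mem_omegaCenterOf_iff.mpr ⟨le_thompsonSubgroupOf hA (mem_of_centralize hA h1 h3 fun a ha => ?_),
    fun u hu => h2 u (thompsonSubgroupOf_le_self T hu), h3⟩
  exact h2 a (hA.1 ha)

/-- The Sylow subgroup of a subgroup between. -/
theorem isSylow_of_between {T P L : Subgroup G} (hT : IsSylowTwoIn T L) (hTP : T ≤ P) (hPL : P ≤ L) :
    IsSylowTwoIn T P := by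
  refine ⟨hTP, hT.2.1, ?_⟩
  have := Subgroup.relIndex_mul_relIndex T P L hTP hPL
  have h2 := hT.2.2
  rw [← this] at h2
  exact (Nat.odd_mul.mp h2).1

/-- A Sylow `2`-subgroup of `G` is Sylow in its overgroups. -/
theorem sylow_in {S : Sylow 2 G} {M : Subgroup G} (hSM : (S : Subgroup G) ≤ M) :
    IsSylowTwoIn (S : Subgroup G) M := by
  refine ⟨hSM, S.isPGroup', ?_⟩
  have h1 : ¬ 2 ∣ (S : Subgroup G).index := S.not_dvd_index
  have h2 : (S : Subgroup G).relIndex M ∣ (S : Subgroup G).index :=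
    ⟨M.index, (Subgroup.relIndex_mul_index hSM).symm⟩
  rw [Nat.odd_iff]
  have h3 : ¬ 2 ∣ (S : Subgroup G).relIndex M := fun h4 => h1 (h4.trans h2)
  omega

theorem two_element_of_mem {T : Subgroup G} (hT : IsPGroup 2 T) {u : G} (hu : u ∈ T) :
    ∃ n : ℕ, u ^ 2 ^ n = 1 := by
  obtain ⟨a, ha⟩ := (IsPGroup.iff_orderOf.mp hT) ⟨u, hu⟩
  rw [Subgroup.orderOf_mk] at ha
  exact ⟨a, by rw [← ha, pow_orderOf_eq_one]⟩

/-! ### The hypotheses -/

variable {M T K K' : Subgroup G} {S : Sylow 2 G}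

/-- Sylow subgroup `S` lies in `M`. -/
theorem S_le_M (h : Setup M T S) : (S : Subgroup G) ≤ M :=
  (Subgroup.le_normalizer.trans (normalizer_le_normalizer_thompson _)).trans h.hMJ

section Setup

variable (h : Setup M T S)
include h

/-- `T` lies in `L₀` and `L₀ ∈ ℒ(T)`. -/
theorem lZero_mem (hK : K ∈ jComponentsOutside M T) : lZero M T K ∈ jOvergroups T := by
  have hK' : K ∈ outside M T := ⟨hK.1.1, hK.2.1⟩
  have hL₀ := twoLocal_lZero h hK'
  have hsup := sup_le_lZero h hK'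
  have hKL : K ≤ lZero M T K := le_sup_left.trans hsup
  have hLM : ¬ lZero M T K ≤ M := fun h' => hK'.2 (hKL.trans h')
  have hTL : T ≤ lZero M T K := by
    have hq : IsTwoLocal (Subgroup.normalizer (pCoreOf 2 (K ⊔ T) : Set G)) :=
      ⟨_, core_isP, hK.2.2, rfl⟩
    have hle : K ⊔ T ≤ Subgroup.normalizer (pCoreOf 2 (K ⊔ T) : Set G) := le_normalizer_pCoreOf
    have h1 := le_lZero h hK' hq (le_sup_left.trans hle)
      ((thompsonSubgroupOf_le_self T).trans (le_sup_right.trans hle))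
    exact (le_sup_right.trans hle).trans h1
  exact sylow_of_le h.hG S h.hMJ h.hT hL₀ hLM hTL

theorem K_le_lZero (hK : K ∈ outside M T) : K ≤ lZero M T K :=
  le_sup_left.trans (sup_le_lZero h hK)

theorem J_le_lZero (hK : K ∈ outside M T) : thompsonSubgroupOf 2 T ≤ lZero M T K :=
  le_sup_right.trans (sup_le_lZero h hK)

theorem isMax_lZero (hK : K ∈ outside M T) : IsMaximalTwoLocal (lZero M T K) :=
  ⟨twoLocal_lZero h hK, fun N hN hle =>
    le_antisymm (le_lZero h hK hN ((K_le_lZero h hK).trans hle) ((J_le_lZero h hK).trans hle)) hle⟩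

/-- `L₀` is determined by any of the components it contains. -/
theorem lZero_eq_of_le (hK : K ∈ outside M T) (hK' : K' ∈ outside M T) (hle : K' ≤ lZero M T K) :
    lZero M T K' = lZero M T K := by
  have h1 : lZero M T K ≤ lZero M T K' :=
    le_lZero h hK' (twoLocal_lZero h hK) hle (J_le_lZero h hK)
  exact le_antisymm (le_lZero h hK (twoLocal_lZero h hK') ((K_le_lZero h hK).trans h1) (J_le_lZero h hK')) h1

/-- `L₀` under conjugation. -/
theorem lZero_conj_le {g : G} (hg : g ∈ Subgroup.normalizer (thompsonSubgroupOf 2 T : Set G))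
    (hK : K ∈ outside M T) : (lZero M T K).map (cj g) ≤ lZero M T (K.map (cj g)) := by
  have hK' := conj_outside h hg hK
  refine le_lZero h hK' (twoLocal_map_conj g (twoLocal_lZero h hK)) (Subgroup.map_mono (K_le_lZero h hK)) ?_
  have : thompsonSubgroupOf 2 T = (thompsonSubgroupOf 2 T).map (cj g) :=
    (map_conj_eq_of_mem_normalizer hg).symm
  rw [this]
  exact Subgroup.map_mono (J_le_lZero h hK)

theorem lZero_conj {g : G} (hg : g ∈ Subgroup.normalizer (thompsonSubgroupOf 2 T : Set G))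
    (hK : K ∈ outside M T) : lZero M T (K.map (cj g)) = (lZero M T K).map (cj g) := by
  apply le_antisymm _ (lZero_conj_le h hg hK)
  have hK' := conj_outside h hg hK
  have h1 := lZero_conj_le h (inv_mem hg) hK'
  rw [map_cj_inv] at h1
  have h2 := Subgroup.map_mono (f := cj g) h1
  rwa [map_conj_map_conj_inv] at h2

/-- Centralizers of involutions in `C(K J)` lie in `L₀`. -/
theorem mem_lZero_of_comm (hK : K ∈ outside M T) {c g : G} (hc1 : c ≠ 1) (hc : c * c = 1)
    (hKc : ∀ k ∈ K, k * c = c * k) (hJc : ∀ j ∈ thompsonSubgroupOf 2 T, j * c = c * j) (hg : g * c = c * g) :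
    g ∈ lZero M T K :=
  le_lZero h hK (twoLocal_zpowers hc1 hc) (fun _ hk => mem_norm_zpowers (hKc _ hk))
    (fun _ hj => mem_norm_zpowers (hJc _ hj)) (mem_norm_zpowers hg)

/-- `Ω₁(Z(S)) ≤ Ω₁(Z(T))` for `T ≤ S`. -/
theorem omega_S_le (hTS : T ≤ S) : omegaCenterOf (S : Subgroup G) ≤ omegaCenterOf T := by
  intro z hz
  obtain ⟨h1, h2, h3⟩ := mem_omegaCenterOf_iff.mp hz
  obtain ⟨-, -, -, L, hL2, hTL, hLM⟩ := h.hT.1
  have hLT := sylow_of_le h.hG S h.hMJ h.hT hL2 hLM hTL
  have hzT : z ∈ T := by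
    apply pCoreOf_le_of_sylow hLT.1
    apply hLT.2.2
    rw [Subgroup.mem_centralizer_iff]
    intro q hq
    exact h2 q (hTS (pCoreOf_le_of_sylow hLT.1 hq))
  exact mem_omegaCenterOf_iff.mpr ⟨hzT, fun u hu => h2 u (hTS hu), h3⟩

/-- Overgroups in `S` of `T` lying in a 2-local subgroup outside `M` equal `T`. -/
theorem eq_T_of_le {H : Subgroup G} (hH : IsTwoLocal H) (hHM : ¬ H ≤ M) (hT : T ≤ H) (hTS : T ≤ S) :
    (S : Subgroup G) ⊓ H = T := by
  refine eq_of_ge h.hT ⟨IsPGroup.to_inf_left S.isPGroup', ?_, inf_le_left.trans (S_le_M h), H, hH, inf_le_right, hHM⟩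
    (le_inf hTS hT)
  intro hb
  apply T_ne_bot h.hT
  rw [eq_bot_iff, ← hb]
  exact le_inf hTS hT

/-- **F4**. -/
theorem not_cen (hTS : T ≤ S) (hK : K ∈ outside M T) : ¬ ∀ k ∈ K, ∀ z ∈ omegaCenterOf T, k * z = z * k := by
  intro hc
  have hF1 := omega_ne_bot (T_isP h.hT) (T_ne_bot h.hT)
  have hF2 : IsPGroup 2 (omegaCenterOf T) :=
    IsPGroup.to_le (T_isP h.hT) fun _ hz => (mem_omegaCenterOf_iff.mp hz).1
  have hloc := twoLocal_of hF2 hF1
  have hNT : Subgroup.normalizer (T : Set G) ≤ Subgroup.normalizer (omegaCenterOf T : Set G) :=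
    fun g hg => mem_normalizer_of_conj_le fun v hv => conj_mem_omegaCenterOf hg hv
  have hKN : K ≤ Subgroup.normalizer (omegaCenterOf T : Set G) := fun k hk =>
    mem_normalizer_of_conj_le fun v hv => by
      rw [hc k hk v hv]
      simpa using hv
  have hNM : ¬ Subgroup.normalizer (omegaCenterOf T : Set G) ≤ M := fun h' => hK.2 (hKN.trans h')
  have hTN : T ≤ Subgroup.normalizer (omegaCenterOf T : Set G) := Subgroup.le_normalizer.trans hNT
  have hY := eq_T_of_le h hloc hNM hTN hTS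
  have hTeq : T = S := eq_of_normalizer_le S.isPGroup' hTS fun u hu hun => by
    rw [← hY]
    exact ⟨hu, hNT hun⟩
  apply hK.2
  intro k hk
  apply h.hMJ
  apply normalizer_le_normalizer_thompson
  apply h.hZ S
  rw [Subgroup.mem_centralizer_iff]
  intro z hz
  rw [← hTeq] at hz
  exact (hc k hk z hz).symm

end Setup

end Cfsg.Agent.Lib.Amalgam.Strad
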