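import Mathlib
import Cfsg.Agent.Lib.Amalgam.StradBase

/-!
# `𝒯*(M)`: pairs of components
-/

set_option autoImplicit false
set_option linter.unusedSectionVars false
set_option linter.style.haveILetI false

namespace Cfsg.Agent.Lib.Amalgam.Strad

open Cfsg Cfsg.Agent.Lib.PGroup.ThompsonG Cfsg.Agent.Lib.Amalgam.JComp Cfsg.Agent.Lib.Amalgam.JLocal
open Cfsg.Agent.Lib.Amalgam.FFLocal Cfsg.Agent.Lib.Amalgam.JZero Cfsg.Agent.Lib.Amalgam.JSub
open Cfsg.Agent.Lib.Amalgam.JExist Cfsg.Agent.Lib.Amalgam.JMax Cfsg.Agent.Lib.Amalgam.JGen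
open Cfsg.Agent.Lib.Amalgam.JUnique Cfsg.Agent.Lib.Amalgam.Gold
open Cfsg.Agent.Lib.Amalgam.Vertex (conj_mem_pCoreOf pCoreOf_le le_normalizer_pCoreOf)

variable {G : Type*} [Group G] [Finite G]

/-! ### Index computations -/

/-- The index of a subgroup in its join with a subgroup it normalizes. -/
theorem relIndex_sup_of_le_normalizer {K T : Subgroup G} (hTK : T ≤ Subgroup.normalizer (K : Set G)) :
    T.relIndex (K ⊔ T) = T.relIndex K := by
  set P := K ⊔ T with hP
  have hKP : K ≤ P := le_sup_left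
  have hTP : T ≤ P := le_sup_right
  set K' := K.subgroupOf P with hK'
  set T' := T.subgroupOf P with hT'
  haveI hn : K'.Normal := by
    rw [hK', Subgroup.normal_subgroupOf_iff_le_normalizer hKP]
    exact sup_le Subgroup.le_normalizer hTK
  have hsup : T' ⊔ K' = ⊤ := by
    rw [hT', hK', ← Subgroup.subgroupOf_sup hTP hKP, sup_comm]
    exact Subgroup.subgroupOf_self _
  have r1 := Subgroup.relIndex_mul_relIndex (T' ⊓ K') T' ⊤ inf_le_left le_top
  have r2 := Subgroup.relIndex_mul_relIndex (T' ⊓ K') K' ⊤ inf_le_right le_top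
  have r3 : K'.relIndex ⊤ = K'.relIndex T' := by
    rw [← hsup]
    exact Subgroup.relIndex_sup_right _ _
  have r4 : (T' ⊓ K').relIndex T' = K'.relIndex T' := Subgroup.inf_relIndex_left _ _
  have r5 : (T' ⊓ K').relIndex K' = T'.relIndex K' := Subgroup.inf_relIndex_right _ _
  rw [r4] at r1
  rw [r5, r3, ← r1] at r2
  have hpos : K'.relIndex T' ≠ 0 := (Nat.card_pos (α := T' ⧸ K'.subgroupOf T')).ne'
  have h1 : T'.relIndex ⊤ = T'.relIndex K' := by
    rw [mul_comm (T'.relIndex K')] at r2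
    exact (Nat.eq_of_mul_eq_mul_left (Nat.pos_of_ne_zero hpos) r2).symm
  have h2 : T'.relIndex K' = T.relIndex K := Subgroup.relIndex_subgroupOf hKP
  rw [← h2, ← h1, Subgroup.relIndex_top_right]
  rfl

/-- A non-normal subgroup of index 3 has a normal core of index 6. -/
theorem normalCore_index_six {A : Type*} [Group A] [Finite A] (H : Subgroup A) (h3 : H.index = 3)
    (hn : ¬ H.Normal) : H.normalCore.index = 6 := by
  have hd : H.normalCore.index ∣ 6 := by
    rw [Subgroup.normalCore_eq_ker, Subgroup.index_ker]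
    have h1 := Subgroup.card_subgroup_dvd_card (MulAction.toPermHom A (A ⧸ H)).range
    have h2 : Nat.card (Equiv.Perm (A ⧸ H)) = 6 := by
      rw [Nat.card_perm]
      show (H.index).factorial = 6
      rw [h3]
      rfl
    rwa [h2] at h1
  have hd3 : 3 ∣ H.normalCore.index := by
    rw [← h3]
    exact Subgroup.index_dvd_of_le (Subgroup.normalCore_le H)
  have hle : H.normalCore.index ≤ 6 := Nat.le_of_dvd (by norm_num) hd
  have hcases : H.normalCore.index = 3 ∨ H.normalCore.index = 6 := by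
    generalize H.normalCore.index = n at *
    interval_cases n <;> omega
  rcases hcases with h | h
  · exfalso
    apply hn
    have h1 := Subgroup.relIndex_mul_index (Subgroup.normalCore_le H)
    rw [h, h3] at h1
    have h2 : H.normalCore.relIndex H = 1 := by omega
    have h4 : H ≤ H.normalCore := Subgroup.relIndex_eq_one.mp h2
    have : H = H.normalCore := le_antisymm h4 (Subgroup.normalCore_le H)
    rw [this]
    infer_instance
  · exact h

variable {M T K K' : Subgroup G} {S : Sylow 2 G}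

/-! ### The subgroup `Z₀ ∩ C(K)` -/

/-- `Z₀ ∩ C(K)`. -/
def Zc (T K : Subgroup G) : Subgroup G :=
  omegaCenterOf (thompsonSubgroupOf 2 T) ⊓ Subgroup.centralizer (K : Set G)

theorem mem_Zc {c : G} : c ∈ Zc T K ↔ c ∈ omegaCenterOf (thompsonSubgroupOf 2 T) ∧ ∀ k ∈ K, k * c = c * k := by
  rw [Zc, Subgroup.mem_inf, Subgroup.mem_centralizer_iff]
  exact Iff.rfl

theorem Z0_sq {x : G} (hx : x ∈ omegaCenterOf (thompsonSubgroupOf 2 T)) : x * x = 1 := by
  rw [← pow_two]
  exact (mem_omegaCenterOf_iff.mp hx).2.2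

theorem Z0_comm {x y : G} (hx : x ∈ omegaCenterOf (thompsonSubgroupOf 2 T))
    (hy : y ∈ omegaCenterOf (thompsonSubgroupOf 2 T)) : x * y = y * x :=
  (mem_omegaCenterOf_iff.mp hy).2.1 x (mem_omegaCenterOf_iff.mp hx).1

theorem Z0_comm_J {x y : G} (hx : x ∈ thompsonSubgroupOf 2 T)
    (hy : y ∈ omegaCenterOf (thompsonSubgroupOf 2 T)) : x * y = y * x :=
  (mem_omegaCenterOf_iff.mp hy).2.1 x hx

theorem Z0_le_T : omegaCenterOf (thompsonSubgroupOf 2 T) ≤ T := fun _ hx =>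
  thompsonSubgroupOf_le_self T (mem_omegaCenterOf_iff.mp hx).1

theorem Z0_isP (hT : IsPGroup 2 T) : IsPGroup 2 (omegaCenterOf (thompsonSubgroupOf 2 T)) :=
  hT.to_le Z0_le_T

/-- Conjugation of `Z₀` by normalizers of `J`. -/
theorem conj_Z0 {g x : G} (hg : g ∈ Subgroup.normalizer (thompsonSubgroupOf 2 T : Set G))
    (hx : x ∈ omegaCenterOf (thompsonSubgroupOf 2 T)) :
    g * x * g⁻¹ ∈ omegaCenterOf (thompsonSubgroupOf 2 T) :=
  conj_mem_omegaCenterOf hg hx

/-- The splitting of `Z₀`. -/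
theorem exists_w (hT : IsPGroup 2 T) (hK : IsJComponent T K) :
    ∃ w ∈ omegaCenterOf (thompsonSubgroupOf 2 T), w ∈ wOf K ∧ w ≠ 1 ∧ w ∉ Zc T K ∧
      ∀ x ∈ omegaCenterOf (thompsonSubgroupOf 2 T), x ∈ Zc T K ∨ x * w ∈ Zc T K := by
  classical
  have hcard := card_omegaCenter_inf_w hT hK
  obtain ⟨⟨w, hw⟩, hw1, huniq⟩ := (Nat.card_eq_two_iff' (1 : ↥(omegaCenterOf (thompsonSubgroupOf 2 T) ⊓ wOf K))).mp hcard
  have hw1' : w ≠ 1 := fun e => hw1 (Subtype.ext e)
  obtain ⟨hwZ, hwW⟩ := Subgroup.mem_inf.mp hw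
  have huniq' : ∀ e ∈ omegaCenterOf (thompsonSubgroupOf 2 T) ⊓ wOf K, e = 1 ∨ e = w := by
    intro e he
    by_cases he1 : e = 1
    · exact Or.inl he1
    · right
      have := huniq ⟨e, he⟩ (fun e' => he1 (congrArg Subtype.val e'))
      exact congrArg Subtype.val this
  refine ⟨w, hwZ, hwW, hw1', ?_, ?_⟩
  · intro hc
    obtain ⟨x, hxK, -, hxY⟩ := exists_odd hK
    refine hw1' (fpf hK hxK hxY hwW ?_)
    rw [(mem_Zc.mp hc).2 x hxK]
    group
  · intro x hx
    have hsplit := omegaCenter_split hT hK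
    rw [← hsplit] at hx
    obtain ⟨c, hc, e, he, rfl⟩ := exists_mul_of_mem_sup (fun j hj k hk => by
      obtain ⟨hk1, hk2⟩ := Subgroup.mem_inf.mp hk
      obtain ⟨hj1, hj2⟩ := Subgroup.mem_inf.mp hj
      rw [Z0_comm hj1 hk1]
      simpa using hk) hx
    obtain ⟨hc1, hc2, hc3⟩ := Subgroup.mem_inf.mp hc |>.imp_right Subgroup.mem_inf.mp
    have hcZc : c ∈ Zc T K := by
      refine mem_Zc.mpr ⟨hc1, fun k hk => ?_⟩
      exact Subgroup.mem_centralizer_iff.mp hc3 k (Or.inl hk)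
    rcases huniq' e he with rfl | rfl
    · left
      simpa using hcZc
    · right
      rw [mul_assoc, Z0_sq hwZ, mul_one]
      exact hcZc

/-- `Z₀ ∩ C(K)` has index two in `Z₀`. -/
theorem relIndex_Zc (hT : IsPGroup 2 T) (hK : IsJComponent T K) :
    (Zc T K).relIndex (omegaCenterOf (thompsonSubgroupOf 2 T)) = 2 := by
  obtain ⟨w, hwZ, -, -, hwn, hall⟩ := exists_w hT hK
  rw [Subgroup.relIndex, Subgroup.index_eq_two_iff]
  refine ⟨⟨w, hwZ⟩, ?_⟩
  rintro ⟨x, hx⟩
  simp only [Subgroup.mem_subgroupOf, Subgroup.coe_mul]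
  rcases hall x hx with h | h
  · refine Or.inr ⟨h, fun h2 => hwn ?_⟩
    have := mul_mem (inv_mem h) h2
    simpa using this
  · refine Or.inl ⟨h, fun h2 => hwn ?_⟩
    have := mul_mem (inv_mem h2) h
    simpa using this

/-- If `Z₀` has order 4, `Z₀ ∩ C(K) ≠ 1`. -/
theorem exists_a (hT : IsPGroup 2 T) (hK : IsJComponent T K)
    (h4 : Nat.card (omegaCenterOf (thompsonSubgroupOf 2 T)) = 4) : ∃ a ∈ Zc T K, a ≠ 1 := by
  obtain ⟨w, hwZ, -, -, hwn, hall⟩ := exists_w hT hK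
  obtain ⟨p, hp, hp1, hpw⟩ := exists_third h4 w
  rcases hall p hp with h | h
  · exact ⟨p, h, hp1⟩
  · refine ⟨_, h, fun e => hpw ?_⟩
    have : p = w⁻¹ := eq_inv_of_mul_eq_one_left e
    rw [this, inv_eq_of_mul_eq_one_left (Z0_sq hwZ)]

/-! ### Pairs -/

/-- Two components with different maximal 2-local overgroups. -/
structure Pair (M T K K' : Subgroup G) (S : Sylow 2 G) : Prop where
  h : Setup M T S
  hTS : T ≤ S
  hK : K ∈ jComponentsOutside M T
  hK' : K' ∈ jComponentsOutside M T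
  hne : ¬ K' ≤ lZero M T K

theorem out_of_mem (hK : K ∈ jComponentsOutside M T) : K ∈ outside M T := ⟨hK.1.1, hK.2.1⟩

namespace Pair

variable (p : Pair M T K K' S)
include p

theorem outK : K ∈ outside M T := out_of_mem p.hK

theorem outK' : K' ∈ outside M T := out_of_mem p.hK'

theorem symm : Pair M T K' K S := by
  refine ⟨p.h, p.hTS, p.hK', p.hK, fun hle => p.hne ?_⟩
  rw [lZero_eq_of_le p.h p.outK' p.outK hle]
  exact K_le_lZero p.h p.outK'

theorem no_common {H : Subgroup G} (hH : IsTwoLocal H) (h1 : K ≤ H) (h2 : K' ≤ H)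
    (h3 : thompsonSubgroupOf 2 T ≤ H) : False :=
  p.hne (h2.trans (le_lZero p.h p.outK hH h1 h3))

theorem T_le : T ≤ lZero M T K := (lZero_mem p.h p.hK).1.1

theorem isP : IsPGroup 2 T := T_isP p.h.hT

theorem Zc_inf : Zc T K ⊓ Zc T K' = ⊥ := by
  rw [eq_bot_iff]
  intro c hc
  obtain ⟨h1, h2⟩ := Subgroup.mem_inf.mp hc
  by_contra hc1
  obtain ⟨h3, h4⟩ := mem_Zc.mp h1
  obtain ⟨h5, h6⟩ := mem_Zc.mp h2
  refine p.hne fun k hk => ?_
  exact mem_lZero_of_comm p.h p.outK hc1 (Z0_sq h3) h4 (fun j hj => Z0_comm_J hj h3) (h6 k hk)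

theorem card_Z0 : Nat.card (omegaCenterOf (thompsonSubgroupOf 2 T)) = 2 ∨
    Nat.card (omegaCenterOf (thompsonSubgroupOf 2 T)) = 4 := by
  have h1 := Subgroup.relIndex_inf_le (H := Zc T K) (K := Zc T K') (L := omegaCenterOf (thompsonSubgroupOf 2 T))
  rw [Zc_inf p, Subgroup.relIndex_bot_left, relIndex_Zc p.isP p.hK.1.1, relIndex_Zc p.isP p.hK'.1.1] at h1
  obtain ⟨n, hn⟩ := IsPGroup.iff_card.mp (Z0_isP p.isP (T := T))
  obtain ⟨w, hwZ, -, hw1, -, -⟩ := exists_w p.isP p.hK.1.1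
  have hn0 : n ≠ 0 := by
    rintro rfl
    rw [pow_zero] at hn
    have := Subgroup.eq_bot_of_card_eq _ hn
    rw [this, Subgroup.mem_bot] at hwZ
    exact hw1 hwZ
  have hn2 : n ≤ 2 := by
    by_contra hlt
    have h3 : 2 ^ 3 ≤ 2 ^ n := Nat.pow_le_pow_right (by norm_num) (by omega)
    omega
  have : n = 1 ∨ n = 2 := by omega
  rcases this with rfl | rfl
  · left; simpa using hn
  · right; simpa using hn

theorem conj_T_Z0 {x y : G} (hx : x ∈ T) (hy : y ∈ omegaCenterOf (thompsonSubgroupOf 2 T)) :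
    x * y * x⁻¹ ∈ omegaCenterOf (thompsonSubgroupOf 2 T) :=
  conj_Z0 (normalizer_le_normalizer_thompson T (Subgroup.le_normalizer hx)) hy

/-- In the order-4 case elements of `Z₀ ∩ C(K)` are central. -/
theorem central_of_Zc (h4 : Nat.card (omegaCenterOf (thompsonSubgroupOf 2 T)) = 4) {a : G} (ha : a ∈ Zc T K)
    (ha1 : a ≠ 1) : a ∈ omegaCenterOf T := by
  obtain ⟨b, hb, hb1⟩ := exists_a p.isP p.hK'.1.1 h4
  obtain ⟨haZ, haK⟩ := mem_Zc.mp ha
  obtain ⟨hbZ, hbK⟩ := mem_Zc.mp hb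
  have hab : a ≠ b := by
    intro e
    have : a ∈ Zc T K ⊓ Zc T K' := ⟨ha, e ▸ hb⟩
    rw [Zc_inf p, Subgroup.mem_bot] at this
    exact ha1 this
  have hcases := four_cases h4 (fun w hw => Z0_sq hw) haZ hbZ ha1 hb1 hab
  -- the central element outside `Zc K'`
  have hz : ∃ z ∈ omegaCenterOf T, z ∉ Zc T K' := by
    by_contra hcon
    push Not at hcon
    exact not_cen p.h p.hTS p.outK' fun k hk z hz => (mem_Zc.mp (hcon z hz)).2 k hk
  obtain ⟨z, hzF, hzn⟩ := hz
  have hzZ : z ∈ omegaCenterOf (thompsonSubgroupOf 2 T) := omega_le_omega_J hzF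
  have hfix : ∀ x ∈ T, x * a * x⁻¹ = a := by
    intro x hx
    have hxz : x * z * x⁻¹ = z := by
      rw [(mem_omegaCenterOf_iff.mp hzF).2.1 x hx]
      group
    rcases hcases _ (conj_T_Z0 p hx haZ) with h | h | h | h
    · exfalso
      apply ha1
      rw [mul_inv_eq_one] at h
      simpa using h
    · exact h
    · -- `a` is moved to `b`
      exfalso
      refine p.hne fun k hk => ?_
      have hxL := T_le p hx
      have h1 : x⁻¹ * k * x ∈ lZero M T K := by
        refine mem_lZero_of_comm p.h p.outK ha1 (Z0_sq haZ) haK (fun j hj => Z0_comm_J hj haZ) ?_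
        have h2 := hbK k hk
        rw [← h] at h2
        calc x⁻¹ * k * x * a = x⁻¹ * (k * (x * a * x⁻¹)) * x := by group
          _ = x⁻¹ * ((x * a * x⁻¹) * k) * x := by rw [h2]
          _ = a * (x⁻¹ * k * x) := by group
      have h2 := mul_mem (mul_mem hxL h1) (inv_mem hxL)
      have e : x * (x⁻¹ * k * x) * x⁻¹ = k := by group
      rwa [e] at h2
    · -- `a` is moved to `ab`
      exfalso
      rcases hcases z hzZ with rfl | rfl | rfl | rfl
      · exact hzn (one_mem _)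
      · rw [hxz] at h
        apply hb1
        simpa using h
      · exact hzn hb
      · have e : x * a * x⁻¹ = x * (a * b) * x⁻¹ := by rw [hxz, h]
        have e2 : a = a * b := by simpa using e
        apply hb1
        simpa using e2
  refine mem_omegaCenterOf_iff.mpr ⟨Z0_le_T haZ, fun u hu => ?_, (mem_omegaCenterOf_iff.mp haZ).2.2⟩
  have := hfix u hu
  rwa [mul_inv_eq_iff_eq_mul] at this

/-- `Ω₁(Z(T)) = Z₀`. -/
theorem F_eq : omegaCenterOf T = omegaCenterOf (thompsonSubgroupOf 2 T) := by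
  apply le_antisymm omega_le_omega_J
  rcases card_Z0 p with h2 | h4
  · have hF1 := omega_ne_bot p.isP (T_ne_bot p.h.hT)
    have hle : omegaCenterOf T ≤ omegaCenterOf (thompsonSubgroupOf 2 T) := omega_le_omega_J
    have : omegaCenterOf T = omegaCenterOf (thompsonSubgroupOf 2 T) := by
      refine Subgroup.eq_of_le_of_card_ge hle ?_
      rw [h2]
      have := (Subgroup.one_lt_card_iff_ne_bot _).mpr hF1
      omega
    exact this.ge
  · obtain ⟨a, ha, ha1⟩ := exists_a p.isP p.hK.1.1 h4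
    obtain ⟨b, hb, hb1⟩ := exists_a p.isP p.hK'.1.1 h4
    have hab : a ≠ b := by
      intro e
      have : a ∈ Zc T K ⊓ Zc T K' := ⟨ha, e ▸ hb⟩
      rw [Zc_inf p, Subgroup.mem_bot] at this
      exact ha1 this
    have haF := central_of_Zc p h4 ha ha1
    have hbF := central_of_Zc p.symm h4 hb hb1
    intro x hx
    rcases four_cases h4 (fun w hw => Z0_sq hw) (mem_Zc.mp ha).1 (mem_Zc.mp hb).1 ha1 hb1 hab x hx with
      rfl | rfl | rfl | rfl
    · exact one_mem _
    · exact haF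
    · exact hbF
    · exact mul_mem haF hbF

/-- `T` normalizes `K`. -/
theorem T_norm : T ≤ Subgroup.normalizer (K : Set G) := by
  obtain ⟨w, hwZ, hwW, hw1, -, -⟩ := exists_w p.isP p.hK.1.1
  rw [← F_eq p] at hwZ
  intro t ht
  refine JMain.normalizer_of_meet p.h.hG p.h.hN p.h.hZ p.isP (T_ne_bot p.h.hT) (lZero_mem p.h p.hK)
    p.hK.1.1 (K_le_lZero p.h p.outK) (T_le p ht) hwW hw1 ?_
  rw [(mem_omegaCenterOf_iff.mp hwZ).2.1 t ht]
  simpa using hwW

end Pair

/-! ### The group `P = ⟨K, T⟩` -/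

section Vtx

variable (h : Setup M T S) (hTS : T ≤ S) (hK : K ∈ jComponentsOutside M T)
  (hTK : T ≤ Subgroup.normalizer (K : Set G))
include h hTS hK hTK

theorem P_le_NK : K ⊔ T ≤ Subgroup.normalizer (K : Set G) := sup_le Subgroup.le_normalizer hTK

theorem sylow_P : IsSylowTwoIn T (K ⊔ T) :=
  isSylow_of_between (lZero_mem h hK).1 le_sup_right
    (sup_le (K_le_lZero h (out_of_mem hK)) (lZero_mem h hK).1.1)

theorem Y_le_Q : pCoreOf 2 K ≤ pCoreOf 2 (K ⊔ T) :=
  le_pCoreOf (core_le.trans le_sup_left) core_isP fun _ hl _ hq =>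
    conj_mem_pCoreOf_of_normalizer (P_le_NK h hTS hK hTK hl) hq

theorem Q_le_T : pCoreOf 2 (K ⊔ T) ≤ T := pCoreOf_le_of_sylow (sylow_P h hTS hK hTK)

theorem K_inf_T : K ⊓ T = pCoreOf 2 K := by
  apply le_antisymm
  · intro k hk
    obtain ⟨h1, h2⟩ := Subgroup.mem_inf.mp hk
    exact mem_core_of_two_element hK.1.1 h1 (two_element_of_mem (T_isP h.hT) h2)
  · exact le_inf core_le ((Y_le_Q h hTS hK hTK).trans (Q_le_T h hTS hK hTK))

theorem idx_T : T.relIndex (K ⊔ T) = 3 := by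
  rw [relIndex_sup_of_le_normalizer hTK, ← Subgroup.inf_relIndex_right, inf_comm, K_inf_T h hTS hK hTK]
  exact index3 hK.1.1

theorem not_normal_T : ¬ (T.subgroupOf (K ⊔ T)).Normal := by
  intro hn
  have hle : ⁅K, thompsonSubgroupOf 2 T⁆ ≤ pCoreOf 2 K := by
    rw [Subgroup.commutator_le]
    intro k hk j hj
    rw [← K_inf_T h hTS hK hTK]
    have hjT := thompsonSubgroupOf_le_self T hj
    refine Subgroup.mem_inf.mpr ⟨?_, ?_⟩
    · rw [commutatorElement_def]
      have := (Subgroup.mem_normalizer_iff.mp (hTK hjT) k⁻¹).mp (inv_mem hk)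
      have e : k * j * k⁻¹ * j⁻¹ = k * (j * k⁻¹ * j⁻¹) := by group
      rw [e]
      exact mul_mem hk this
    · rw [commutatorElement_def]
      have h1 := hn.conj_mem ⟨j, Subgroup.mem_sup_right hjT⟩
        (Subgroup.mem_subgroupOf.mpr hjT) ⟨k, Subgroup.mem_sup_left hk⟩
      have h2 : k * j * k⁻¹ ∈ T := Subgroup.mem_subgroupOf.mp h1
      exact mul_mem h2 (inv_mem hjT)
  rw [J_comm hK.1.1] at hle
  have h3 := index3 hK.1.1
  rw [Subgroup.relIndex_eq_one.mpr hle] at h3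
  omega

theorem core_idx : (pCoreOf 2 (K ⊔ T)).relIndex (K ⊔ T) = 6 := by
  set P := K ⊔ T with hP
  have hT3 : (T.subgroupOf P).index = 3 := idx_T h hTS hK hTK
  have h6 := normalCore_index_six (T.subgroupOf P) hT3 (not_normal_T h hTS hK hTK)
  have heq : Cfsg.pCore 2 P = (T.subgroupOf P).normalCore := by
    apply le_antisymm
    · refine Subgroup.normal_le_normalCore.mpr ?_
      intro x hx
      exact Subgroup.mem_subgroupOf.mpr (Q_le_T h hTS hK hTK ⟨x, hx, rfl⟩)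
    · refine Cfsg.Agent.Lib.Basic.PCore.le_pCore (Subgroup.normalCore_normal _) ?_
      have h2 : IsPGroup 2 (T.subgroupOf P) :=
        (T_isP h.hT).of_equiv (Subgroup.subgroupOfEquivOfLe le_sup_right).symm
      exact h2.to_le (Subgroup.normalCore_le _)
  have hidx : (pCoreOf 2 P).relIndex P = (Cfsg.pCore 2 P).index := by
    show ((pCoreOf 2 P).subgroupOf P).index = _
    congr 1
    ext x
    simp only [Subgroup.mem_subgroupOf, pCoreOf, Subgroup.mem_map, Subgroup.coe_subtype]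
    constructor
    · rintro ⟨y, hy, e⟩
      rwa [← Subtype.ext e]
    · intro hx
      exact ⟨x, hx, rfl⟩
  rw [hidx, heq, h6]

theorem coreL_le_Q : pCoreOf 2 (lZero M T K) ≤ pCoreOf 2 (K ⊔ T) := by
  have hL := lZero_mem h hK
  have hC := pCoreOf_le_of_sylow hL.1
  refine le_pCoreOf (hC.trans le_sup_right) (IsPGroup.to_le (T_isP h.hT) hC) fun l hl q hq => ?_
  exact conj_mem_pCoreOf ((sup_le (K_le_lZero h (out_of_mem hK)) hL.1.1) hl) hq

theorem cen_Q : Subgroup.centralizer (pCoreOf 2 (K ⊔ T) : Set G) ≤ pCoreOf 2 (K ⊔ T) := by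
  intro g hg
  apply coreL_le_Q h hTS hK hTK
  apply (lZero_mem h hK).2.2
  rw [Subgroup.mem_centralizer_iff] at hg ⊢
  exact fun q hq => hg q (coreL_le_Q h hTS hK hTK hq)

theorem hypP : HypP T (K ⊔ T) where
  le := le_sup_right
  odd := (sylow_P h hTS hK hTK).2.2
  idx := core_idx h hTS hK hTK
  cen := fun g _ hc => cen_Q h hTS hK hTK (Subgroup.mem_centralizer_iff.mpr fun q hq => (hc q hq).symm)
  nc := by
    have := not_cen h hTS (out_of_mem hK)
    push Not at this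
    obtain ⟨k, hk, z, hz, hn⟩ := this
    obtain ⟨h1, h2, h3⟩ := mem_omegaCenterOf_iff.mp hz
    exact ⟨k, Subgroup.mem_sup_left hk, z, h1, h2, by rw [← pow_two]; exact h3, hn⟩

end Vtx

namespace Pair

variable (p : Pair M T K K' S)
include p

theorem hypP₁ : HypP T (K ⊔ T) := hypP p.h p.hTS p.hK (T_norm p)

theorem hypP₂ : HypP T (K' ⊔ T) := hypP p.h p.hTS p.hK' (T_norm p.symm)

theorem inf_eq : (K ⊔ T) ⊓ (K' ⊔ T) = T := by
  have hle : T ≤ (K ⊔ T) ⊓ (K' ⊔ T) := le_inf le_sup_right le_sup_right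
  have hmul := Subgroup.relIndex_mul_relIndex T _ (K ⊔ T) hle inf_le_left
  rw [idx_T p.h p.hTS p.hK (T_norm p)] at hmul
  have h3 : Nat.Prime 3 := by norm_num
  rcases Nat.prime_mul_iff.mp (hmul ▸ h3) with ⟨_, h⟩ | ⟨_, h⟩
  · rw [Subgroup.relIndex_eq_one] at h
    exfalso
    have h1 : K ≤ K' ⊔ T := (le_sup_left.trans h).trans inf_le_right
    have h2 : K' ⊔ T ≤ lZero M T K' := sup_le (K_le_lZero p.h p.outK') (lZero_mem p.h p.hK').1.1
    exact p.symm.hne (h1.trans h2)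
  · rw [Subgroup.relIndex_eq_one] at h
    exact le_antisymm h hle

theorem core_free (N : Subgroup G) (hN : N ≤ T) (h1 : K ⊔ T ≤ Subgroup.normalizer (N : Set G))
    (h2 : K' ⊔ T ≤ Subgroup.normalizer (N : Set G)) : N = ⊥ := by
  by_contra hne
  have hP : IsPGroup 2 N := (T_isP p.h.hT).to_le hN
  exact no_common p (twoLocal_of hP hne) (le_sup_left.trans h1) (le_sup_left.trans h2)
    ((thompsonSubgroupOf_le_self T).trans (le_sup_right.trans h1))

/-- The amalgam theorem applies. -/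
theorem facts : (∀ e ∈ pCoreOf 2 (K ⊔ T), e * e = 1) ∧ (∀ e ∈ pCoreOf 2 (K' ⊔ T), e * e = 1) ∧
    ((Nat.card (pCoreOf 2 (K ⊔ T)) = 4 ∧ Nat.card (pCoreOf 2 (K' ⊔ T)) = 4 ∧
        Nonempty ((K ⊔ T : Subgroup G) ≃* Equiv.Perm (Fin 4)) ∧
        Nonempty ((K' ⊔ T : Subgroup G) ≃* Equiv.Perm (Fin 4))) ∨
      (Nat.card (pCoreOf 2 (K ⊔ T)) = 8 ∧ Nat.card (pCoreOf 2 (K' ⊔ T)) = 8 ∧
        Nonempty ((K ⊔ T : Subgroup G) ≃* Multiplicative (ZMod 2) × Equiv.Perm (Fin 4)) ∧
        Nonempty ((K' ⊔ T : Subgroup G) ≃* Multiplicative (ZMod 2) × Equiv.Perm (Fin 4)))) :=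
  amalgam_facts (inf_eq p).symm (T_isP p.h.hT) ((hypP₁ p).toQ (T_isP p.h.hT)) ((hypP₂ p).toQ (T_isP p.h.hT))
    (core_free p)

end Pair

end Cfsg.Agent.Lib.Amalgam.Strad
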