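import Mathlib
import Cfsg.Agent.Lib.Amalgam.StradAm
import Cfsg.Agent.Lib.Amalgam.StradPair
import Cfsg.Agent.Lib.PGroup.CyclicMax
import Cfsg.Agent.Lib.Amalgam.JLocal

/-!
# Sims' theorem on suborbits of length three: the group theory
-/

set_option autoImplicit false
set_option linter.unusedSectionVars false
set_option linter.style.haveILetI false

namespace Cfsg.Agent.Lib.Amalgam.Sims3

open Cfsg Cfsg.Agent.Lib.Amalgam.Gold Cfsg.Agent.Lib.Amalgam.Strad

variable {G : Type*} [Group G]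

/-- The core of `T` in `A`, as a subgroup of the ambient group. -/
def Kc (T A : Subgroup G) : Subgroup G where
  carrier := {x | x ∈ A ∧ ∀ v ∈ A, v⁻¹ * x * v ∈ T}
  mul_mem' := by
    rintro a b ⟨ha, ha'⟩ ⟨hb, hb'⟩
    refine ⟨A.mul_mem ha hb, fun v hv => ?_⟩
    have := T.mul_mem (ha' v hv) (hb' v hv)
    simpa [mul_assoc] using this
  one_mem' := ⟨A.one_mem, fun v _ => by simp [T.one_mem]⟩
  inv_mem' := by
    rintro a ⟨ha, ha'⟩
    refine ⟨A.inv_mem ha, fun v hv => ?_⟩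
    have := T.inv_mem (ha' v hv)
    simpa [mul_assoc] using this

theorem mem_Kc {T A : Subgroup G} {x : G} : x ∈ Kc T A ↔ x ∈ A ∧ ∀ v ∈ A, v⁻¹ * x * v ∈ T := Iff.rfl

theorem Kc_le {T A : Subgroup G} : Kc T A ≤ T := fun x hx => by
  have := hx.2 1 A.one_mem
  simpa using this

theorem Kc_le_A {T A : Subgroup G} : Kc T A ≤ A := fun _ hx => hx.1

theorem Kc_conj {T A : Subgroup G} {x u : G} (hx : x ∈ Kc T A) (hu : u ∈ A) : u⁻¹ * x * u ∈ Kc T A := by
  refine ⟨A.mul_mem (A.mul_mem (A.inv_mem hu) hx.1) hu, fun v hv => ?_⟩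
  have := hx.2 (u * v) (A.mul_mem hu hv)
  simpa [mul_assoc] using this

theorem Kc_conj' {T A : Subgroup G} {x u : G} (hx : x ∈ Kc T A) (hu : u ∈ A) : u * x * u⁻¹ ∈ Kc T A := by
  have := Kc_conj hx (A.inv_mem hu)
  simpa using this

theorem le_normalizer_Kc {T A : Subgroup G} : A ≤ Subgroup.normalizer (Kc T A : Set G) := by
  intro u hu
  rw [Subgroup.mem_normalizer_iff]
  intro x
  constructor
  · exact fun hx => Kc_conj' hx hu
  · intro hx
    have := Kc_conj hx hu
    simpa [mul_assoc] using this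

theorem mem_normalizer_of_conj {N : Subgroup G} {u : G} (h1 : ∀ x ∈ N, u * x * u⁻¹ ∈ N)
    (h2 : ∀ x ∈ N, u⁻¹ * x * u ∈ N) : u ∈ Subgroup.normalizer (N : Set G) := by
  rw [Subgroup.mem_normalizer_iff]
  intro x
  constructor
  · exact fun hx => h1 x hx
  · intro hx
    have := h2 _ hx
    simpa [mul_assoc] using this

variable [Finite G]

/-- A generic fact on permutations of three points. -/
theorem perm3_sq : ∀ (σ : Equiv.Perm (Fin 3)) (p : Fin 3), σ p = p → σ * σ = 1 := by decide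

theorem perm3_inv : ∀ (σ τ : Equiv.Perm (Fin 3)) (p : Fin 3), σ ^ 3 = 1 → σ ≠ 1 → τ p = p → τ ≠ 1 →
    τ * σ * τ⁻¹ * σ = 1 := by decide

/-- The action on the three cosets. -/
theorem exists_psi {T A : Subgroup G} (h3 : T.relIndex A = 3) :
    ∃ (ψ : A →* Equiv.Perm (Fin 3)) (p : Fin 3), (∀ u : A, ψ u p = p ↔ (u : G) ∈ T) ∧
      (∀ u : A, ψ u = 1 ↔ (u : G) ∈ Kc T A) := by
  classical
  set H := T.subgroupOf A with hH
  have hc : Nat.card (A ⧸ H) = 3 := h3
  have e : (A ⧸ H) ≃ Fin 3 := Finite.equivFinOfCardEq hc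
  let φ : A →* Equiv.Perm (A ⧸ H) := MulAction.toPermHom A (A ⧸ H)
  have hφ : ∀ (u v : A), φ u (QuotientGroup.mk v) = QuotientGroup.mk (u * v) := fun _ _ => rfl
  refine ⟨(e.permCongrHom).toMonoidHom.comp φ, e (QuotientGroup.mk 1), ?_, ?_⟩
  · intro u
    have h1 : ((e.permCongrHom).toMonoidHom.comp φ) u (e (QuotientGroup.mk 1)) =
        e (φ u (QuotientGroup.mk 1)) := by
      simp [Equiv.permCongrHom, Equiv.permCongr_apply]
    rw [h1, e.apply_eq_iff_eq, hφ, mul_one, QuotientGroup.eq]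
    simp [H, Subgroup.mem_subgroupOf]
  · intro u
    have h0 : ((e.permCongrHom).toMonoidHom.comp φ) u = 1 ↔ φ u = 1 := by
      show e.permCongrHom (φ u) = 1 ↔ φ u = 1
      exact map_eq_one_iff _ (MulEquiv.injective _)
    rw [h0]
    constructor
    · intro h1
      refine ⟨u.2, fun v hv => ?_⟩
      have h2 := congrArg (fun σ : Equiv.Perm (A ⧸ H) => σ (QuotientGroup.mk (⟨v, hv⟩ : A))) h1
      simp only [hφ, Equiv.Perm.one_apply] at h2
      rw [eq_comm, QuotientGroup.eq] at h2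
      have := Subgroup.mem_subgroupOf.mp h2
      simpa [mul_assoc] using this
    · intro h
      ext c
      induction c using QuotientGroup.induction_on with
      | H v =>
        simp only [hφ, Equiv.Perm.one_apply]
        rw [eq_comm, QuotientGroup.eq]
        refine Subgroup.mem_subgroupOf.mpr ?_
        have := h.2 v v.2
        simpa [mul_assoc] using this

theorem odd_mem_Kc {T A : Subgroup G} (hTA : T ≤ A) (h3 : T.relIndex A = 3) {x : G} (hx : x ∈ T)
    (hodd : Odd (orderOf x)) : x ∈ Kc T A := by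
  obtain ⟨ψ, p, hp, hk⟩ := exists_psi h3
  have h1 := (hk ⟨x, hTA hx⟩).mp
  apply h1
  have h2 : ψ ⟨x, hTA hx⟩ p = p := (hp ⟨x, hTA hx⟩).mpr hx
  have h3 := perm3_sq _ _ h2
  obtain ⟨k, hk'⟩ := hodd
  have h4 : (⟨x, hTA hx⟩ : A) ^ (orderOf x) = 1 := by
    ext
    simp [pow_orderOf_eq_one]
  have h5 := congrArg ψ h4
  rw [map_pow, map_one, hk', pow_succ, pow_mul, pow_two, h3, one_pow, one_mul] at h5
  exact h5

/-- The setting of the Sims amalgam. -/
structure Setup (T A B : Subgroup G) : Prop where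
  hT : T = A ⊓ B
  idxA : T.relIndex A = 3
  idxB : T.relIndex B = 3
  core : ∀ N : Subgroup G, N ≤ T → A ≤ Subgroup.normalizer (N : Set G) →
    B ≤ Subgroup.normalizer (N : Set G) → N = ⊥

namespace Setup

variable {T A B : Subgroup G} (h : Setup T A B)
include h

theorem leA : T ≤ A := by rw [h.hT]; exact inf_le_left
theorem leB : T ≤ B := by rw [h.hT]; exact inf_le_right

theorem conj_odd_mem {X : Subgroup G} (hTX : T ≤ X) (h3 : T.relIndex X = 3) {x u : G} (hx : x ∈ T)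
    (hodd : Odd (orderOf x)) (hu : u ∈ X) : u * x * u⁻¹ ∈ {x | x ∈ T ∧ Odd (orderOf x)} := by
  have h1 := odd_mem_Kc hTX h3 hx hodd
  refine ⟨Kc_le (Kc_conj' h1 hu), ?_⟩
  have : orderOf (u * x * u⁻¹) = orderOf x := by
    have := orderOf_injective (MulAut.conj u : G ≃* G).toMonoidHom (MulEquiv.injective _) x
    simpa [MulAut.conj_apply] using this
  rw [this]
  exact hodd

/-- `T` is a 2-group. -/
theorem two : IsPGroup 2 T := by
  set S : Set G := {x | x ∈ T ∧ Odd (orderOf x)} with hS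
  have hcl : Subgroup.closure S ≤ T := (Subgroup.closure_le _).mpr (fun x hx => hx.1)
  have hnorm : ∀ (X : Subgroup G), T ≤ X → T.relIndex X = 3 →
      X ≤ Subgroup.normalizer (Subgroup.closure S : Set G) := by
    intro X hTX h3 u hu
    apply mem_normalizer_of_conj
    · intro x hx
      induction hx using Subgroup.closure_induction with
      | mem x hx => exact Subgroup.subset_closure (h.conj_odd_mem hTX h3 hx.1 hx.2 hu)
      | one => simp
      | mul a b _ _ ha hb =>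
        have := Subgroup.mul_mem _ ha hb
        simpa [mul_assoc] using this
      | inv a _ ha =>
        have := Subgroup.inv_mem _ ha
        simpa [mul_assoc] using this
    · intro x hx
      induction hx using Subgroup.closure_induction with
      | mem x hx =>
        have := h.conj_odd_mem hTX h3 hx.1 hx.2 (X.inv_mem hu)
        rw [inv_inv] at this
        exact Subgroup.subset_closure this
      | one => simp
      | mul a b _ _ ha hb =>
        have := Subgroup.mul_mem _ ha hb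
        simpa [mul_assoc] using this
      | inv a _ ha =>
        have := Subgroup.inv_mem _ ha
        simpa [mul_assoc] using this
  have hbot := h.core _ hcl (hnorm A h.leA h.idxA) (hnorm B h.leB h.idxB)
  have hodd1 : ∀ x ∈ T, Odd (orderOf x) → x = 1 := by
    intro x hx hodd
    have : x ∈ Subgroup.closure S := Subgroup.subset_closure ⟨hx, hodd⟩
    rw [hbot] at this
    simpa using this
  intro x
  have hpos : orderOf (x : G) ≠ 0 := (orderOf_pos (x : G)).ne'
  obtain ⟨k, m, hm, hk⟩ := Nat.exists_eq_two_pow_mul_odd hpos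
  refine ⟨k, ?_⟩
  ext
  have hxk : (x : G) ^ 2 ^ k ∈ T := T.pow_mem x.2 _
  have hord : orderOf ((x : G) ^ 2 ^ k) = m := by
    have h1 : m ∣ orderOf (x : G) := ⟨2 ^ k, by rw [hk]; ring⟩
    have h2 := orderOf_pow_orderOf_div hpos h1
    have h3 : orderOf (x : G) / m = 2 ^ k := by
      rw [hk]
      exact Nat.mul_div_cancel _ hm.pos
    rwa [h3] at h2
  have := hodd1 _ hxk (by rw [hord]; exact hm)
  simpa using this

end Setup

/-- A conjugating element normalizing `T`. -/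
theorem exists_g {T A B : Subgroup G} (h : Setup T A B) {n : G} (hn : ∀ u, n * u * n⁻¹ ∈ B ↔ u ∈ A) :
    ∃ g : G, (∀ t, g * t * g⁻¹ ∈ T ↔ t ∈ T) ∧ (∀ u, g * u * g⁻¹ ∈ B ↔ u ∈ A) := by
  have hS : IsSylowTwoIn T B := ⟨h.leB, h.two, by rw [h.idxB]; decide⟩
  set Q : Subgroup G := T.map (MulAut.conj n).toMonoidHom with hQ
  have hQ2 : IsPGroup 2 Q := h.two.map _
  have hQB : Q ≤ B := by
    rintro _ ⟨t, ht, rfl⟩
    exact (hn t).mpr (h.leA ht)
  obtain ⟨l, hl, hl'⟩ := Cfsg.Agent.Lib.Amalgam.JLocal.exists_conj_le hS hQB hQ2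
  have hgt : ∀ t ∈ T, (l⁻¹ * n) * t * (l⁻¹ * n)⁻¹ ∈ T := by
    intro t ht
    have := hl' _ (Subgroup.mem_map_of_mem _ ht)
    simpa [MulAut.conj_apply, mul_assoc] using this
  refine ⟨l⁻¹ * n, fun t => ⟨fun ht => ?_, hgt t⟩, fun u => ?_⟩
  · let f : T → T := fun t => ⟨_, hgt t t.2⟩
    have hf : Function.Injective f := by
      intro a b hab
      have := congrArg Subtype.val hab
      simpa [f] using this
    obtain ⟨c, hc⟩ := (Finite.surjective_of_injective hf) ⟨_, ht⟩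
    have := congrArg Subtype.val hc
    have h2 : (c : G) = t := by simpa [f] using this
    rw [← h2]
    exact c.2
  · rw [← hn u]
    have e : l⁻¹ * n * u * (l⁻¹ * n)⁻¹ = l⁻¹ * (n * u * n⁻¹) * l := by group
    rw [e]
    constructor
    · intro h1
      have := B.mul_mem (B.mul_mem hl h1) (B.inv_mem hl)
      simpa [mul_assoc] using this
    · intro h1
      exact B.mul_mem (B.mul_mem (B.inv_mem hl) h1) hl

section Conj

variable {T A B : Subgroup G} {g : G}

omit [Finite G] in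
theorem conj_inv_mem (gA : ∀ u, g * u * g⁻¹ ∈ B ↔ u ∈ A) {v : G} (hv : v ∈ B) : g⁻¹ * v * g ∈ A := by
  rw [← gA]
  simpa [mul_assoc] using hv

omit [Finite G] in
theorem Kc_conj_iff (gT : ∀ t, g * t * g⁻¹ ∈ T ↔ t ∈ T) (gA : ∀ u, g * u * g⁻¹ ∈ B ↔ u ∈ A) {x : G} :
    g * x * g⁻¹ ∈ Kc T B ↔ x ∈ Kc T A := by
  constructor
  · rintro ⟨h1, h2⟩
    refine ⟨(gA x).mp h1, fun v hv => ?_⟩
    rw [← gT]
    have := h2 (g * v * g⁻¹) ((gA v).mpr hv)
    have e : g * (v⁻¹ * x * v) * g⁻¹ = (g * v * g⁻¹)⁻¹ * (g * x * g⁻¹) * (g * v * g⁻¹) := by group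
    rw [e]
    exact this
  · rintro ⟨h1, h2⟩
    refine ⟨(gA x).mpr h1, fun v hv => ?_⟩
    have := (gT _).mpr (h2 _ (conj_inv_mem gA hv))
    have e : g * ((g⁻¹ * v * g)⁻¹ * x * (g⁻¹ * v * g)) * g⁻¹ = v⁻¹ * (g * x * g⁻¹) * v := by group
    rw [e] at this
    exact this

omit [Finite G] in
theorem norm_transfer (gT : ∀ t, g * t * g⁻¹ ∈ T ↔ t ∈ T) (gA : ∀ u, g * u * g⁻¹ ∈ B ↔ u ∈ A)
    (hN : A ≤ Subgroup.normalizer (T : Set G)) : B ≤ Subgroup.normalizer (T : Set G) := by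
  intro v hv
  have hu := conj_inv_mem gA hv
  have hu' := hN hu
  rw [Subgroup.mem_normalizer_iff] at hu'
  rw [Subgroup.mem_normalizer_iff]
  intro t
  have e : g * ((g⁻¹ * v * g) * (g⁻¹ * t * g) * (g⁻¹ * v * g)⁻¹) * g⁻¹ = v * t * v⁻¹ := by group
  have e2 : g * (g⁻¹ * t * g) * g⁻¹ = t := by group
  have h1 : t ∈ T ↔ g⁻¹ * t * g ∈ T := by rw [← gT (g⁻¹ * t * g), e2]
  rw [h1, ← e, gT, ← hu']

omit [Finite G] in
theorem norm_transfer' (gT : ∀ t, g * t * g⁻¹ ∈ T ↔ t ∈ T) (gA : ∀ u, g * u * g⁻¹ ∈ B ↔ u ∈ A)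
    (hN : B ≤ Subgroup.normalizer (T : Set G)) : A ≤ Subgroup.normalizer (T : Set G) := by
  intro u hu
  have hv := (gA u).mpr hu
  have hv' := hN hv
  rw [Subgroup.mem_normalizer_iff] at hv'
  rw [Subgroup.mem_normalizer_iff]
  intro t
  have e : g * (u * t * u⁻¹) * g⁻¹ = (g * u * g⁻¹) * (g * t * g⁻¹) * (g * u * g⁻¹)⁻¹ := by group
  rw [← gT t, ← gT (u * t * u⁻¹), e, ← hv']

end Conj

theorem card_eq {T A : Subgroup G} (hTA : T ≤ A) (h3 : T.relIndex A = 3) :
    Nat.card A = Nat.card T * 3 := by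
  have h1 := (T.subgroupOf A).card_mul_index
  have h2 : Nat.card (T.subgroupOf A) = Nat.card T :=
    Nat.card_congr (Subgroup.subgroupOfEquivOfLe hTA).toEquiv
  rw [h2, show (T.subgroupOf A).index = T.relIndex A from rfl, h3] at h1
  exact h1.symm

theorem idx2 {T A : Subgroup G} (hTA : T ≤ A) (h3 : T.relIndex A = 3)
    (hN : ¬ A ≤ Subgroup.normalizer (T : Set G)) : (Kc T A).relIndex T = 2 := by
  have hnn : ¬ (T.subgroupOf A).Normal := by
    intro hn
    apply hN
    rw [← Subgroup.normal_subgroupOf_iff_le_normalizer hTA] at *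
    exact hn
  have h6 := normalCore_index_six (T.subgroupOf A) h3 hnn
  have hk : (Kc T A).subgroupOf A = (T.subgroupOf A).normalCore := by
    ext x
    rw [Subgroup.mem_subgroupOf]
    constructor
    · intro hx b
      refine Subgroup.mem_subgroupOf.mpr ?_
      have := hx.2 (b⁻¹ : A) (b⁻¹ : A).2
      simpa [mul_assoc] using this
    · intro hx
      refine ⟨x.2, fun v hv => ?_⟩
      have := Subgroup.mem_subgroupOf.mp (hx (⟨v, hv⟩ : A)⁻¹)
      simpa [mul_assoc] using this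
  have h7 : (Kc T A).relIndex A = 6 := by
    rw [Subgroup.relIndex, hk]; exact h6
  have hmul := Subgroup.relIndex_mul_relIndex (Kc T A) T A Kc_le hTA
  rw [h7, h3] at hmul
  omega

theorem le_of_idx_three {T A N : Subgroup G} (hTA : T ≤ A) (h3 : T.relIndex A = 3) (hTN : T ≤ N)
    {y : G} (hyA : y ∈ A) (hyT : y ∉ T) (hyN : y ∈ N) : A ≤ N := by
  have h1 : T ≤ A ⊓ N := le_inf hTA hTN
  have hmul := Subgroup.relIndex_mul_relIndex T (A ⊓ N) A h1 inf_le_left
  rw [h3] at hmul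
  have hd : T.relIndex (A ⊓ N) ∣ 3 := ⟨_, hmul.symm⟩
  rcases (Nat.dvd_prime Nat.prime_three).mp hd with h | h
  · rw [Subgroup.relIndex_eq_one] at h
    exact absurd (h ⟨hyA, hyN⟩) hyT
  · rw [h] at hmul
    have h2 : (A ⊓ N).relIndex A = 1 := by omega
    rw [Subgroup.relIndex_eq_one] at h2
    exact fun x hx => (h2 hx).2

theorem exists_y_of_cen {T A : Subgroup G} {x : G} (hxA : x ∈ A) (hxK : x ∉ Kc T A)
    (hc : ∀ k ∈ Kc T A, x * k = k * x) : ∃ y ∈ A, y ∉ T ∧ ∀ k ∈ Kc T A, y * k = k * y := by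
  by_contra hcon
  push Not at hcon
  apply hxK
  refine ⟨hxA, fun v hv => ?_⟩
  by_contra hnot
  obtain ⟨k, hk, hne⟩ := hcon (v⁻¹ * x * v) (A.mul_mem (A.mul_mem (A.inv_mem hv) hxA) hv) hnot
  apply hne
  have := hc (v * k * v⁻¹) (Kc_conj' hk hv)
  calc v⁻¹ * x * v * k = v⁻¹ * (x * (v * k * v⁻¹)) * v := by group
    _ = v⁻¹ * ((v * k * v⁻¹) * x) * v := by rw [this]
    _ = k * (v⁻¹ * x * v) := by group

/-- Recognition of the dihedral group of order 12. -/
theorem dihedral_rec {H : Type*} [Group H] [Finite H] (hcard : Nat.card H = 12) (z w y : H) (hz : z ≠ 1)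
    (hzz : z * z = 1) (hzc : ∀ u, u * z = z * u) (hw : w * w = 1) (hy : orderOf y = 3)
    (hwy : w * y * w⁻¹ = y⁻¹) : Nonempty (H ≃* DihedralGroup 6) := by
  have hoz : orderOf z = 2 := orderOf_eq_prime (by rw [pow_two]; exact hzz) hz
  have hcomm : Commute z y := (hzc y).symm
  have hord : orderOf (z * y) = 6 := by
    rw [hcomm.orderOf_mul_eq_mul_orderOf_of_coprime (by rw [hoz, hy]; norm_num), hoz, hy]
  have hzi : z⁻¹ = z := inv_eq_of_mul_eq_one_left hzz
  have hinv : w * (z * y) * w⁻¹ = (z * y)⁻¹ := by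
    have h1 : w * (z * y) * w⁻¹ = (w * z * w⁻¹) * (w * y * w⁻¹) := by group
    have h0 : w * z * w⁻¹ = z := by rw [hzc w, mul_assoc, mul_inv_cancel, mul_one]
    rw [h1, hwy, h0, mul_inv_rev, hzi]
    exact (hzc _).symm
  refine Cfsg.Agent.Lib.PGroup.CyclicMax.dihedralEquivOfGens 6 (by rw [hcard]) (z * y) w hord hw hinv ?_
  intro hmem
  obtain ⟨n, hn⟩ := Subgroup.mem_zpowers_iff.mp hmem
  have hc : Commute w (z * y) := by
    rw [← hn]
    exact (Commute.zpow_left (Commute.refl (z * y)) n)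
  have h2 : (z * y) * (z * y) = 1 := by
    have h3 : w * (z * y) * w⁻¹ = z * y := by
      rw [hc.eq, mul_assoc, mul_inv_cancel, mul_one]
    rw [hinv] at h3
    calc (z * y) * (z * y) = (z * y) * (z * y)⁻¹ := by rw [h3]
      _ = 1 := by group
  have h3 : orderOf (z * y) ∣ 2 := orderOf_dvd_of_pow_eq_one (by rw [pow_two]; exact h2)
  rw [hord] at h3
  omega

theorem exists_central_inv {T : Subgroup G} (hT2 : IsPGroup 2 T) (hne : T ≠ ⊥) :
    ∃ z ∈ T, z ≠ 1 ∧ z * z = 1 ∧ ∀ t ∈ T, t * z = z * t := by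
  haveI : Nontrivial T := (Subgroup.nontrivial_iff_ne_bot T).mpr hne
  haveI : Nontrivial (Subgroup.center T) := hT2.center_nontrivial
  have hZ2 : IsPGroup 2 (Subgroup.center T) := hT2.to_subgroup _
  obtain ⟨k, hk⟩ := IsPGroup.iff_card.mp hZ2
  have h1 : Nat.card (Subgroup.center T) ≠ 1 := Finite.one_lt_card.ne'
  have hk0 : k ≠ 0 := by
    rintro rfl
    simp at hk
    exact h1 (by simp [hk])
  have hd : 2 ∣ Nat.card (Subgroup.center T) := by
    rw [hk]; exact dvd_pow_self 2 hk0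
  obtain ⟨z, hz⟩ := exists_prime_orderOf_dvd_card' 2 hd
  have hz1 : z ^ 2 = 1 := by rw [← hz]; exact pow_orderOf_eq_one z
  have hzne : z ≠ 1 := by
    rintro rfl
    simp at hz
  refine ⟨((z : T) : G), (z : T).2, ?_, ?_, fun t ht => ?_⟩
  · intro h0
    apply hzne
    ext
    exact h0
  · have := congrArg (fun c : Subgroup.center T => (((c : T) : G))) hz1
    simpa [pow_two] using this
  · have := (Subgroup.mem_center_iff.mp z.2) ⟨t, ht⟩
    have := congrArg Subtype.val this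
    simpa using this

end Cfsg.Agent.Lib.Amalgam.Sims3
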