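import Mathlib
import Cfsg.Agent.Lib.Amalgam.Sims3

/-!
# Sims' theorem on suborbits of length three: the cases
-/

set_option autoImplicit false
set_option linter.unusedSectionVars false
set_option linter.style.haveILetI false

namespace Cfsg.Agent.Lib.Amalgam.Sims3

open Cfsg Cfsg.Agent.Lib.Amalgam.Gold Cfsg.Agent.Lib.Amalgam.Strad

variable {G : Type*} [Group G] [Finite G]

variable {T A B : Subgroup G} {g : G}

/-- The case `T` normal in `A`. -/
theorem case_normal (h : Setup T A B) (gT : ∀ t, g * t * g⁻¹ ∈ T ↔ t ∈ T)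
    (gA : ∀ u, g * u * g⁻¹ ∈ B ↔ u ∈ A) (hN : A ≤ Subgroup.normalizer (T : Set G)) :
    Nonempty (A ≃* Multiplicative (ZMod 3)) := by
  have hbot := h.core T le_rfl hN (norm_transfer gT gA hN)
  have hc : Nat.card A = 3 := by
    have := card_eq h.leA h.idxA
    rw [hbot] at this
    simpa using this
  haveI : Fact (Nat.Prime 3) := ⟨Nat.prime_three⟩
  exact ⟨mulEquivOfPrimeCardEq hc (by simp)⟩

/-- The case of equal cores. -/
theorem case_eq (h : Setup T A B) (hN : ¬ A ≤ Subgroup.normalizer (T : Set G))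
    (hKK : Kc T A = Kc T B) : Nonempty (A ≃* Equiv.Perm (Fin 3)) := by
  have hbot : Kc T A = ⊥ := by
    refine h.core _ Kc_le le_normalizer_Kc ?_
    rw [hKK]
    exact le_normalizer_Kc
  have hT2 : Nat.card T = 2 := by
    have := idx2 h.leA h.idxA hN
    rw [hbot, Subgroup.relIndex_bot_left] at this
    exact this
  have hA : Nat.card A = 6 := by
    rw [card_eq h.leA h.idxA, hT2]
  obtain ⟨ψ, p, hp, hk⟩ := exists_psi h.idxA
  have hinj : Function.Injective ψ := by
    rw [injective_iff_map_eq_one]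
    intro u hu
    have := (hk u).mp hu
    rw [hbot] at this
    ext
    simpa using this
  have hcard : Nat.card (Equiv.Perm (Fin 3)) ≤ Nat.card A := by
    rw [hA, Nat.card_perm]
    simp [Nat.factorial]
  exact ⟨MulEquiv.ofBijective ψ (hinj.bijective_of_nat_card_le hcard)⟩

/-- The dihedral case. -/
theorem case_alpha (h : Setup T A B) (gT : ∀ t, g * t * g⁻¹ ∈ T ↔ t ∈ T)
    (gA : ∀ u, g * u * g⁻¹ ∈ B ↔ u ∈ A) (hN : ¬ A ≤ Subgroup.normalizer (T : Set G))
    (hKK : Kc T A ≠ Kc T B) {x : G} (hxA : x ∈ A) (hxK : x ∉ Kc T A)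
    (hc : ∀ k ∈ Kc T A, x * k = k * x) : Nonempty (A ≃* DihedralGroup 6) := by
  have hNB : ¬ B ≤ Subgroup.normalizer (T : Set G) := fun hh => hN (norm_transfer' gT gA hh)
  obtain ⟨y, hyA, hyT, hy⟩ := exists_y_of_cen hxA hxK hc
  have hyB : g * y * g⁻¹ ∈ B := (gA y).mpr hyA
  have hyT' : g * y * g⁻¹ ∉ T := fun hh => hyT ((gT y).mp hh)
  have hy' : ∀ k ∈ Kc T B, (g * y * g⁻¹) * k = k * (g * y * g⁻¹) := by
    intro k hk
    have h1 : g⁻¹ * k * g ∈ Kc T A := by
      rw [← Kc_conj_iff gT gA]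
      simpa [mul_assoc] using hk
    have h2 := hy _ h1
    calc (g * y * g⁻¹) * k = g * (y * (g⁻¹ * k * g)) * g⁻¹ := by group
      _ = g * ((g⁻¹ * k * g) * y) * g⁻¹ := by rw [h2]
      _ = k * (g * y * g⁻¹) := by group
  set K := Kc T A with hK
  set K' := Kc T B with hK'
  set R := K ⊓ K' with hR
  have hRT : R ≤ T := inf_le_left.trans Kc_le
  have hTN : T ≤ Subgroup.normalizer (R : Set G) := by
    intro t ht
    apply mem_normalizer_of_conj
    · exact fun r hr => ⟨Kc_conj' hr.1 (h.leA ht), Kc_conj' hr.2 (h.leB ht)⟩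
    · intro r hr
      have h1 := Kc_conj hr.1 (h.leA ht)
      have h2 := Kc_conj hr.2 (h.leB ht)
      exact ⟨h1, h2⟩
  have hcenR : ∀ {u : G}, (∀ r ∈ R, u * r = r * u) → u ∈ Subgroup.normalizer (R : Set G) := by
    intro u hu
    apply mem_normalizer_of_conj
    · intro r hr
      rw [hu r hr]
      simpa using hr
    · intro r hr
      have := hu r hr
      have e : u⁻¹ * r * u = r := by
        rw [mul_assoc, ← this]
        simp
      rw [e]
      exact hr
  have hAR : A ≤ Subgroup.normalizer (R : Set G) :=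
    le_of_idx_three h.leA h.idxA hTN hyA hyT (hcenR fun r hr => hy r hr.1)
  have hBR : B ≤ Subgroup.normalizer (R : Set G) :=
    le_of_idx_three h.leB h.idxB hTN hyB hyT' (hcenR fun r hr => hy' r hr.2)
  have hRbot : R = ⊥ := h.core R hRT hAR hBR
  have hK2 : K.relIndex T = 2 := idx2 h.leA h.idxA hN
  have hK2' : K'.relIndex T = 2 := idx2 h.leB h.idxB hNB
  have hle : Nat.card T ≤ 4 := by
    have := Subgroup.relIndex_inf_le (H := K) (K := K') (L := T)
    rw [← hR, hRbot, Subgroup.relIndex_bot_left, hK2, hK2'] at this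
    exact this
  have hcK : Nat.card T = 2 * Nat.card K := by
    have h1 := (K.subgroupOf T).card_mul_index
    have h2 : Nat.card (K.subgroupOf T) = Nat.card K :=
      Nat.card_congr (Subgroup.subgroupOfEquivOfLe Kc_le).toEquiv
    rw [h2, show (K.subgroupOf T).index = K.relIndex T from rfl, hK2] at h1
    omega
  have hcK' : Nat.card T = 2 * Nat.card K' := by
    have h1 := (K'.subgroupOf T).card_mul_index
    have h2 : Nat.card (K'.subgroupOf T) = Nat.card K' :=
      Nat.card_congr (Subgroup.subgroupOfEquivOfLe Kc_le).toEquiv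
    rw [h2, show (K'.subgroupOf T).index = K'.relIndex T from rfl, hK2'] at h1
    omega
  have hKpos : 0 < Nat.card K := Nat.card_pos
  have hKne1 : Nat.card K ≠ 1 := by
    intro h1
    apply hKK
    have h2 : Nat.card K' = 1 := by omega
    rw [Subgroup.card_eq_one.mp h1, Subgroup.card_eq_one.mp h2]
  have hKc : Nat.card K = 2 := by omega
  have hKc' : Nat.card K' = 2 := by omega
  have hTc : Nat.card T = 4 := by omega
  have hAc : Nat.card A = 12 := by rw [card_eq h.leA h.idxA, hTc]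
  -- the central involution
  have hKnt : K ≠ ⊥ := by
    intro h0
    rw [h0] at hKc
    simp at hKc
  obtain ⟨z₀, hz₀⟩ := (Subgroup.ne_bot_iff_exists_ne_one (H := K)).mp hKnt
  set z : G := (z₀ : G) with hzdef
  have hzK : z ∈ K := z₀.2
  have hz1 : z ≠ 1 := fun h0 => hz₀ (Subtype.ext h0)
  have hKel : ∀ k ∈ K, k = 1 ∨ k = z := by
    intro k hk
    by_cases hk1 : k = 1
    · exact Or.inl hk1
    · right
      obtain ⟨y0, -, hy0⟩ := (Nat.card_eq_two_iff' (1 : K)).mp hKc
      have h1 : (⟨k, hk⟩ : K) = y0 := hy0 _ (fun h0 => hk1 (congrArg Subtype.val h0))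
      have h2 : z₀ = y0 := hy0 _ hz₀
      have h3 : (⟨k, hk⟩ : K) = z₀ := h1.trans h2.symm
      exact congrArg Subtype.val h3
  have hKsq : ∀ k ∈ K, k * k = 1 := by
    intro k hk
    have := pow_card_eq_one' (x := (⟨k, hk⟩ : K))
    rw [hKc] at this
    have := congrArg Subtype.val this
    simpa [pow_two] using this
  have hK'sq : ∀ k ∈ K', k * k = 1 := by
    intro k hk
    have := pow_card_eq_one' (x := (⟨k, hk⟩ : K'))
    rw [hKc'] at this
    have := congrArg Subtype.val this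
    simpa [pow_two] using this
  have hzc : ∀ u ∈ A, u * z = z * u := by
    intro u hu
    have h1 : u * z * u⁻¹ ∈ K := Kc_conj' hzK hu
    rcases hKel _ h1 with h2 | h2
    · exfalso
      apply hz1
      have : z = u⁻¹ * (u * z * u⁻¹) * u := by group
      rw [this, h2]
      group
    · calc u * z = (u * z * u⁻¹) * u := by group
        _ = z * u := by rw [h2]
  -- the element of `K'` outside `K`
  have hw : ∃ w ∈ K', w ∉ K := by
    by_contra hcon
    push Not at hcon
    apply hKK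
    exact (Subgroup.eq_of_le_of_card_ge (H := K') (K := K) hcon (by omega)).symm
  obtain ⟨w, hwK', hwK⟩ := hw
  have hwT : w ∈ T := Kc_le hwK'
  have hwA : w ∈ A := h.leA hwT
  -- an element of order three
  obtain ⟨y₁, hy₁⟩ := exists_prime_orderOf_dvd_card' (G := A) 3 (by rw [hAc]; norm_num)
  have hy₁G : orderOf (y₁ : G) = 3 := by
    rw [← Subgroup.orderOf_coe] at hy₁
    exact hy₁
  have hy₁T : (y₁ : G) ∉ T := by
    intro hmem
    have := Subgroup.orderOf_dvd_natCard T hmem
    rw [hy₁G, hTc] at this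
    omega
  obtain ⟨ψ, p, hp, hk⟩ := exists_psi h.idxA
  have hψy : ψ y₁ ≠ 1 := fun h0 => hy₁T (Kc_le ((hk y₁).mp h0))
  have hψy3 : ψ y₁ ^ 3 = 1 := by
    have h0 : y₁ ^ 3 = 1 := by
      have := pow_orderOf_eq_one y₁
      rwa [hy₁] at this
    rw [← map_pow, h0, map_one]
  have hψwp : ψ ⟨w, hwA⟩ p = p := (hp ⟨w, hwA⟩).mpr hwT
  have hψw : ψ ⟨w, hwA⟩ ≠ 1 := fun h0 => hwK ((hk ⟨w, hwA⟩).mp h0)
  have hinv := perm3_inv _ _ _ hψy3 hψy hψwp hψw
  have hcK : (w * y₁ * w⁻¹ * y₁ : G) ∈ K := by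
    have h1 : ψ ((⟨w, hwA⟩ : A) * y₁ * (⟨w, hwA⟩ : A)⁻¹ * y₁) = 1 := by
      rw [map_mul, map_mul, map_mul, map_inv]
      exact hinv
    exact (hk _).mp h1
  have hwsq : w * w = 1 := hK'sq w hwK'
  have hwy : w * (y₁ : G) * w⁻¹ = (y₁ : G)⁻¹ := by
    rcases hKel _ hcK with h1 | h1
    · exact eq_inv_of_mul_eq_one_left h1
    · exfalso
      apply hz1
      -- `w y w⁻¹ = z y⁻¹`
      have h2 : w * (y₁ : G) * w⁻¹ = z * (y₁ : G)⁻¹ := by
        rw [← h1]
        group
      have hy3 : (y₁ : G) ^ 3 = 1 := by rw [← hy₁G]; exact pow_orderOf_eq_one _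
      have h3 : (w * (y₁ : G) * w⁻¹) ^ 3 = 1 := by
        have : (w * (y₁ : G) * w⁻¹) ^ 3 = w * (y₁ : G) ^ 3 * w⁻¹ := by
          simp [pow_succ, mul_assoc]
        rw [this, hy3]
        group
      rw [h2] at h3
      have hcm : Commute z ((y₁ : G)⁻¹) := by
        have := hzc _ (A.inv_mem y₁.2)
        exact this.symm
      rw [hcm.mul_pow] at h3
      have hz3 : z ^ 3 = z := by
        rw [pow_succ, pow_two, hKsq z hzK, one_mul]
      rw [hz3, inv_pow, hy3, inv_one, mul_one] at h3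
      exact h3
  refine dihedral_rec hAc ⟨z, Kc_le_A hzK⟩ ⟨w, hwA⟩ y₁ ?_ ?_ ?_ ?_ hy₁ ?_
  · exact fun h0 => hz1 (congrArg Subtype.val h0)
  · exact Subtype.ext (hKsq z hzK)
  · intro u
    exact Subtype.ext (hzc u u.2)
  · exact Subtype.ext hwsq
  · exact Subtype.ext hwy

/-- Absence of non-central involutions is impossible. -/
theorem exists_nc (h : Setup T A B) (gT : ∀ t, g * t * g⁻¹ ∈ T ↔ t ∈ T)
    (gA : ∀ u, g * u * g⁻¹ ∈ B ↔ u ∈ A) (hne : T ≠ ⊥) :
    ∃ u ∈ A, ∃ z ∈ T, (∀ t ∈ T, t * z = z * t) ∧ z * z = 1 ∧ u * z ≠ z * u := by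
  by_contra hcon
  push Not at hcon
  set S : Set G := {z | z ∈ T ∧ (∀ t ∈ T, t * z = z * t) ∧ z * z = 1} with hS
  have hcl : Subgroup.closure S ≤ T := (Subgroup.closure_le _).mpr (fun x hx => hx.1)
  have hnorm : ∀ (X : Subgroup G), (∀ u ∈ X, ∀ z ∈ S, u * z = z * u) →
      X ≤ Subgroup.normalizer (Subgroup.closure S : Set G) := by
    intro X hX u hu
    apply mem_normalizer_of_conj
    · intro x hx
      induction hx using Subgroup.closure_induction with
      | mem x hx =>
        rw [hX u hu x hx]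
        simpa using Subgroup.subset_closure hx
      | one => simp
      | mul a b _ _ ha hb =>
        have := Subgroup.mul_mem _ ha hb
        simpa [mul_assoc] using this
      | inv a _ ha =>
        have := Subgroup.inv_mem _ ha
        simpa [mul_assoc] using this
    · intro x hx
      induction hx using Subgroup.closure_induction with
      | mem x hx =>
        have h1 := hX u hu x hx
        have e : u⁻¹ * x * u = x := by
          rw [mul_assoc, ← h1]
          simp
        rw [e]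
        exact Subgroup.subset_closure hx
      | one => simp
      | mul a b _ _ ha hb =>
        have := Subgroup.mul_mem _ ha hb
        simpa [mul_assoc] using this
      | inv a _ ha =>
        have := Subgroup.inv_mem _ ha
        simpa [mul_assoc] using this
  have hA : ∀ u ∈ A, ∀ z ∈ S, u * z = z * u := fun u hu z hz => hcon u hu z hz.1 hz.2.1 hz.2.2
  have hB : ∀ v ∈ B, ∀ z ∈ S, v * z = z * v := by
    intro v hv z hz
    have hu := conj_inv_mem gA hv
    have hz' : g⁻¹ * z * g ∈ S := by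
      refine ⟨?_, fun t ht => ?_, ?_⟩
      · rw [← gT]
        have : g * (g⁻¹ * z * g) * g⁻¹ = z := by group
        rw [this]
        exact hz.1
      · have h1 := hz.2.1 (g * t * g⁻¹) ((gT t).mpr ht)
        calc t * (g⁻¹ * z * g) = g⁻¹ * ((g * t * g⁻¹) * z) * g := by group
          _ = g⁻¹ * (z * (g * t * g⁻¹)) * g := by rw [h1]
          _ = (g⁻¹ * z * g) * t := by group
      · have h1 := hz.2.2
        calc (g⁻¹ * z * g) * (g⁻¹ * z * g) = g⁻¹ * (z * z) * g := by group
          _ = 1 := by rw [h1]; group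
    have h2 := hA _ hu _ hz'
    calc v * z = g * ((g⁻¹ * v * g) * (g⁻¹ * z * g)) * g⁻¹ := by group
      _ = g * ((g⁻¹ * z * g) * (g⁻¹ * v * g)) * g⁻¹ := by rw [h2]
      _ = z * v := by group
  have hbot := h.core _ hcl (hnorm A hA) (hnorm B hB)
  obtain ⟨z, hzT, hz1, hzz, hzc⟩ := exists_central_inv h.two hne
  have : z ∈ Subgroup.closure S := Subgroup.subset_closure ⟨hzT, hzc, hzz⟩
  rw [hbot] at this
  exact hz1 (by simpa using this)

/-- The hypothesis of the amalgam theorem. -/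
theorem hypQ_Kc {X : Subgroup G} (hTX : T ≤ X) (h3 : T.relIndex X = 3)
    (hN : ¬ X ≤ Subgroup.normalizer (T : Set G)) (hcen : ∀ x ∈ X, (∀ k ∈ Kc T X, x * k = k * x) → x ∈ Kc T X)
    (hnc : ∃ u ∈ X, ∃ z ∈ T, (∀ t ∈ T, t * z = z * t) ∧ z * z = 1 ∧ u * z ≠ z * u) :
    HypQ T X (Kc T X) where
  le := hTX
  qle := Kc_le
  idx3 := h3
  idx2 := idx2 hTX h3 hN
  core := fun _ hg hc => ⟨hg, hc⟩
  qcore := fun _ hg _ hp => Kc_conj hg hp
  cen := hcen
  nc := hnc

/-- The main group-theoretic statement. -/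
theorem main (h : Setup T A B) (gT : ∀ t, g * t * g⁻¹ ∈ T ↔ t ∈ T)
    (gA : ∀ u, g * u * g⁻¹ ∈ B ↔ u ∈ A) :
    Nonempty (A ≃* Multiplicative (ZMod 3)) ∨ Nonempty (A ≃* Equiv.Perm (Fin 3)) ∨
      Nonempty (A ≃* DihedralGroup 6) ∨ Nonempty (A ≃* Equiv.Perm (Fin 4)) ∨
      Nonempty (A ≃* Multiplicative (ZMod 2) × Equiv.Perm (Fin 4)) := by
  by_cases hN : A ≤ Subgroup.normalizer (T : Set G)
  · exact Or.inl (case_normal h gT gA hN)
  by_cases hKK : Kc T A = Kc T B
  · exact Or.inr (Or.inl (case_eq h hN hKK))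
  by_cases hc : ∃ x ∈ A, x ∉ Kc T A ∧ ∀ k ∈ Kc T A, x * k = k * x
  · obtain ⟨x, hxA, hxK, hx⟩ := hc
    exact Or.inr (Or.inr (Or.inl (case_alpha h gT gA hN hKK hxA hxK hx)))
  push Not at hc
  have hNB : ¬ B ≤ Subgroup.normalizer (T : Set G) := fun hh => hN (norm_transfer' gT gA hh)
  have hcenA : ∀ x ∈ A, (∀ k ∈ Kc T A, x * k = k * x) → x ∈ Kc T A := by
    intro x hx hk
    by_contra hcon
    obtain ⟨k, hk', hne⟩ := hc x hx hcon
    exact hne (hk k hk')
  have hcenB : ∀ x ∈ B, (∀ k ∈ Kc T B, x * k = k * x) → x ∈ Kc T B := by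
    intro x hx hk
    have h1 : g⁻¹ * x * g ∈ Kc T A := by
      refine hcenA _ (conj_inv_mem gA hx) fun k hk' => ?_
      have h2 := hk _ ((Kc_conj_iff gT gA).mpr hk')
      calc (g⁻¹ * x * g) * k = g⁻¹ * (x * (g * k * g⁻¹)) * g := by group
        _ = g⁻¹ * ((g * k * g⁻¹) * x) * g := by rw [h2]
        _ = k * (g⁻¹ * x * g) := by group
    have h2 := (Kc_conj_iff gT gA).mpr h1
    have e : g * (g⁻¹ * x * g) * g⁻¹ = x := by group
    rwa [e] at h2
  have hne : T ≠ ⊥ := by
    intro h0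
    apply hN
    rw [h0]
    intro u _
    rw [Subgroup.mem_normalizer_iff]
    intro t
    simp only [Subgroup.mem_bot]
    constructor
    · rintro rfl; simp
    · intro h1
      have : t = u⁻¹ * (u * t * u⁻¹) * u := by group
      rw [this, h1]
      simp
  obtain ⟨u, hu, z, hz, hzc, hzz, hne'⟩ := exists_nc h gT gA hne
  have hncB : ∃ v ∈ B, ∃ z ∈ T, (∀ t ∈ T, t * z = z * t) ∧ z * z = 1 ∧ v * z ≠ z * v := by
    refine ⟨g * u * g⁻¹, (gA u).mpr hu, g * z * g⁻¹, (gT z).mpr hz, fun t ht => ?_, ?_, ?_⟩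
    · have h1 : g⁻¹ * t * g ∈ T := by
        rw [← gT]
        have : g * (g⁻¹ * t * g) * g⁻¹ = t := by group
        rwa [this]
      have h2 := hzc _ h1
      calc t * (g * z * g⁻¹) = g * ((g⁻¹ * t * g) * z) * g⁻¹ := by group
        _ = g * (z * (g⁻¹ * t * g)) * g⁻¹ := by rw [h2]
        _ = (g * z * g⁻¹) * t := by group
    · calc (g * z * g⁻¹) * (g * z * g⁻¹) = g * (z * z) * g⁻¹ := by group
        _ = 1 := by rw [hzz]; group
    · intro h1
      apply hne'
      have h2 : g * (u * z) * g⁻¹ = g * (z * u) * g⁻¹ := by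
        calc g * (u * z) * g⁻¹ = (g * u * g⁻¹) * (g * z * g⁻¹) := by group
          _ = (g * z * g⁻¹) * (g * u * g⁻¹) := h1
          _ = g * (z * u) * g⁻¹ := by group
      simpa using h2
  have HA := hypQ_Kc h.leA h.idxA hN hcenA ⟨u, hu, z, hz, hzc, hzz, hne'⟩
  have HB := hypQ_Kc h.leB h.idxB hNB hcenB hncB
  obtain ⟨-, -, hh⟩ := amalgam_facts h.hT h.two HA HB h.core
  rcases hh with ⟨-, -, he, -⟩ | ⟨-, -, he, -⟩
  · exact Or.inr (Or.inr (Or.inr (Or.inl he)))
  · exact Or.inr (Or.inr (Or.inr (Or.inr he)))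

variable {Ω : Type*} [MulAction G Ω] [FaithfulSMul G Ω]

/-- The suborbit data give the setup. -/
theorem setup_of_suborbit (hprim : MulAction.IsPreprimitive G Ω) (a b : Ω)
    (h3 : Nat.card (MulAction.orbit (MulAction.stabilizer G a) b) = 3) :
    Nonempty (MulAction.stabilizer G a ≃* Multiplicative (ZMod 3)) ∨
      Nonempty (MulAction.stabilizer G a ≃* Equiv.Perm (Fin 3)) ∨
      Nonempty (MulAction.stabilizer G a ≃* DihedralGroup 6) ∨
      Nonempty (MulAction.stabilizer G a ≃* Equiv.Perm (Fin 4)) ∨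
      Nonempty (MulAction.stabilizer G a ≃* Multiplicative (ZMod 2) × Equiv.Perm (Fin 4)) := by
  haveI := hprim
  set A := MulAction.stabilizer G a with hA
  set B := MulAction.stabilizer G b with hB
  set T := A ⊓ B with hT
  have hTA : T ≤ A := inf_le_left
  have hTB : T ≤ B := inf_le_right
  have idxA : T.relIndex A = 3 := by
    have h1 : T.subgroupOf A = MulAction.stabilizer A b := by
      ext x
      rw [Subgroup.mem_subgroupOf, MulAction.mem_stabilizer_iff]
      constructor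
      · intro hx
        exact hx.2
      · intro hx
        exact ⟨x.2, hx⟩
    rw [Subgroup.relIndex, h1, MulAction.index_stabilizer]
    rw [← h3]
    rfl
  obtain ⟨n, hn⟩ := MulAction.exists_smul_eq G a b
  have hconj : ∀ u, n * u * n⁻¹ ∈ B ↔ u ∈ A := by
    intro u
    rw [hB, hA, MulAction.mem_stabilizer_iff, MulAction.mem_stabilizer_iff, ← hn]
    rw [mul_smul, mul_smul, inv_smul_smul, smul_left_cancel_iff]
  have hcardAB : Nat.card A = Nat.card B := by
    refine Nat.card_congr ⟨fun u => ⟨n * u * n⁻¹, (hconj u).mpr u.2⟩,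
      fun v => ⟨n⁻¹ * v * n, by rw [← hconj]; simp [mul_assoc]⟩, fun u => ?_, fun v => ?_⟩
    · ext
      simp [mul_assoc]
    · ext
      simp [mul_assoc]
  have idxB : T.relIndex B = 3 := by
    have h1 := (T.subgroupOf B).card_mul_index
    have h2 : Nat.card (T.subgroupOf B) = Nat.card T :=
      Nat.card_congr (Subgroup.subgroupOfEquivOfLe hTB).toEquiv
    rw [h2, show (T.subgroupOf B).index = T.relIndex B from rfl, ← hcardAB, card_eq hTA idxA] at h1
    have hpos : 0 < Nat.card T := Nat.card_pos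
    exact Nat.eq_of_mul_eq_mul_left hpos h1
  have hab : a ≠ b := by
    rintro rfl
    have : A ≤ T := le_inf le_rfl le_rfl
    have h1 : T.relIndex A = 1 := Subgroup.relIndex_eq_one.mpr this
    omega
  haveI : Nontrivial Ω := ⟨a, b, hab⟩
  have hco : IsCoatom A := (MulAction.isCoatom_stabilizer_iff_preprimitive G a).mpr hprim
  have hnle : ¬ B ≤ A := by
    intro hle
    have h1 : B = A := Subgroup.eq_of_le_of_card_ge hle hcardAB.le
    have h2 : A ≤ T := le_inf le_rfl (by rw [h1])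
    have h3' : T.relIndex A = 1 := Subgroup.relIndex_eq_one.mpr h2
    omega
  have hsup : A ⊔ B = ⊤ := hco.2 _ (lt_of_le_of_ne le_sup_left (fun e => hnle (by
    rw [e]; exact le_sup_right)))
  have hcore : ∀ N : Subgroup G, N ≤ T → A ≤ Subgroup.normalizer (N : Set G) →
      B ≤ Subgroup.normalizer (N : Set G) → N = ⊥ := by
    intro N hNT hNA hNB
    have hnorm : Subgroup.normalizer (N : Set G) = ⊤ := by
      rw [eq_top_iff, ← hsup]
      exact sup_le hNA hNB
    rw [eq_bot_iff]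
    intro x hx
    rw [Subgroup.mem_bot]
    apply FaithfulSMul.eq_of_smul_eq_smul (α := Ω)
    intro ω
    obtain ⟨h', rfl⟩ := MulAction.exists_smul_eq G a ω
    rw [one_smul]
    have h1 : h'⁻¹ ∈ Subgroup.normalizer (N : Set G) := by rw [hnorm]; trivial
    have h2 : h'⁻¹ * x * h' ∈ N := by
      have := (Subgroup.mem_normalizer_iff.mp h1 x).mp hx
      simpa using this
    have h3' : h'⁻¹ * x * h' ∈ A := hTA (hNT h2)
    have h4 : (h'⁻¹ * x * h') • a = a := h3'
    calc x • h' • a = h' • (h'⁻¹ * x * h') • a := by simp [mul_smul]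
      _ = h' • a := by rw [h4]
  have hS : Setup T A B := ⟨rfl, idxA, idxB, hcore⟩
  obtain ⟨g, gT, gA⟩ := exists_g hS hconj
  exact main hS gT gA

end Cfsg.Agent.Lib.Amalgam.Sims3
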